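import Cfsg.Agent.Mrg.Omega.NO3S.ML
import Cfsg.Agent.Omega.NO3S.EThree.MinOff
import Cfsg.Agent.MinSimple.VModule
import Cfsg.Agent.ZN.Facts

section


/-!
# (E), `k ≥ 3`: RANK (helper474, THEOREM K3 #22123 (1); helper574 #22296)

Pure group theory. `O` is any subgroup, `N ≤ O` elementary abelian with `(NO)` for the elementary abelian
subgroups of `O` (`NoOn O N`), `Q := O ⊓ C(N)`.

* `NoOn O N` : `|A : C_A(N)| ≤ |N : C_N(A)|` for all elementary abelian `A ≤ O`;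
* `exch` : `A ∈ AA(O)`: `|A : C_A(N)| = |N : C_N(A)|`, `C_N(A) ≤ A`, `C_A(N) N ∈ AA(Q) ∩ AA(O)`;
* `mm_inf`, `mem_AA_of_inf`, `jj_inf_le` : `AA(Q) ⊆ AA(O)`;
* `exists_moving` : `|J(Q₁)| = |J(Q₂)|`, `J(Q₁) ≠ J(Q₂)`: some member of `AA(Q₁)` moves `N₂`;
* `le_of_mem` : `A ∈ AA(O)` offends every elementary abelian `E ≤ O`: `|E : C_E(A)| ≤ |A : C_A(E)|`.
-/

set_option autoImplicit false
set_option linter.unusedSectionVars false

namespace Cfsg.Agent.Omega.EK3.Rank

open Subgroup Cfsg Cfsg.Agent.ZN Cfsg.Agent.Omega.MinPar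
open Cfsg.Agent.Omega.NO3S.EThree Cfsg.Agent.Omega.NO3S.EThree.ExactA
open Cfsg.Agent.ZN.ChoiceBase (AA mm mm_eq mem_AA_iff AA_nonempty card_le_mm cj cj_mem_AA mm_cj mm_mono jj_eq jj_le
  le_jj jj_mono jj_cj cj_inf cj_centralizer card_cj)
open Cfsg.Agent.Omega.NoFF.Basic (comm_symm comm_mono)
open Cfsg.Agent.Omega.NO3S.ML (card_mul_relIndex card_sup_mul_of_comm)

universe u

variable {G : Type u} [Group G]

/-- `(NO)` on `N` for the elementary abelian subgroups of `O`. -/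
def NoOn (O N : Subgroup G) : Prop :=
  ∀ A : Subgroup G, IsElementaryAbelian 2 A → A ≤ O →
    (centralizer (N : Set G)).relIndex A ≤ (centralizer (A : Set G)).relIndex N

theorem NoOn.mono {O O' N : Subgroup G} (h : NoOn O N) (hO : O' ≤ O) : NoOn O' N :=
  fun A hA hAO => h A hA (hAO.trans hO)

variable [Finite G]

section one

variable {O N : Subgroup G} (hN : IsElementaryAbelian 2 N) (hNO : N ≤ O) (h : NoOn O N)
include hN hNO h

/-- `A ∈ AA(O)`: equality, `C_N(A) ≤ A`, `C_A(N) N ∈ AA(O)`. -/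
theorem exch {A : Subgroup G} (hA : A ∈ AA O) :
    (centralizer (N : Set G)).relIndex A = (centralizer (A : Set G)).relIndex N ∧
      N ⊓ centralizer (A : Set G) ≤ A ∧ (A ⊓ centralizer (N : Set G)) ⊔ N ∈ AA O :=
  swp hN hNO hA (h A hA.1 hA.2.1)

theorem sup_le_inf {A : Subgroup G} (hA : A ≤ O) :
    (A ⊓ centralizer (N : Set G)) ⊔ N ≤ O ⊓ centralizer (N : Set G) :=
  le_inf (sup_le (inf_le_left.trans hA) hNO) (sup_le inf_le_right (eab_iff.1 hN).1)

/-- `r(Q) = r(O)` -/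
theorem mm_inf : mm (O ⊓ centralizer (N : Set G)) = mm O := by
  refine le_antisymm (mm_mono inf_le_left) ?_
  obtain ⟨A, hA⟩ := AA_nonempty O
  have h1 := (exch hN hNO h hA).2.2
  rw [mm_eq h1]
  exact card_le_mm h1.1 (sup_le_inf hN hNO h hA.2.1)

/-- `AA(Q) ⊆ AA(O)` -/
theorem mem_AA_of_inf {A : Subgroup G} (hA : A ∈ AA (O ⊓ centralizer (N : Set G))) : A ∈ AA O := by
  rw [mem_AA_iff] at *
  exact ⟨hA.1, hA.2.1.trans inf_le_left, (mm_inf hN hNO h).ge.trans hA.2.2⟩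

/-- a member of `AA(O)` centralising `N` is in `AA(Q)` -/
theorem mem_inf_of_mem_AA {A : Subgroup G} (hA : A ∈ AA O) (hc : A ≤ centralizer (N : Set G)) :
    A ∈ AA (O ⊓ centralizer (N : Set G)) := by
  rw [mem_AA_iff] at *
  exact ⟨hA.1, le_inf hA.2.1 hc, (mm_inf hN hNO h).le.trans hA.2.2⟩

theorem exch_inf {A : Subgroup G} (hA : A ∈ AA O) :
    (A ⊓ centralizer (N : Set G)) ⊔ N ∈ AA (O ⊓ centralizer (N : Set G)) :=
  mem_inf_of_mem_AA hN hNO h (exch hN hNO h hA).2.2 (sup_le inf_le_right (eab_iff.1 hN).1)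

/-- `N ≤ A` for `A ∈ AA(Q)` -/
theorem le_of_mem_inf {A : Subgroup G} (hA : A ∈ AA (O ⊓ centralizer (N : Set G))) : N ≤ A := by
  have h1 := (exch hN hNO h (mem_AA_of_inf hN hNO h hA)).2.1
  have h2 : N ≤ centralizer (A : Set G) := comm_symm (hA.2.1.trans inf_le_right)
  exact (le_inf le_rfl h2).trans h1

theorem jj_inf_le : jj (O ⊓ centralizer (N : Set G)) ≤ jj O := by
  rw [jj_eq]
  exact sSup_le fun A hA => le_jj (mem_AA_of_inf hN hNO h hA)

end one

section two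

variable {O N₁ N₂ : Subgroup G} (hN₁ : IsElementaryAbelian 2 N₁) (hNO₁ : N₁ ≤ O) (h₁ : NoOn O N₁)
  (hN₂ : IsElementaryAbelian 2 N₂) (hNO₂ : N₂ ≤ O) (h₂ : NoOn O N₂)
include hN₁ hNO₁ h₁ hN₂ hNO₂ h₂

/-- `J(Q₁)` centralises `N₂` iff `J(Q₁) ≤ J(Q₂)`. -/
theorem jj_le_iff :
    jj (O ⊓ centralizer (N₁ : Set G)) ≤ centralizer (N₂ : Set G) ↔
      jj (O ⊓ centralizer (N₁ : Set G)) ≤ jj (O ⊓ centralizer (N₂ : Set G)) := by
  constructor
  · intro hc
    rw [jj_eq]
    refine sSup_le fun A hA => le_jj ?_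
    exact mem_inf_of_mem_AA hN₂ hNO₂ h₂ (mem_AA_of_inf hN₁ hNO₁ h₁ hA) ((le_jj hA).trans hc)
  · intro hc
    exact hc.trans ((ChoiceBase.jj_le _).trans inf_le_right)

/-- `J(Q₁) = J(Q₂)` iff `J(Q₁)` centralises `N₂`, when the orders agree. -/
theorem jj_eq_iff (hc : Nat.card (jj (O ⊓ centralizer (N₁ : Set G))) = Nat.card (jj (O ⊓ centralizer (N₂ : Set G)))) :
    jj (O ⊓ centralizer (N₁ : Set G)) = jj (O ⊓ centralizer (N₂ : Set G)) ↔
      jj (O ⊓ centralizer (N₁ : Set G)) ≤ centralizer (N₂ : Set G) := by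
  rw [jj_le_iff hN₁ hNO₁ h₁ hN₂ hNO₂ h₂]
  exact ⟨fun e => e.le, fun e => Subgroup.eq_of_le_of_card_ge e hc.ge⟩

/-- **`J(Q₁) ≠ J(Q₂)`: some member of `AA(Q₁)` moves `N₂`.** -/
theorem exists_moving
    (hc : Nat.card (jj (O ⊓ centralizer (N₁ : Set G))) = Nat.card (jj (O ⊓ centralizer (N₂ : Set G))))
    (hne : jj (O ⊓ centralizer (N₁ : Set G)) ≠ jj (O ⊓ centralizer (N₂ : Set G))) :
    ∃ A ∈ AA (O ⊓ centralizer (N₁ : Set G)), A ∈ AA O ∧ ¬ A ≤ centralizer (N₂ : Set G) := by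
  by_contra hcon
  push Not at hcon
  refine hne ((jj_eq_iff hN₁ hNO₁ h₁ hN₂ hNO₂ h₂ hc).2 ?_)
  rw [jj_eq]
  exact sSup_le fun A hA => hcon A hA (mem_AA_of_inf hN₁ hNO₁ h₁ hA)

end two

/-- **A member of `AA(O)` offends every elementary abelian `E ≤ O`.** -/
theorem le_of_mem {O E A : Subgroup G} (hE : IsElementaryAbelian 2 E) (hEO : E ≤ O) (hA : A ∈ AA O) :
    (centralizer (A : Set G)).relIndex E ≤ (centralizer (E : Set G)).relIndex A := by
  by_contra hlt
  exact hlt (swp hE hEO hA (le_of_lt (not_le.1 hlt))).1.ge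

/-- `A ∈ AA(O)`, `A ≤ N(E)`, `A` moves `V ≤ E`: an offender on `E`. -/
theorem offd_of_mem {O E V A : Subgroup G} (hE : IsElementaryAbelian 2 E) (hEO : E ≤ O) (hA : A ∈ AA O)
    (hn : A ≤ normalizer (E : Set G)) (hV : V ≤ E) (hmov : ¬ A ≤ centralizer (V : Set G)) : Offd E A :=
  ⟨hn, fun h => hmov (h.trans (centralizer_le hV)), le_of_mem hE hEO hA⟩

/-- ranks and orders under conjugation: `|J(Q₁)| = |J(Q₂)|` if `g` carries `O` to itself and `N₁` to `N₂` -/
theorem card_jj_of_cj {O N₁ N₂ : Subgroup G} (g : G) (hO : cj g O = O) (hN : cj g N₁ = N₂) :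
    Nat.card (jj (O ⊓ centralizer (N₁ : Set G))) = Nat.card (jj (O ⊓ centralizer (N₂ : Set G))) := by
  rw [← card_cj g (jj (O ⊓ centralizer (N₁ : Set G))), ← jj_cj, cj_inf, cj_centralizer, hO, hN]

end Cfsg.Agent.Omega.EK3.Rank

end

section


/-!
# THEOREM GI (helper23, #22946 (1)-(5); referee helper608 #23018)

Pure group theory, `K`-free, any index type, no swap, no transitivity. `D`, `O ≤ D` (`= O_2(D)`), `Y i` (`= C_G(z_l : l ≠ i)`),
`N i` (`= <z_i^{Y_i}>`), `Q i := O ⊓ C(N i)`, `E i` (`= ` the `i`-th block group, `Y i = ⟨D, E i⟩`), `U i j`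
(`= <z_j^{C_{Y_j}(V_i)}> ≤ N j`, invariant under `E i`).

* `Dat.comm`, `Dat.ss_eq` : (2) `Good i j` gives `[N i, N j] = 1`, `SS i j = AA (Q i) ∩ AA (Q j)`;
* `Dat.exists_bad` : (3) not all pairs are good;
* `Dat.good_of_norm`, `good_of_cent`, `good_of_fail` : (4) (a), (b), (c);
* `exact_cu` : `C_A(U)` is exact on `N`;
* **`Dat.main`** : (5);
* `Dat.half`, `exact_half` : the half-good case (helper992 #23486 (4));
* `exact_big` : (6) `C_A(U)` exact on `N` is exact on `M ≥ N` if `C_A(N)` centralises `M`.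
-/

set_option autoImplicit false
set_option linter.unusedSectionVars false

namespace Cfsg.Agent.Omega.GI

open Subgroup Cfsg Cfsg.Agent.ZN Cfsg.Agent.Omega.MinPar
open Cfsg.Agent.Omega.NO3S.EThree Cfsg.Agent.Omega.NO3S.EThree.ExactA
open Cfsg.Agent.ZN.ChoiceBase (AA mm mm_eq mem_AA_iff AA_nonempty card_le_mm cj mem_cj cj_mem_AA cj_inf cj_mono cj_centralizer
  cj_eq_of_mem_normalizer mem_normalizer_of_cj_le card_cj)
open Cfsg.Agent.Omega.NoFF.Basic (comm_symm comm_mono)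
open Cfsg.Agent.Omega.NO3S.ML (card_mul_relIndex card_sup_mul_of_comm)
open Cfsg.Agent.Omega.EK3.Rank

universe u v

variable {G : Type u} [Group G] {ι : Type v}

section basic

theorem cj_sup' (g : G) (H K : Subgroup G) : cj g (H ⊔ K) = cj g H ⊔ cj g K := Subgroup.map_sup _ _ _

/-- `H` permutes `SS`. -/
def Inv (H : Subgroup G) (SS : Set (Subgroup G)) : Prop := ∀ g ∈ H, ∀ X ∈ SS, cj g X ∈ SS

theorem Inv.mono {H K : Subgroup G} {SS : Set (Subgroup G)} (h : Inv K SS) (hH : H ≤ K) : Inv H SS :=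
  fun g hg => h g (hH hg)

theorem Inv.sup {H K : Subgroup G} {SS : Set (Subgroup G)} (h1 : Inv H SS) (h2 : Inv K SS) : Inv (H ⊔ K) SS := by
  have key : ∀ g ∈ H ⊔ K, (∀ X ∈ SS, cj g X ∈ SS) ∧ (∀ X ∈ SS, cj g⁻¹ X ∈ SS) := by
    intro g hg
    rw [Subgroup.sup_eq_closure] at hg
    induction hg using Subgroup.closure_induction with
    | mem x hx =>
      rcases hx with hx | hx
      · exact ⟨h1 x hx, h1 _ (H.inv_mem hx)⟩
      · exact ⟨h2 x hx, h2 _ (K.inv_mem hx)⟩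
    | one => simp only [inv_one]; exact ⟨fun X hX => by rwa [ChoiceBase.cj_one], fun X hX => by rwa [ChoiceBase.cj_one]⟩
    | mul x y _ _ ix iy =>
      refine ⟨fun X hX => ?_, fun X hX => ?_⟩
      · rw [← ChoiceBase.cj_cj]; exact ix.1 _ (iy.1 _ hX)
      · rw [mul_inv_rev, ← ChoiceBase.cj_cj]; exact iy.2 _ (ix.2 _ hX)
    | inv x _ ix => rw [inv_inv]; exact ⟨ix.2, ix.1⟩
  exact fun g hg => (key g hg).1

theorem Inv.le_normalizer [Finite G] {H : Subgroup G} {SS : Set (Subgroup G)} (h : Inv H SS) :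
    H ≤ normalizer ((sSup SS : Subgroup G) : Set G) := by
  intro g hg
  refine mem_normalizer_of_cj_le ?_
  rw [ChoiceBase.cj_le_iff]
  refine sSup_le fun X hX => ?_
  rw [← ChoiceBase.cj_le_iff]
  exact le_sSup (h g hg X hX)

/-- `N ∩ H = N ∩ K` gives equal indices -/
theorem relIndex_congr {H K N : Subgroup G} (h : N ⊓ H = N ⊓ K) : H.relIndex N = K.relIndex N := by
  rw [← Subgroup.inf_relIndex_left, h, Subgroup.inf_relIndex_left]

variable [Finite G]

/-- `|B U : H ∩ B U| = |B : H ∩ B|` for `U ≤ H`, `[B, U] = 1`. -/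
theorem relIndex_sup_of_comm {H B U : Subgroup G} (hU : U ≤ H) (hc : B ≤ centralizer (U : Set G)) :
    H.relIndex (B ⊔ U) = H.relIndex B := by
  have hc' : ∀ b ∈ B, ∀ u ∈ U, b * u = u * b := fun b hb x hx => (mem_centralizer_iff.1 (hc hb) x hx).symm
  have e : (B ⊔ U) ⊓ H = (B ⊓ H) ⊔ U := by
    refine le_antisymm ?_ (le_inf (sup_le_sup_right inf_le_left _) (sup_le (inf_le_right) hU))
    rintro x ⟨hx, hxH⟩
    have hx' : x ∈ ((B ⊔ U : Subgroup G) : Set G) := hx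
    rw [Subgroup.coe_mul_of_right_le_normalizer_left B U ((comm_symm hc).trans (centralizer_le_normalizer _)),
      Set.mem_mul] at hx'
    obtain ⟨b, hb, w, hw, rfl⟩ := hx'
    refine Subgroup.mul_mem_sup ⟨hb, ?_⟩ hw
    have e2 : b = b * w * w⁻¹ := by group
    rw [e2]
    exact H.mul_mem hxH (H.inv_mem (hU hw))
  have h1 := card_sup_mul_of_comm hc'
  have h2 := card_sup_mul_of_comm (K := B ⊓ H) (L := U) fun b hb => hc' b hb.1
  have e3 : B ⊓ H ⊓ U = B ⊓ U := by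
    refine le_antisymm (inf_le_inf_right _ inf_le_left) (le_inf (le_inf inf_le_left (inf_le_right.trans hU)) inf_le_right)
  rw [e3] at h2
  have h3 : Nat.card ((B ⊓ H) ⊔ U : Subgroup G) * H.relIndex (B ⊔ U) = Nat.card (B ⊔ U : Subgroup G) := by
    rw [← e, ← Subgroup.inf_relIndex_left]
    exact card_mul_relIndex inf_le_left
  have h4 : Nat.card (B ⊓ H : Subgroup G) * H.relIndex B = Nat.card B := by
    rw [← Subgroup.inf_relIndex_left]
    exact card_mul_relIndex inf_le_left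
  have p1 : 0 < Nat.card (B ⊓ U : Subgroup G) := Nat.card_pos
  have p2 : 0 < Nat.card U := Nat.card_pos
  have p3 : 0 < Nat.card (B ⊓ H : Subgroup G) := Nat.card_pos
  have h5 : (Nat.card (B ⊓ H : Subgroup G) * Nat.card U) * H.relIndex (B ⊔ U) =
      (Nat.card (B ⊓ H : Subgroup G) * Nat.card U) * H.relIndex B := by
    calc _ = (Nat.card ((B ⊓ H) ⊔ U : Subgroup G) * H.relIndex (B ⊔ U)) * Nat.card (B ⊓ U : Subgroup G) := by
          rw [← h2]; ring
      _ = Nat.card B * Nat.card U := by rw [h3, h1]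
      _ = _ := by rw [← h4]; ring
  exact Nat.eq_of_mul_eq_mul_left (Nat.mul_pos p3 p2) h5

/-- **(5)** `A ∈ AA(O)`, `U ≤ N` with `|A : C_A(U)| ≤ |U : C_U(A)|`: `C_A(U) U ∈ AA(O)` and `C_A(U)` is exact on `N`. -/
theorem exact_cu {O N U A : Subgroup G} (hN : IsElementaryAbelian 2 N) (hNO : N ≤ O) (hno : NoOn O N) (hU : U ≤ N)
    (hA : A ∈ AA O)
    (hnoU : (centralizer (U : Set G)).relIndex A ≤ (centralizer (A : Set G)).relIndex U) :
    (A ⊓ centralizer (U : Set G)) ⊔ U ∈ AA O ∧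
      (centralizer (N : Set G)).relIndex (A ⊓ centralizer (U : Set G) : Subgroup G) =
        (centralizer ((A ⊓ centralizer (U : Set G) : Subgroup G) : Set G)).relIndex N ∧
      N ⊓ centralizer ((A ⊓ centralizer (U : Set G) : Subgroup G) : Set G) ≤ (A ⊓ centralizer (U : Set G)) ⊔ U := by
  have h1 := (swp (eab_mono hN hU) (hU.trans hNO) hA hnoU).2.2
  refine ⟨h1, ?_, ?_⟩
  · have h2 := (exch hN hNO hno h1).1
    rw [relIndex_sup_of_comm (hU.trans (eab_iff.1 hN).1) inf_le_right] at h2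
    rw [h2]
    refine relIndex_congr (le_antisymm (inf_le_inf_left _ (centralizer_le
      (SetLike.coe_subset_coe.2 le_sup_left))) (le_inf inf_le_left ?_))
    refine comm_symm (sup_le (comm_symm inf_le_right) ?_)
    exact hU.trans (comm_symm (inf_le_left.trans (eab_iff.1 hN).1))
  · refine le_trans (le_inf inf_le_left ?_) (exch hN hNO hno h1).2.1
    refine comm_symm (sup_le (comm_symm inf_le_right) ?_)
    exact hU.trans (comm_symm (inf_le_left.trans (eab_iff.1 hN).1))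

end basic

/-- The data of THEOREM GI. -/
structure Dat (O D : Subgroup G) (Y E N : ι → Subgroup G) (U : ι → ι → Subgroup G) : Prop where
  OD : O ≤ D
  DO : D ≤ normalizer (O : Set G)
  DY : ∀ i, D ≤ Y i
  YE : ∀ i, Y i ≤ D ⊔ E i
  EY : ∀ i, E i ≤ Y i
  eab : ∀ i, IsElementaryAbelian 2 (N i)
  NO : ∀ i, N i ≤ O
  YN : ∀ i, Y i ≤ normalizer (N i : Set G)
  QY : ∀ i, Y i ≤ normalizer ((O ⊓ centralizer (N i : Set G) : Subgroup G) : Set G)
  core : ∀ i, ∀ R : Subgroup G, R ≤ O → Y i ≤ normalizer (R : Set G) → R ≤ centralizer (N i : Set G)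
  no : ∀ i, NoOn O (N i)
  UN : ∀ i j, i ≠ j → U i j ≤ N j
  EU : ∀ i j, i ≠ j → E i ≤ normalizer (U i j : Set G)
  noU : ∀ i j, i ≠ j → ∀ A ∈ AA (O ⊓ centralizer (N i : Set G)),
    (centralizer (U i j : Set G)).relIndex A ≤ (centralizer (A : Set G)).relIndex (U i j)
  nonloc : ∀ R : Subgroup G, R ≤ O → (∀ i, Y i ≤ normalizer (R : Set G)) → R = ⊥
  ne : ∃ i, N i ≠ ⊥

/-- `SS_ij = {C_A(N_j) N_j : A ∈ AA(Q_i)}` -/
def SS (O : Subgroup G) (N : ι → Subgroup G) (i j : ι) : Set (Subgroup G) :=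
  {X | ∃ A ∈ AA (O ⊓ centralizer (N i : Set G)), X = (A ⊓ centralizer (N j : Set G)) ⊔ N j}

/-- `GOOD` : `SS_ij` is `Y_i`-invariant. -/
def Good (O : Subgroup G) (Y N : ι → Subgroup G) (i j : ι) : Prop := Inv (Y i) (SS O N i j)

namespace Dat

variable [Finite G] {O D : Subgroup G} {Y E N : ι → Subgroup G} {U : ι → ι → Subgroup G} (h : Dat O D Y E N U)
include h

theorem aa_cj {i : ι} {g : G} (hg : g ∈ Y i) {A : Subgroup G} (hA : A ∈ AA (O ⊓ centralizer (N i : Set G))) :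
    cj g A ∈ AA (O ⊓ centralizer (N i : Set G)) := by
  have h1 := cj_mem_AA g hA
  rwa [cj_eq_of_mem_normalizer (h.QY i hg)] at h1

theorem mem_O {i : ι} {A : Subgroup G} (hA : A ∈ AA (O ⊓ centralizer (N i : Set G))) : A ∈ AA O :=
  mem_AA_of_inf (h.eab i) (h.NO i) (h.no i) hA

theorem ss_mem {i j : ι} {X : Subgroup G} (hX : X ∈ SS O N i j) : X ∈ AA (O ⊓ centralizer (N j : Set G)) := by
  obtain ⟨A, hA, rfl⟩ := hX
  exact exch_inf (h.eab j) (h.NO j) (h.no j) (h.mem_O hA)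

theorem ss_ne (i j : ι) : ∃ X, X ∈ SS O N i j := by
  obtain ⟨A, hA⟩ := AA_nonempty (O ⊓ centralizer (N i : Set G))
  exact ⟨_, A, hA, rfl⟩

/-- (2) -/
theorem ss_cent {i j : ι} (hg : Good O Y N i j) {X : Subgroup G} (hX : X ∈ SS O N i j) :
    X ≤ centralizer (N i : Set G) := by
  have h1 : sSup (SS O N i j) ≤ O := sSup_le fun Z hZ => (h.ss_mem hZ).2.1.trans inf_le_left
  exact (le_sSup hX).trans (h.core i _ h1 (Inv.le_normalizer hg))

/-- (2) `[N i, N j] = 1` -/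
theorem comm {i j : ι} (hg : Good O Y N i j) : N j ≤ centralizer (N i : Set G) := by
  obtain ⟨X, hX⟩ := h.ss_ne i j
  refine le_trans ?_ (h.ss_cent hg hX)
  obtain ⟨A, hA, rfl⟩ := hX
  exact le_sup_right

/-- (2) `SS i j = AA (Q i) ∩ AA (Q j)` -/
theorem ss_eq {i j : ι} (hg : Good O Y N i j) :
    SS O N i j = AA (O ⊓ centralizer (N i : Set G)) ∩ AA (O ⊓ centralizer (N j : Set G)) := by
  ext X
  constructor
  · intro hX
    have h1 := h.ss_mem hX
    exact ⟨mem_inf_of_mem_AA (h.eab i) (h.NO i) (h.no i) (h.mem_O h1) (h.ss_cent hg hX), h1⟩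
  · rintro ⟨hX, hX'⟩
    refine ⟨X, hX, ?_⟩
    rw [inf_eq_left.2 (hX'.2.1.trans inf_le_right)]
    exact (sup_eq_left.2 (le_of_mem_inf (h.eab j) (h.NO j) (h.no j) hX')).symm

/-- (3) -/
theorem exists_common (hg : ∀ i j, i ≠ j → Good O Y N i j) (s : Finset ι) :
    ∃ A ∈ AA O, ∀ l ∈ s, A ∈ AA (O ⊓ centralizer (N l : Set G)) := by
  classical
  induction s using Finset.induction_on with
  | empty =>
    obtain ⟨A, hA⟩ := AA_nonempty O
    exact ⟨A, hA, by simp⟩
  | insert l s hl ih =>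
    obtain ⟨A, hA, hs⟩ := ih
    have h1 := exch_inf (h.eab l) (h.NO l) (h.no l) hA
    refine ⟨_, h.mem_O h1, fun m hm => ?_⟩
    rcases Finset.mem_insert.1 hm with rfl | hm
    · exact h1
    · have hne : m ≠ l := fun e => hl (e ▸ hm)
      refine mem_inf_of_mem_AA (h.eab m) (h.NO m) (h.no m) (h.mem_O h1) (sup_le ?_ (h.comm (hg m l hne)))
      exact inf_le_left.trans ((hs m hm).2.1.trans inf_le_right)

/-- **(3) Not all pairs are good.** -/
theorem exists_bad [Finite ι] : ∃ i j, i ≠ j ∧ ¬ Good O Y N i j := by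
  by_contra hcon
  push Not at hcon
  have := Fintype.ofFinite ι
  obtain ⟨A, hA, hs⟩ := h.exists_common hcon Finset.univ
  have hR : sSup {A : Subgroup G | ∀ l, A ∈ AA (O ⊓ centralizer (N l : Set G))} = ⊥ := by
    obtain ⟨i₀, _⟩ := h.ne
    refine h.nonloc _ (sSup_le fun B hB => (hB i₀).2.1.trans inf_le_left) fun i => Inv.le_normalizer fun g hg B hB => ?_
    intro j
    by_cases hij : i = j
    · subst hij; exact h.aa_cj hg (hB i)
    · have h1 : B ∈ SS O N i j := by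
        rw [h.ss_eq (hcon i j hij)]; exact ⟨hB i, hB j⟩
      have h2 := hcon i j hij g hg B h1
      rw [h.ss_eq (hcon i j hij)] at h2
      exact h2.2
  obtain ⟨i, hi⟩ := h.ne
  refine hi (le_bot_iff.1 ?_)
  rw [← hR]
  exact (le_of_mem_inf (h.eab i) (h.NO i) (h.no i) (hs i (Finset.mem_univ _))).trans
    (le_sSup fun l => hs l (Finset.mem_univ _))

/-- (4) `D` always permutes `SS i j`. -/
theorem inv_D (i j : ι) : Inv D (SS O N i j) := by
  rintro g hg _ ⟨A, hA, rfl⟩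
  refine ⟨cj g A, h.aa_cj (h.DY i hg) hA, ?_⟩
  rw [cj_sup', cj_inf, cj_centralizer, cj_eq_of_mem_normalizer (h.YN j (h.DY j hg))]

theorem good_of_E {i j : ι} (hE : Inv (E i) (SS O N i j)) : Good O Y N i j :=
  ((h.inv_D i j).sup hE).mono (h.YE i)

/-- (4) (a) -/
theorem good_of_norm {i j : ι} (hE : E i ≤ normalizer (N j : Set G)) : Good O Y N i j := by
  refine h.good_of_E ?_
  rintro g hg _ ⟨A, hA, rfl⟩
  refine ⟨cj g A, h.aa_cj (h.EY i hg) hA, ?_⟩
  rw [cj_sup', cj_inf, cj_centralizer, cj_eq_of_mem_normalizer (hE hg)]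

/-- (4) (b) -/
theorem good_of_cent {i j : ι}
    (hc : ∀ A ∈ AA (O ⊓ centralizer (N i : Set G)), A ≤ centralizer (N j : Set G)) : Good O Y N i j := by
  have key : ∀ A ∈ AA (O ⊓ centralizer (N i : Set G)), (A ⊓ centralizer (N j : Set G)) ⊔ N j = A := by
    intro A hA
    rw [inf_eq_left.2 (hc A hA)]
    exact sup_eq_left.2 (le_of_mem_inf (h.eab j) (h.NO j) (h.no j)
      (mem_inf_of_mem_AA (h.eab j) (h.NO j) (h.no j) (h.mem_O hA) (hc A hA)))
  rintro g hg _ ⟨A, hA, rfl⟩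
  exact ⟨cj g A, h.aa_cj hg hA, by rw [key A hA, key _ (h.aa_cj hg hA)]⟩

/-- (4) (c) -/
theorem good_of_fail {i j : ι} (hij : i ≠ j)
    (hf : ∀ A ∈ AA (O ⊓ centralizer (N i : Set G)), A ⊓ centralizer (U i j : Set G) ≤ centralizer (N j : Set G)) :
    Good O Y N i j := by
  have hUN := h.UN i j hij
  have key : ∀ A ∈ AA (O ⊓ centralizer (N i : Set G)),
      (A ⊓ centralizer (N j : Set G)) ⊔ N j = (A ⊓ centralizer (U i j : Set G)) ⊔ U i j := by
    intro A hA
    have e : A ⊓ centralizer (U i j : Set G) = A ⊓ centralizer (N j : Set G) :=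
      le_antisymm (le_inf inf_le_left (hf A hA)) (inf_le_inf_left _ (centralizer_le hUN))
    have h1 := (exact_cu (h.eab j) (h.NO j) (h.no j) hUN (h.mem_O hA) (h.noU i j hij A hA)).1
    have h2 := (exch (h.eab j) (h.NO j) (h.no j) (h.mem_O hA)).2.2
    rw [e] at h1 ⊢
    refine (Subgroup.eq_of_le_of_card_ge (sup_le_sup_left hUN _) ?_).symm
    rw [← mm_eq h1, ← mm_eq h2]
  refine h.good_of_E ?_
  rintro g hg _ ⟨A, hA, rfl⟩
  have hA' := h.aa_cj (h.EY i hg) hA
  refine ⟨cj g A, hA', ?_⟩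
  rw [key A hA, key _ hA', cj_sup', cj_inf, cj_centralizer, cj_eq_of_mem_normalizer (h.EU i j hij hg)]

/-- **THEOREM GI (5).** -/
theorem main [Finite ι] : ∃ i j, i ≠ j ∧ ¬ Good O Y N i j ∧ ¬ E i ≤ normalizer (N j : Set G) ∧
    (∃ A ∈ AA (O ⊓ centralizer (N i : Set G)), ¬ A ≤ centralizer (N j : Set G)) ∧
    ∃ A ∈ AA (O ⊓ centralizer (N i : Set G)), A ∈ AA O ∧
      ¬ A ⊓ centralizer (U i j : Set G) ≤ centralizer (N j : Set G) ∧
      (A ⊓ centralizer (U i j : Set G)) ⊔ U i j ∈ AA O ∧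
      (centralizer (N j : Set G)).relIndex (A ⊓ centralizer (U i j : Set G) : Subgroup G) =
        (centralizer ((A ⊓ centralizer (U i j : Set G) : Subgroup G) : Set G)).relIndex (N j) := by
  obtain ⟨i, j, hij, hb⟩ := h.exists_bad
  refine ⟨i, j, hij, hb, fun hn => hb (h.good_of_norm hn), ?_, ?_⟩
  · by_contra hcon
    push Not at hcon
    exact hb (h.good_of_cent hcon)
  · by_contra hcon
    push Not at hcon
    refine hb (h.good_of_fail hij fun A hA => ?_)
    by_contra hmov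
    have h1 := exact_cu (h.eab j) (h.NO j) (h.no j) (h.UN i j hij) (h.mem_O hA) (h.noU i j hij A hA)
    exact hcon A hA (h.mem_O hA) hmov h1.1 h1.2.1

/-- `Good j i` (`GOOD` on the other side): `A ∈ AA(Q i)`: `C_A(N_j) N_j ∈ AA(Q i) ∩ AA(Q j)` contains every
`Y_j`-conjugate of `N i` (992's THEOREM F (4)). -/
theorem half {i j : ι} (hg : Good O Y N j i) {A : Subgroup G} (hA : A ∈ AA (O ⊓ centralizer (N i : Set G))) :
    (A ⊓ centralizer (N j : Set G)) ⊔ N j ∈ AA (O ⊓ centralizer (N i : Set G)) ∧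
      (A ⊓ centralizer (N j : Set G)) ⊔ N j ∈ AA (O ⊓ centralizer (N j : Set G)) ∧
      ∀ g ∈ Y j, cj g (N i) ≤ (A ⊓ centralizer (N j : Set G)) ⊔ N j := by
  have h1 := h.ss_mem (⟨A, hA, rfl⟩ : _ ∈ SS O N i j)
  have h2 : (A ⊓ centralizer (N j : Set G)) ⊔ N j ∈ AA (O ⊓ centralizer (N i : Set G)) := by
    refine mem_inf_of_mem_AA (h.eab i) (h.NO i) (h.no i) (h.mem_O h1) (sup_le ?_ ?_)
    · exact inf_le_left.trans (hA.2.1.trans inf_le_right)
    · exact comm_symm (h.comm hg)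
  refine ⟨h2, h1, fun g hgY => ?_⟩
  have h3 : (A ⊓ centralizer (N j : Set G)) ⊔ N j ∈ SS O N j i := by
    rw [h.ss_eq hg]; exact ⟨h1, h2⟩
  have h4 := hg g⁻¹ ((Y j).inv_mem hgY) _ h3
  rw [h.ss_eq hg] at h4
  rw [ChoiceBase.cj_le_iff]
  exact le_of_mem_inf (h.eab i) (h.NO i) (h.no i) h4.2

end Dat

section big

variable [Finite G]

/-- **(6)** `A ∈ AA(O)`, `N ≤ M ≤ O`, `M` elementary abelian, `C_A(N)` centralises `M`, `B ≤ A` exact on `N`:
`M = N C_M(A)`, and `B` is exact on `M`. -/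
theorem exact_big {O N M A B : Subgroup G} (hN : IsElementaryAbelian 2 N) (hno : NoOn O N)
    (hNM : N ≤ M) (hM : IsElementaryAbelian 2 M) (hMO : M ≤ O) (hA : A ∈ AA O)
    (hc : A ⊓ centralizer (N : Set G) ≤ centralizer (M : Set G)) (hB : B ≤ A)
    (hex : (centralizer (N : Set G)).relIndex B = (centralizer (B : Set G)).relIndex N) :
    M = N ⊔ (M ⊓ centralizer (A : Set G)) ∧
      (centralizer (M : Set G)).relIndex B = (centralizer (B : Set G)).relIndex M := by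
  have hNO := hNM.trans hMO
  have e1 : A ⊓ centralizer (N : Set G) = A ⊓ centralizer (M : Set G) :=
    le_antisymm (le_inf inf_le_left hc) (inf_le_inf_left _ (centralizer_le hNM))
  have e2 : B ⊓ centralizer (N : Set G) = B ⊓ centralizer (M : Set G) := by
    refine le_antisymm (le_inf inf_le_left ?_) (inf_le_inf_left _ (centralizer_le hNM))
    exact (inf_le_inf_right _ hB).trans hc
  have h1 : (centralizer (A : Set G)).relIndex M ≤ (centralizer (M : Set G)).relIndex A := le_of_mem hM hMO hA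
  have h2 : (centralizer (M : Set G)).relIndex A = (centralizer (N : Set G)).relIndex A := (relIndex_congr e1).symm
  have h3 := (exch hN hNO hno hA).1
  -- `N C_M(A) = M`
  have hcm : M ≤ centralizer (N : Set G) := hNM.trans (eab_iff.1 hM).1 |> fun e => comm_symm e
  have hs : M = N ⊔ (M ⊓ centralizer (A : Set G)) := by
    refine (Subgroup.eq_of_le_of_card_ge (sup_le hNM inf_le_left) ?_).symm
    have h4 : Nat.card (N ⊔ (M ⊓ centralizer (A : Set G)) : Subgroup G) *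
        Nat.card (N ⊓ (M ⊓ centralizer (A : Set G)) : Subgroup G) =
        Nat.card N * Nat.card (M ⊓ centralizer (A : Set G) : Subgroup G) :=
      card_sup_mul_of_comm fun a ha b hb => (mem_centralizer_iff.1 (hcm hb.1) a ha)
    have e5 : N ⊓ (M ⊓ centralizer (A : Set G)) = N ⊓ centralizer (A : Set G) := by
      rw [← inf_assoc, inf_eq_left.2 hNM]
    rw [e5] at h4
    have h6 : Nat.card (N ⊓ centralizer (A : Set G) : Subgroup G) * (centralizer (A : Set G)).relIndex N = Nat.card N := by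
      rw [← Subgroup.inf_relIndex_left]
      exact card_mul_relIndex inf_le_left
    have h7 : Nat.card (M ⊓ centralizer (A : Set G) : Subgroup G) * (centralizer (A : Set G)).relIndex M = Nat.card M := by
      rw [← Subgroup.inf_relIndex_left]
      exact card_mul_relIndex inf_le_left
    have p : 0 < Nat.card (N ⊓ centralizer (A : Set G) : Subgroup G) := Nat.card_pos
    have h8 : Nat.card (N ⊔ (M ⊓ centralizer (A : Set G)) : Subgroup G) =
        (centralizer (A : Set G)).relIndex N * Nat.card (M ⊓ centralizer (A : Set G) : Subgroup G) := by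
      refine Nat.eq_of_mul_eq_mul_right p ?_
      rw [h4, ← h6]; ring
    rw [h8, ← h7, mul_comm]
    exact Nat.mul_le_mul_right _ ((h1.trans h2.le).trans h3.le)
  refine ⟨hs, ?_⟩
  rw [← relIndex_congr e2, hex]
  -- `|M : C_M(B)| = |N : C_N(B)|`
  have hs' : M = N ⊔ (M ⊓ centralizer (B : Set G)) :=
    le_antisymm (hs.le.trans (sup_le_sup_left (inf_le_inf_left _ (centralizer_le hB)) _)) (sup_le hNM inf_le_left)
  have h9 : (centralizer (B : Set G)).relIndex (N ⊔ (M ⊓ centralizer (B : Set G)) : Subgroup G) =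
      (centralizer (B : Set G)).relIndex N :=
    relIndex_sup_of_comm inf_le_right (comm_symm (inf_le_left.trans hcm))
  rw [← hs'] at h9
  exact h9.symm

/-- the half case: `M ≤ C_A(N) N` -/
theorem exact_half {O N M A B : Subgroup G} (hN : IsElementaryAbelian 2 N) (hNO : N ≤ O) (hno : NoOn O N)
    (hNM : N ≤ M) (hA : A ∈ AA O) (hM : M ≤ (A ⊓ centralizer (N : Set G)) ⊔ N) (hB : B ≤ A)
    (hex : (centralizer (N : Set G)).relIndex B = (centralizer (B : Set G)).relIndex N) :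
    M = N ⊔ (M ⊓ centralizer (A : Set G)) ∧
      (centralizer (M : Set G)).relIndex B = (centralizer (B : Set G)).relIndex M := by
  have h1 := (exch hN hNO hno hA).2.2
  refine exact_big hN hno hNM (eab_mono h1.1 hM) (hM.trans h1.2.1) hA ?_ hB hex
  exact (le_sup_left.trans (eab_iff.1 h1.1).1).trans (centralizer_le hM)

end big

end Cfsg.Agent.Omega.GI

end

section


/-!
# [R-z], case (II) (helper513, #24309 (4), (5); referees helper720 #24422, helper855 #24395): the two sides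

Pure group theory. `K₁ = ⟨L, C⟩ N(S)`, `K₂ = C_G(Z₀) N(S)`, `O = O₂(C)`, `D = C N(S)`, `E₁ = L`, `E₂` = the block types,
`U₁ = ⟨Z^K₁⟩`, `W₂ = ⟨(Z R)^K₂⟩`, `NR = ⟨(Z R)^C(R)⟩ ≤ W₂` is `E₁`-invariant, `NB = ⟨Z₀^C(B)⟩ ≤ U₁` is
`E₂`-invariant; `⟨K₁, K₂⟩` is nonlocal.

* `TwoD` : this situation;
* `TwoD.SS` : `{C_A(W₂) W₂ : A ∈ AA(C_O(U₁))}`; `fail₁`, `ss_eq` : (4), it is `K₁`-invariant, `= AA(C_O(U₁)) ∩ AA(C_O(W₂))`;
* `TwoD.half` : (5), `A ∈ AA(C_O(W₂))`: `C_A(U₁) U₁ ∈ SS` contains `⟨W₂^K₁⟩`;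
* **`TwoD.main`** : some `C_A(NR)` is exact on `W₂`, `A ∈ AA(C_O(U₁))` (alpha), or some `C_A(NB)` is exact on
  `⟨W₂^K₁⟩ U₁`, `A ∈ AA(C_O(W₂))` (beta).
-/

set_option autoImplicit false
set_option linter.unusedSectionVars false

namespace Cfsg.Agent.Omega.NOThreeL.RZ.TwoC.Side

open Subgroup Cfsg Cfsg.Agent.ZN Cfsg.Agent.Omega.MinPar
open Cfsg.Agent.Omega.NO3S.EThree Cfsg.Agent.Omega.NO3S.EThree.ExactA
open Cfsg.Agent.ZN.ChoiceBase (AA mm mm_eq mem_AA_iff AA_nonempty card_le_mm cj mem_cj cj_mem_AA cj_inf cj_mono cj_centralizer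
  cj_eq_of_mem_normalizer mem_normalizer_of_cj_le card_cj)
open Cfsg.Agent.Omega.NoFF.Basic (comm_symm comm_mono)
open Cfsg.Agent.Omega.EK3.Rank
open Cfsg.Agent.Omega.GI (Inv cj_sup' exact_cu exact_half)

universe u

variable {G : Type u} [Group G]

/-- **The data of the two sides.** -/
structure TwoD (O D K₁ K₂ E₁ E₂ U₁ W₂ NR NB : Subgroup G) : Prop where
  OD : O ≤ D
  DO : D ≤ normalizer (O : Set G)
  D1 : D ≤ K₁
  D2 : D ≤ K₂
  e1 : E₁ ≤ K₁
  g1 : K₁ ≤ D ⊔ E₁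
  e2 : E₂ ≤ K₂
  g2 : K₂ ≤ (K₁ ⊓ K₂) ⊔ E₂
  el1 : IsElementaryAbelian 2 U₁
  el2 : IsElementaryAbelian 2 W₂
  UO : U₁ ≤ O
  WO : W₂ ≤ O
  KU : K₁ ≤ normalizer (U₁ : Set G)
  KW : K₂ ≤ normalizer (W₂ : Set G)
  q1 : K₁ ≤ normalizer ((O ⊓ centralizer (U₁ : Set G) : Subgroup G) : Set G)
  q2 : K₂ ≤ normalizer ((O ⊓ centralizer (W₂ : Set G) : Subgroup G) : Set G)
  core1 : ∀ R : Subgroup G, R ≤ O → K₁ ≤ normalizer (R : Set G) → R ≤ centralizer (U₁ : Set G)
  no1 : NoOn O U₁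
  no2 : NoOn O W₂
  RW : NR ≤ W₂
  ER : E₁ ≤ normalizer (NR : Set G)
  noR : ∀ A ∈ AA (O ⊓ centralizer (U₁ : Set G)),
    (centralizer (NR : Set G)).relIndex A ≤ (centralizer (A : Set G)).relIndex NR
  BU : NB ≤ U₁
  EB : E₂ ≤ normalizer (NB : Set G)
  noB : ∀ A ∈ AA (O ⊓ centralizer (W₂ : Set G)),
    (centralizer (NB : Set G)).relIndex A ≤ (centralizer (A : Set G)).relIndex NB
  nonloc : ∀ R : Subgroup G, R ≤ O → K₁ ≤ normalizer (R : Set G) → K₂ ≤ normalizer (R : Set G) → R = ⊥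
  ne : U₁ ≠ ⊥

namespace TwoD

variable [Finite G] {O D K₁ K₂ E₁ E₂ U₁ W₂ NR NB : Subgroup G} (h : TwoD O D K₁ K₂ E₁ E₂ U₁ W₂ NR NB)

/-- `SS = {C_A(W₂) W₂ : A ∈ AA(C_O(U₁))}` -/
def SS (O U₁ W₂ : Subgroup G) : Set (Subgroup G) :=
  {X | ∃ A ∈ AA (O ⊓ centralizer (U₁ : Set G)), X = (A ⊓ centralizer (W₂ : Set G)) ⊔ W₂}

include h

theorem aa_cj1 {g : G} (hg : g ∈ K₁) {A : Subgroup G} (hA : A ∈ AA (O ⊓ centralizer (U₁ : Set G))) :
    cj g A ∈ AA (O ⊓ centralizer (U₁ : Set G)) := by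
  have h1 := cj_mem_AA g hA
  rwa [cj_eq_of_mem_normalizer (h.q1 hg)] at h1

theorem aa_cj2 {g : G} (hg : g ∈ K₂) {A : Subgroup G} (hA : A ∈ AA (O ⊓ centralizer (W₂ : Set G))) :
    cj g A ∈ AA (O ⊓ centralizer (W₂ : Set G)) := by
  have h1 := cj_mem_AA g hA
  rwa [cj_eq_of_mem_normalizer (h.q2 hg)] at h1

theorem mem_O1 {A : Subgroup G} (hA : A ∈ AA (O ⊓ centralizer (U₁ : Set G))) : A ∈ AA O :=
  mem_AA_of_inf h.el1 h.UO h.no1 hA

theorem mem_O2 {A : Subgroup G} (hA : A ∈ AA (O ⊓ centralizer (W₂ : Set G))) : A ∈ AA O :=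
  mem_AA_of_inf h.el2 h.WO h.no2 hA

theorem U_le {A : Subgroup G} (hA : A ∈ AA (O ⊓ centralizer (U₁ : Set G))) : U₁ ≤ A :=
  le_of_mem_inf h.el1 h.UO h.no1 hA

theorem W_le {A : Subgroup G} (hA : A ∈ AA (O ⊓ centralizer (W₂ : Set G))) : W₂ ≤ A :=
  le_of_mem_inf h.el2 h.WO h.no2 hA

theorem ss_mem {X : Subgroup G} (hX : X ∈ SS O U₁ W₂) : X ∈ AA (O ⊓ centralizer (W₂ : Set G)) := by
  obtain ⟨A, hA, rfl⟩ := hX
  exact exch_inf h.el2 h.WO h.no2 (h.mem_O1 hA)

/-- members of a `K₁`-invariant `SS` centralise `U₁` -/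
theorem ss_cent (hg : Inv K₁ (SS O U₁ W₂)) {X : Subgroup G} (hX : X ∈ SS O U₁ W₂) :
    X ≤ centralizer (U₁ : Set G) := by
  have h1 : sSup (SS O U₁ W₂) ≤ O := sSup_le fun Z hZ => (h.ss_mem hZ).2.1.trans inf_le_left
  exact (le_sSup hX).trans (h.core1 _ h1 (Inv.le_normalizer hg))

/-- `[U₁, W₂] = 1` -/
theorem comm (hg : Inv K₁ (SS O U₁ W₂)) : W₂ ≤ centralizer (U₁ : Set G) := by
  obtain ⟨A, hA⟩ := AA_nonempty (O ⊓ centralizer (U₁ : Set G))
  exact le_trans le_sup_right (h.ss_cent hg ⟨A, hA, rfl⟩)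

/-- `SS = AA(C_O(U₁)) ∩ AA(C_O(W₂))` -/
theorem ss_eq (hg : Inv K₁ (SS O U₁ W₂)) :
    SS O U₁ W₂ = AA (O ⊓ centralizer (U₁ : Set G)) ∩ AA (O ⊓ centralizer (W₂ : Set G)) := by
  ext X
  constructor
  · intro hX
    have h1 := h.ss_mem hX
    exact ⟨mem_inf_of_mem_AA h.el1 h.UO h.no1 (h.mem_O2 h1) (h.ss_cent hg hX), h1⟩
  · rintro ⟨hX, hX'⟩
    refine ⟨X, hX, ?_⟩
    rw [inf_eq_left.2 (hX'.2.1.trans inf_le_right)]
    exact (sup_eq_left.2 (h.W_le hX')).symm

/-- **(4)** if no `C_A(NR)`, `A ∈ AA(C_O(U₁))`, moves `W₂`, then `SS` is `K₁`-invariant -/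
theorem fail₁ (hf : ∀ A ∈ AA (O ⊓ centralizer (U₁ : Set G)),
    A ⊓ centralizer (NR : Set G) ≤ centralizer (W₂ : Set G)) : Inv K₁ (SS O U₁ W₂) := by
  have key : ∀ A ∈ AA (O ⊓ centralizer (U₁ : Set G)),
      (A ⊓ centralizer (W₂ : Set G)) ⊔ W₂ = (A ⊓ centralizer (NR : Set G)) ⊔ NR := by
    intro A hA
    have e : A ⊓ centralizer (NR : Set G) = A ⊓ centralizer (W₂ : Set G) :=
      le_antisymm (le_inf inf_le_left (hf A hA)) (inf_le_inf_left _ (centralizer_le h.RW))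
    have h1 := (exact_cu h.el2 h.WO h.no2 h.RW (h.mem_O1 hA) (h.noR A hA)).1
    have h2 := (exch h.el2 h.WO h.no2 (h.mem_O1 hA)).2.2
    rw [e] at h1 ⊢
    refine (Subgroup.eq_of_le_of_card_ge (sup_le_sup_left h.RW _) ?_).symm
    rw [← mm_eq h1, ← mm_eq h2]
  have hD : Inv D (SS O U₁ W₂) := by
    rintro g hg _ ⟨A, hA, rfl⟩
    refine ⟨cj g A, h.aa_cj1 (h.D1 hg) hA, ?_⟩
    rw [cj_sup', cj_inf, cj_centralizer, cj_eq_of_mem_normalizer (h.KW (h.D2 hg))]
  have hE : Inv E₁ (SS O U₁ W₂) := by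
    rintro g hg _ ⟨A, hA, rfl⟩
    have hA' := h.aa_cj1 (h.e1 hg) hA
    refine ⟨cj g A, hA', ?_⟩
    rw [key A hA, key _ hA', cj_sup', cj_inf, cj_centralizer, cj_eq_of_mem_normalizer (h.ER hg)]
  exact (hD.sup hE).mono h.g1

/-- **(5)** -/
theorem half (hg : Inv K₁ (SS O U₁ W₂)) {A : Subgroup G} (hA : A ∈ AA (O ⊓ centralizer (W₂ : Set G))) :
    (A ⊓ centralizer (U₁ : Set G)) ⊔ U₁ ∈ SS O U₁ W₂ ∧
      ∀ g ∈ K₁, cj g W₂ ≤ (A ⊓ centralizer (U₁ : Set G)) ⊔ U₁ := by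
  have h1 : (A ⊓ centralizer (U₁ : Set G)) ⊔ U₁ ∈ AA (O ⊓ centralizer (U₁ : Set G)) :=
    exch_inf h.el1 h.UO h.no1 (h.mem_O2 hA)
  have h2 : (A ⊓ centralizer (U₁ : Set G)) ⊔ U₁ ∈ AA (O ⊓ centralizer (W₂ : Set G)) := by
    refine mem_inf_of_mem_AA h.el2 h.WO h.no2 (h.mem_O1 h1) (sup_le ?_ (comm_symm (h.comm hg)))
    exact inf_le_left.trans (hA.2.1.trans inf_le_right)
  have h3 : (A ⊓ centralizer (U₁ : Set G)) ⊔ U₁ ∈ SS O U₁ W₂ := by
    rw [h.ss_eq hg]
    exact ⟨h1, h2⟩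
  refine ⟨h3, fun g hgY => ?_⟩
  have h4 := hg g⁻¹ (K₁.inv_mem hgY) _ h3
  rw [h.ss_eq hg] at h4
  rw [ChoiceBase.cj_le_iff]
  exact h.W_le h4.2

/-- `X₁ = ⟨W₂^K₁⟩ U₁` -/
theorem X_le (hg : Inv K₁ (SS O U₁ W₂)) {A : Subgroup G} (hA : A ∈ AA (O ⊓ centralizer (W₂ : Set G))) :
    (⨆ k : K₁, cj (k : G) W₂) ⊔ U₁ ≤ (A ⊓ centralizer (U₁ : Set G)) ⊔ U₁ :=
  sup_le (iSup_le fun k => (h.half hg hA).2 k k.2) le_sup_right

/-- **(5)** if moreover no `C_A(NB)`, `A ∈ AA(C_O(W₂))`, moves `U₁`: contradiction -/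
theorem fail₂ (hg : Inv K₁ (SS O U₁ W₂)) (hf : ∀ A ∈ AA (O ⊓ centralizer (W₂ : Set G)),
    A ⊓ centralizer (NB : Set G) ≤ centralizer (U₁ : Set G)) : False := by
  have key : ∀ A ∈ AA (O ⊓ centralizer (W₂ : Set G)),
      (A ⊓ centralizer (U₁ : Set G)) ⊔ U₁ = (A ⊓ centralizer (NB : Set G)) ⊔ NB := by
    intro A hA
    have e : A ⊓ centralizer (NB : Set G) = A ⊓ centralizer (U₁ : Set G) :=
      le_antisymm (le_inf inf_le_left (hf A hA)) (inf_le_inf_left _ (centralizer_le h.BU))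
    have h1 := (exact_cu h.el1 h.UO h.no1 h.BU (h.mem_O2 hA) (h.noB A hA)).1
    have h2 := (exch h.el1 h.UO h.no1 (h.mem_O2 hA)).2.2
    rw [e] at h1 ⊢
    refine (Subgroup.eq_of_le_of_card_ge (sup_le_sup_left h.BU _) ?_).symm
    rw [← mm_eq h1, ← mm_eq h2]
  -- `SS = {C_A(U₁) U₁ : A ∈ AA(C_O(W₂))}`
  have heq : ∀ X ∈ SS O U₁ W₂, X ∈ AA (O ⊓ centralizer (W₂ : Set G)) ∧
      X = (X ⊓ centralizer (U₁ : Set G)) ⊔ U₁ := by
    intro X hX
    refine ⟨h.ss_mem hX, ?_⟩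
    rw [inf_eq_left.2 (h.ss_cent hg hX)]
    rw [h.ss_eq hg] at hX
    exact (sup_eq_left.2 (h.U_le hX.1)).symm
  have hE : Inv E₂ (SS O U₁ W₂) := by
    intro g hgE X hX
    obtain ⟨h1, h2⟩ := heq X hX
    have hA' := h.aa_cj2 (h.e2 hgE) h1
    have h3 : cj g X = (cj g X ⊓ centralizer (U₁ : Set G)) ⊔ U₁ := by
      rw [key _ hA']
      conv_lhs => rw [h2, key X h1]
      rw [cj_sup', cj_inf, cj_centralizer, cj_eq_of_mem_normalizer (h.EB hgE)]
    rw [h3]
    exact (h.half hg hA').1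
  have hK : Inv K₂ (SS O U₁ W₂) := ((hg.mono inf_le_left).sup hE).mono h.g2
  have h0 : sSup (SS O U₁ W₂) = ⊥ :=
    h.nonloc _ (sSup_le fun Z hZ => (h.ss_mem hZ).2.1.trans inf_le_left) (Inv.le_normalizer hg) (Inv.le_normalizer hK)
  obtain ⟨A, hA⟩ := AA_nonempty (O ⊓ centralizer (U₁ : Set G))
  have h1 : (A ⊓ centralizer (W₂ : Set G)) ⊔ W₂ ∈ SS O U₁ W₂ := ⟨A, hA, rfl⟩
  have h2 := le_sSup h1
  rw [h.ss_eq hg] at h1
  rw [h0] at h2
  exact h.ne (le_bot_iff.1 ((h.U_le h1.1).trans h2))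

/-- **(4), (5).** -/
theorem main :
    (∃ A ∈ AA (O ⊓ centralizer (U₁ : Set G)), A ∈ AA O ∧ U₁ ≤ A ∧
      ¬ A ⊓ centralizer (NR : Set G) ≤ centralizer (W₂ : Set G) ∧
      (centralizer (W₂ : Set G)).relIndex (A ⊓ centralizer (NR : Set G) : Subgroup G) =
        (centralizer ((A ⊓ centralizer (NR : Set G) : Subgroup G) : Set G)).relIndex W₂) ∨
    (∃ X₁ : Subgroup G, X₁ = (⨆ k : K₁, cj (k : G) W₂) ⊔ U₁ ∧ IsElementaryAbelian 2 X₁ ∧
      K₁ ≤ normalizer (X₁ : Set G) ∧ X₁ ≤ O ∧ X₁ ≤ centralizer (U₁ : Set G) ∧ X₁ ≤ centralizer (W₂ : Set G) ∧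
      ∃ A ∈ AA (O ⊓ centralizer (W₂ : Set G)), A ∈ AA O ∧ W₂ ≤ A ∧
        A ⊓ centralizer (U₁ : Set G) ≤ centralizer (X₁ : Set G) ∧
        ¬ A ⊓ centralizer (NB : Set G) ≤ centralizer (U₁ : Set G) ∧
        (centralizer (X₁ : Set G)).relIndex (A ⊓ centralizer (NB : Set G) : Subgroup G) =
          (centralizer ((A ⊓ centralizer (NB : Set G) : Subgroup G) : Set G)).relIndex X₁) := by
  by_cases hf : ∀ A ∈ AA (O ⊓ centralizer (U₁ : Set G)),
      A ⊓ centralizer (NR : Set G) ≤ centralizer (W₂ : Set G)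
  · right
    have hg := h.fail₁ hf
    have hf2 : ¬ ∀ A ∈ AA (O ⊓ centralizer (W₂ : Set G)),
        A ⊓ centralizer (NB : Set G) ≤ centralizer (U₁ : Set G) := fun hf2 => h.fail₂ hg hf2
    push Not at hf2
    obtain ⟨A, hA, hmov⟩ := hf2
    have hAO := h.mem_O2 hA
    have hX := h.X_le hg hA
    have hel : IsElementaryAbelian 2 ((A ⊓ centralizer (U₁ : Set G)) ⊔ U₁ : Subgroup G) :=
      (exch h.el1 h.UO h.no1 hAO).2.2.1
    have hXel := eab_mono hel hX
    have hXab := (eab_iff.1 hel).1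
    have hcen : A ⊓ centralizer (U₁ : Set G) ≤ centralizer (((⨆ k : K₁, cj (k : G) W₂) ⊔ U₁ : Subgroup G) : Set G) :=
      (le_sup_left.trans hXab).trans (centralizer_le hX)
    refine ⟨_, rfl, hXel, ?_, ?_, ?_, ?_, A, hA, hAO, h.W_le hA, hcen, hmov, ?_⟩
    · intro g hgK
      refine mem_normalizer_of_cj_le ?_
      rw [cj_sup', cj_eq_of_mem_normalizer (h.KU hgK)]
      refine sup_le_sup_right ?_ _
      rw [ChoiceBase.cj_le_iff]
      refine iSup_le fun k => ?_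
      rw [← ChoiceBase.cj_le_iff, ChoiceBase.cj_cj]
      exact le_iSup (fun k : K₁ => cj (k : G) W₂) ⟨g * k, K₁.mul_mem hgK k.2⟩
    · exact hX.trans (exch h.el1 h.UO h.no1 hAO).2.2.2.1
    · exact le_sup_right.trans hXab |>.trans (centralizer_le hX) |> comm_symm
    · refine comm_symm ?_
      have h1 : W₂ ≤ (⨆ k : K₁, cj (k : G) W₂) ⊔ U₁ := by
        refine le_trans ?_ le_sup_left
        have h2 := le_iSup (fun k : K₁ => cj (k : G) W₂) ⟨1, K₁.one_mem⟩
        rwa [ChoiceBase.cj_one] at h2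
      exact (h1.trans hX |>.trans hXab).trans (centralizer_le hX)
    · have h1 := exact_cu h.el1 h.UO h.no1 h.BU hAO (h.noB A hA)
      exact (exact_half h.el1 h.UO h.no1 le_sup_right hAO hX inf_le_left h1.2.1).2
  · left
    push Not at hf
    obtain ⟨A, hA, hmov⟩ := hf
    exact ⟨A, hA, h.mem_O1 hA, h.U_le hA, hmov, (exact_cu h.el2 h.WO h.no2 h.RW (h.mem_O1 hA) (h.noR A hA)).2.1⟩

end TwoD

end Cfsg.Agent.Omega.NOThreeL.RZ.TwoC.Side

end

section


/-!
# THEOREM EXN (helper736, bb OMEGA #23252), part (4): the end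

`O` is a 2-group (`O₂(D)`), `L i` the minimal parabolics moving the centre `Z i`, `N i = ⟨Z_i^⟨D, L i⟩⟩ ≤ O`,
`Q i = O ⊓ C(N i)`, `X i j ≤ N j` is `L i`-invariant with `(NO)` (`X i j = ⟨Z_j^(C_{Y_j}(V_i))⟩`).

* `Base`, `Sit` : the situation;  `pi j A = C_A(N_j) N_j`;
* `Good O L N i j` : `pi j` is `L i`-equivariant on `AA(Q i)` (GOOD_ji of helper23's THEOREM GI #22946);
* `good_of_norm`, `good_of_cent`, `good_of_flat` : GI (4)(a), (b), (c);
* **`Base.exn`** : if all `i ≠ j` are good, then `⟨⋂ AA(Q i)⟩ ≠ 1` is normalised by `D` and all `L i` (GI (3));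
* **`Sit.exists_bad`** : GI (5).
-/

set_option autoImplicit false
set_option linter.unusedSectionVars false

namespace Cfsg.Agent.Omega.EXN

open Subgroup Cfsg Cfsg.Agent.ZN Cfsg.Agent.Omega.MinPar
open Cfsg.Agent.Omega.NO3S.EThree Cfsg.Agent.Omega.NO3S.EThree.ExactA Cfsg.Agent.Omega.EK3.Rank
open Cfsg.Agent.ZN.ChoiceBase (AA mm mm_eq mem_AA_iff AA_nonempty card_le_mm cj cj_mem_AA mm_cj mm_mono
  cj_inf cj_centralizer card_cj cj_mono cj_inv_cj cj_cj_inv cj_eq_of_mem_normalizer mem_cj cj_le_iff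
  isElementaryAbelian_cj cj_cj)
open Cfsg.Agent.Omega.NoFF.Basic (comm_symm comm_mono)
open Cfsg.Agent.Omega.NO3S.ML (card_mul_relIndex card_sup_mul_of_comm)

universe u v

/-- The situation of THEOREM EXN / GI (without the groups `X i j`). -/
structure Base {G : Type u} [Group G] {ι : Type v} (D O : Subgroup G) (Z L N : ι → Subgroup G) : Prop where
  OD : O ≤ D
  nO : D ≤ normalizer (O : Set G)
  Oz : ∀ i, O ≤ centralizer (Z i : Set G)
  eN : ∀ i, IsElementaryAbelian 2 (N i)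
  NO : ∀ i, N i ≤ O
  nN : ∀ i, D ≤ normalizer (N i : Set G)
  minN : ∀ i (U : Subgroup G), Z i ≤ U → D ≤ normalizer (U : Set G) → L i ≤ normalizer (U : Set G) → N i ≤ U
  nQ : ∀ i, L i ≤ normalizer ((O ⊓ centralizer (N i : Set G) : Subgroup G) : Set G)
  no : ∀ i, NoOn O (N i)

/-- The situation of THEOREM EXN. -/
structure Sit {G : Type u} [Group G] {ι : Type v} (D O : Subgroup G) (Z L N : ι → Subgroup G)
    (X : ι → ι → Subgroup G) : Prop extends Base D O Z L N where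
  XN : ∀ i j, i ≠ j → X i j ≤ N j
  nX : ∀ i j, i ≠ j → L i ≤ normalizer (X i j : Set G)
  noX : ∀ i j, i ≠ j → NoOn O (X i j)

variable {G : Type u} [Group G] {ι : Type v}

/-- `C_A(N_j) N_j` -/
def pi (N : ι → Subgroup G) (j : ι) (A : Subgroup G) : Subgroup G := (A ⊓ centralizer (N j : Set G)) ⊔ N j

/-- `Q_j` -/
abbrev QQ (O : Subgroup G) (N : ι → Subgroup G) (j : ι) : Subgroup G := O ⊓ centralizer (N j : Set G)

theorem cj_sup (g : G) (A B : Subgroup G) : cj g (A ⊔ B) = cj g A ⊔ cj g B := Subgroup.map_sup _ _ _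

/-- invariance under conjugation gives normality -/
theorem le_normalizer_of_cj {H U : Subgroup G} (h : ∀ g ∈ H, cj g U ≤ U) : H ≤ normalizer (U : Set G) := by
  intro g hg
  rw [mem_normalizer_iff]
  intro x
  constructor
  · intro hx
    apply h g hg
    rw [mem_cj]
    have e : g⁻¹ * (g * x * g⁻¹) * g = x := by group
    rwa [e]
  · intro hx
    have h1 := h g⁻¹ (inv_mem hg)
    have h2 : g⁻¹ * (g * x * g⁻¹) * g⁻¹⁻¹ ∈ U := by
      apply h1
      rw [mem_cj]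
      have e : g⁻¹⁻¹ * (g⁻¹ * (g * x * g⁻¹) * g⁻¹⁻¹) * g⁻¹ = g * x * g⁻¹ := by group
      rwa [e]
    have e : g⁻¹ * (g * x * g⁻¹) * g⁻¹⁻¹ = x := by group
    rwa [e] at h2

/-- the join of a family invariant under conjugation by `H` is normalised by `H` -/
theorem le_normalizer_sSup {H : Subgroup G} {s : Set (Subgroup G)} (h : ∀ g ∈ H, ∀ A ∈ s, cj g A ∈ s) :
    H ≤ normalizer ((sSup s : Subgroup G) : Set G) := by
  refine le_normalizer_of_cj fun g hg => ?_
  rw [cj_le_iff]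
  refine sSup_le fun A hA => ?_
  rw [← cj_le_iff]
  exact le_sSup (h g hg A hA)

/-- the pair `(i, j)` is good: `pi j` is `L i`-equivariant on `AA(Q i)` (GOOD_ji of #22946). -/
def Good (O : Subgroup G) (L N : ι → Subgroup G) (i j : ι) : Prop :=
  ∀ A ∈ AA (QQ O N i), ∀ g ∈ L i, pi N j (cj g A) = cj g (pi N j A)

namespace Base

variable {D O : Subgroup G} {Z L N : ι → Subgroup G} (h : Base D O Z L N)
include h

theorem nDQ (i : ι) : D ≤ normalizer ((QQ O N i : Subgroup G) : Set G) := by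
  intro d hd
  refine le_normalizer_of_cj (H := D) (fun g hg => ?_) hd
  rw [QQ, cj_inf, cj_centralizer, cj_eq_of_mem_normalizer (h.nO hg), cj_eq_of_mem_normalizer (h.nN i hg)]

variable [Finite G]

theorem pi_mem {j : ι} {A : Subgroup G} (hA : A ∈ AA O) : pi N j A ∈ AA (QQ O N j) :=
  exch_inf (h.eN j) (h.NO j) (h.no j) hA

theorem AA_le {j : ι} {A : Subgroup G} (hA : A ∈ AA (QQ O N j)) : A ∈ AA O :=
  mem_AA_of_inf (h.eN j) (h.NO j) (h.no j) hA

/-- `pi j A = A` for `A ∈ AA(Q_j)` -/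
theorem pi_eq {j : ι} {A : Subgroup G} (hA : A ∈ AA (QQ O N j)) : pi N j A = A := by
  have h1 : N j ≤ A := le_of_mem_inf (h.eN j) (h.NO j) (h.no j) hA
  rw [pi, inf_eq_left.2 (hA.2.1.trans inf_le_right)]
  exact sup_eq_left.2 h1

/-- `cj g A ∈ AA(Q_i)` -/
theorem cj_mem {i : ι} {g : G} (hg : g ∈ normalizer ((QQ O N i : Subgroup G) : Set G)) {A : Subgroup G}
    (hA : A ∈ AA (QQ O N i)) : cj g A ∈ AA (QQ O N i) := by
  have := cj_mem_AA g hA
  rwa [cj_eq_of_mem_normalizer hg] at this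

theorem pi_cj_D {j : ι} {A : Subgroup G} {g : G} (hg : g ∈ D) : pi N j (cj g A) = cj g (pi N j A) := by
  have hN := cj_eq_of_mem_normalizer (h.nN j hg)
  rw [pi, pi, cj_sup, cj_inf, cj_centralizer, hN]

/-- a subgroup of `O` normalised by `D` and `L i` is in `Q i` -/
theorem le_QQ_of {i : ι} {U : Subgroup G} (hU : U ≤ O) (hD : D ≤ normalizer (U : Set G))
    (hL : L i ≤ normalizer (U : Set G)) : U ≤ QQ O N i := by
  refine le_inf hU ?_
  have hcn : normalizer (U : Set G) ≤ normalizer ((centralizer (U : Set G) : Subgroup G) : Set G) := by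
    refine le_normalizer_of_cj fun g hg => ?_
    rw [cj_centralizer, cj_eq_of_mem_normalizer hg]
  have h1 := h.minN i (centralizer (U : Set G)) ?_ (hD.trans hcn) (hL.trans hcn)
  · exact comm_symm h1
  · exact comm_symm (hU.trans (h.Oz i))

/-- (4)(a) of #22946: `L i` normalises `N j` -/
theorem good_of_norm {i j : ι} (hn : L i ≤ normalizer (N j : Set G)) : Good O L N i j := by
  intro A _ g hg
  have hN := cj_eq_of_mem_normalizer (hn hg)
  rw [pi, pi, cj_sup, cj_inf, cj_centralizer, hN]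

/-- (4)(b) of #22946: the members of `AA(Q i)` centralise `N j` -/
theorem good_of_cent {i j : ι} (hc : ∀ A ∈ AA (QQ O N i), A ≤ centralizer (N j : Set G)) : Good O L N i j := by
  intro A hA g hg
  have h1 : ∀ B ∈ AA (QQ O N i), pi N j B = B := fun B hB =>
    h.pi_eq (mem_inf_of_mem_AA (h.eN j) (h.NO j) (h.no j) (h.AA_le hB) (hc B hB))
  rw [h1 A hA, h1 _ (h.cj_mem (h.nQ i hg) hA)]

/-- `pi j` maps `AA(Q i)` to `AA(Q i) ∩ AA(Q j)` -/
theorem pi_mem_i {i j : ι} (hij : Good O L N i j) {A : Subgroup G} (hA : A ∈ AA (QQ O N i)) :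
    pi N j A ∈ AA (QQ O N i) := by
  set s : Set (Subgroup G) := {B | ∃ A ∈ AA (QQ O N i), B = pi N j A} with hs
  have hO : sSup s ≤ O := by
    refine sSup_le ?_
    rintro _ ⟨A, hA, rfl⟩
    exact (h.pi_mem (j := j) (h.AA_le hA)).2.1.trans inf_le_left
  have hD : D ≤ normalizer ((sSup s : Subgroup G) : Set G) := by
    refine le_normalizer_sSup ?_
    rintro g hg _ ⟨A, hA, rfl⟩
    exact ⟨_, h.cj_mem (h.nDQ i hg) hA, (h.pi_cj_D hg).symm⟩
  have hL : L i ≤ normalizer ((sSup s : Subgroup G) : Set G) := by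
    refine le_normalizer_sSup ?_
    rintro g hg _ ⟨A, hA, rfl⟩
    exact ⟨_, h.cj_mem (h.nQ i hg) hA, (hij A hA g hg).symm⟩
  have h1 := h.le_QQ_of hO hD hL
  have h2 : pi N j A ∈ s := ⟨A, hA, rfl⟩
  exact mem_inf_of_mem_AA (h.eN i) (h.NO i) (h.no i) (h.AA_le (h.pi_mem (h.AA_le hA)))
    (((le_sSup h2).trans h1).trans inf_le_right)

/-- a good pair: `N j ≤ Q i` -/
theorem N_le {i j : ι} (hij : Good O L N i j) : N j ≤ QQ O N i := by
  obtain ⟨A, hA⟩ := AA_nonempty (QQ O N i)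
  exact (le_sup_right : N j ≤ pi N j A).trans (h.pi_mem_i hij hA).2.1

/-- `⋂ AA(Q_i)` over a finite set of indices is not empty -/
theorem exists_mem (good : ∀ i j, i ≠ j → Good O L N i j) (s : Finset ι) :
    ∃ A ∈ AA O, ∀ i ∈ s, A ∈ AA (QQ O N i) := by
  classical
  induction s using Finset.induction_on with
  | empty =>
    obtain ⟨A, hA⟩ := AA_nonempty O
    exact ⟨A, hA, by simp⟩
  | insert j s hj ih =>
    obtain ⟨A, hA, h1⟩ := ih
    refine ⟨pi N j A, h.AA_le (h.pi_mem hA), fun i hi => ?_⟩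
    rcases Finset.mem_insert.1 hi with rfl | hi
    · exact h.pi_mem hA
    · exact h.pi_mem_i (good i j fun e : i = j => hj (by rwa [← e])) (h1 i hi)

/-- **THEOREM EXN (4) = THEOREM GI #22946 (3): all pairs good.** -/
theorem exn [Finite ι] (good : ∀ i j, i ≠ j → Good O L N i j) (hO : ∃ x ∈ O, x ≠ 1 ∧ x ^ 2 = 1) :
    ∃ U : Subgroup G, U ≠ ⊥ ∧ U ≤ O ∧ D ≤ normalizer (U : Set G) ∧ ∀ i, L i ≤ normalizer (U : Set G) := by
  classical
  have := Fintype.ofFinite ι
  set s : Set (Subgroup G) := {A | A ∈ AA O ∧ ∀ i, A ∈ AA (QQ O N i)} with hs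
  obtain ⟨A, hA, hAi⟩ := h.exists_mem good Finset.univ
  have hAs : A ∈ s := ⟨hA, fun i => hAi i (Finset.mem_univ i)⟩
  have hle : sSup s ≤ O := sSup_le fun B hB => hB.1.2.1
  refine ⟨sSup s, ?_, hle, ?_, fun i => ?_⟩
  · intro h0
    obtain ⟨x, hx, hx1, hx2⟩ := hO
    have h1 : A = ⊥ := le_bot_iff.1 ((le_sSup hAs).trans h0.le)
    have h2 : IsElementaryAbelian 2 (zpowers x : Subgroup G) := by
      rw [eab_iff]
      refine ⟨?_, ?_⟩
      · intro y hy
        obtain ⟨n, rfl⟩ := mem_zpowers_iff.1 hy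
        rw [mem_centralizer_iff]
        intro w hw
        obtain ⟨m, rfl⟩ := mem_zpowers_iff.1 hw
        rw [← zpow_add, ← zpow_add, add_comm]
      · intro y hy
        obtain ⟨n, rfl⟩ := mem_zpowers_iff.1 hy
        rw [← zpow_natCast, ← zpow_mul, mul_comm, zpow_mul, zpow_natCast, hx2, one_zpow]
    have h3 := hA.2.2 _ h2 (by rwa [zpowers_le])
    rw [h1, card_bot] at h3
    have h4 : (zpowers x : Subgroup G) = ⊥ := Subgroup.eq_bot_of_card_le _ h3
    exact hx1 (zpowers_eq_bot.1 h4)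
  · refine le_normalizer_sSup fun g hg B hB => ?_
    refine ⟨?_, fun i => h.cj_mem (h.nDQ i hg) (hB.2 i)⟩
    have := cj_mem_AA g hB.1
    rwa [cj_eq_of_mem_normalizer (h.nO hg)] at this
  · refine le_normalizer_sSup fun g hg B hB => ?_
    have hBi := h.cj_mem (h.nQ i hg) (hB.2 i)
    refine ⟨h.AA_le hBi, fun j => ?_⟩
    by_cases hij : i = j
    · rwa [← hij]
    · have h1 := good i j hij B (hB.2 i) g hg
      rw [h.pi_eq (hB.2 j)] at h1
      rw [← h1]
      exact h.pi_mem (h.AA_le hBi)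

end Base

namespace Sit

variable {D O : Subgroup G} {Z L N : ι → Subgroup G} {X : ι → ι → Subgroup G} (h : Sit D O Z L N X)
include h

variable [Finite G]

/-- the second form of `pi` -/
theorem pi_eq_X {i j : ι} (hij : i ≠ j) {A : Subgroup G} (hA : A ∈ AA (QQ O N i))
    (hf : A ⊓ centralizer (X i j : Set G) ≤ centralizer (N j : Set G)) :
    pi N j A = (A ⊓ centralizer (X i j : Set G)) ⊔ X i j := by
  have hAO := h.AA_le hA
  have hXN := h.XN i j hij
  have hXe : IsElementaryAbelian 2 (X i j) := eab_mono (h.eN j) hXN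
  have hc : A ⊓ centralizer (X i j : Set G) = A ⊓ centralizer (N j : Set G) :=
    le_antisymm (le_inf inf_le_left hf) (inf_le_inf_left _ (centralizer_le hXN))
  have h1 := (exch hXe (hXN.trans (h.NO j)) (h.noX i j hij) hAO).2.2
  have h2 := (exch (h.eN j) (h.NO j) (h.no j) hAO).2.2
  have h3 : (A ⊓ centralizer (X i j : Set G)) ⊔ X i j ≤ pi N j A := by
    rw [pi, hc]
    exact sup_le_sup_left hXN _
  refine (Subgroup.eq_of_le_of_card_ge h3 ?_).symm
  exact h1.2.2 _ h2.1 h2.2.1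

/-- (4)(c) of #22946 = FAIL: the pair is good -/
theorem good_of_flat {i j : ι} (hij : i ≠ j)
    (flat : ∀ A ∈ AA (QQ O N i), A ⊓ centralizer (X i j : Set G) ≤ centralizer (N j : Set G)) : Good O L N i j := by
  intro A hA g hg
  have hA' := h.cj_mem (h.nQ i hg) hA
  have hX := cj_eq_of_mem_normalizer (h.nX i j hij hg)
  rw [h.pi_eq_X hij hA (flat A hA), h.pi_eq_X hij hA' (flat _ hA'), cj_sup, cj_inf, cj_centralizer, hX]

/-- **THEOREM EXN (4).** -/
theorem exn [Finite ι] (hO : ∃ x ∈ O, x ≠ 1 ∧ x ^ 2 = 1) (flat : ∀ i j, i ≠ j → ∀ A ∈ AA (QQ O N i),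
      A ⊓ centralizer (X i j : Set G) ≤ centralizer (N j : Set G)) : ∃ U : Subgroup G, U ≠ ⊥ ∧ U ≤ O ∧
    D ≤ normalizer (U : Set G) ∧ ∀ i, L i ≤ normalizer (U : Set G) :=
  h.toBase.exn (fun i j hij => h.good_of_flat hij (flat i j hij)) hO

/-- **THEOREM GI #22946 (5), the output.** If `⟨D, L i⟩` normalise no `1 ≠ U ≤ O`, then for some `i ≠ j`: `L i` does not
normalise `N j` and some `A ∈ AA(Q i)` has `C_A(X i j)` moving `N j`. -/
theorem exists_bad [Finite ι] (hO : ∃ x ∈ O, x ≠ 1 ∧ x ^ 2 = 1)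
    (non : ∀ U : Subgroup G, U ≤ O → D ≤ normalizer (U : Set G) → (∀ i, L i ≤ normalizer (U : Set G)) → U = ⊥) :
    ∃ i j, i ≠ j ∧ ¬ L i ≤ normalizer (N j : Set G) ∧ ∃ A ∈ AA (QQ O N i), A ∈ AA O ∧
      ¬ A ⊓ centralizer (X i j : Set G) ≤ centralizer (N j : Set G) := by
  by_contra hc
  push Not at hc
  have hg : ∀ i j, i ≠ j → Good O L N i j := by
    intro i j hij
    by_cases hn : L i ≤ normalizer (N j : Set G)
    · exact h.good_of_norm hn
    · exact h.good_of_flat hij fun A hA => hc i j hij hn A hA (h.AA_le hA)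
  obtain ⟨U, h1, h2, h3, h4⟩ := h.toBase.exn hg hO
  exact h1 (non U h2 h3 h4)

end Sit

end Cfsg.Agent.Omega.EXN

end

section


/-!
# THEOREM EXN (helper736, bb OMEGA #23252), parts (1)-(3)

`E i j = ⟨Z^⟨D, L i, L j⟩⟩ ≤ O` elementary abelian (at least three centres: `⟨Y_i, Y_j⟩` is in a local group).

* `Big` : the situation, with the socket `kl` (THEOREM KL*): no minimal offender `F ≤ O` on `E i j` which centralises
  `X i j` moves `N j`;
* `exact_of` : what the consumer of `kl` gets: `E = N_j C_E(F)`, `C_F(N_j) = C_F(E)`, the three indices;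
* `Big.star` : a minimal offender on `E i j` which moves `N j` moves `X i j`;
* `Big.empty` : no minimal offender on `E i j` is in `Q i ∩ Q j`;
* `Big.flat` : `C_A(X i j) = C_A(N j)` for `A ∈ AA(Q i)`;
* **`Big.exn`** : `⟨D, L i⟩` normalises a nontrivial subgroup of `O`.
-/

set_option autoImplicit false
set_option linter.unusedSectionVars false

namespace Cfsg.Agent.Omega.EXN

open Subgroup Cfsg Cfsg.Agent.ZN Cfsg.Agent.Omega.MinPar
open Cfsg.Agent.Omega.NO3S.EThree Cfsg.Agent.Omega.NO3S.EThree.ExactA Cfsg.Agent.Omega.EK3.Rank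
open Cfsg.Agent.ZN.ChoiceBase (AA mm mm_eq mem_AA_iff AA_nonempty card_le_mm cj cj_mem_AA mm_cj mm_mono
  cj_inf cj_centralizer card_cj cj_mono cj_inv_cj cj_cj_inv cj_eq_of_mem_normalizer mem_cj cj_le_iff
  isElementaryAbelian_cj cj_cj)
open Cfsg.Agent.Omega.NoFF.Basic (comm_symm comm_mono)
open Cfsg.Agent.Omega.NO3S.ML (card_mul_relIndex card_sup_mul_of_comm)

universe u v

variable {G : Type u} [Group G] {ι : Type v}

/-! ### conjugation of offenders -/

theorem relIndex_cj (g : G) (A B : Subgroup G) : (cj g A).relIndex (cj g B) = A.relIndex B :=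
  Subgroup.relIndex_map_map_of_injective A B (MulAut.conj g).injective

theorem offd_cj {E F : Subgroup G} (h : Offd E F) {g : G} (hg : g ∈ normalizer (E : Set G)) : Offd E (cj g F) := by
  have hE := cj_eq_of_mem_normalizer hg
  refine ⟨?_, fun hc => h.mov ?_, ?_⟩
  · intro x hx
    rw [mem_cj] at hx
    have h1 := mul_mem (mul_mem hg (h.norm hx)) (inv_mem hg)
    have e : g * (g⁻¹ * x * g) * g⁻¹ = x := by group
    rwa [e] at h1
  · have h1 : cj g F ≤ cj g (centralizer (E : Set G)) := by rwa [cj_centralizer, hE]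
    have h2 := cj_mono g⁻¹ h1
    rwa [cj_inv_cj, cj_inv_cj] at h2
  · have e1 : (centralizer (cj g F : Set G)).relIndex E = (centralizer (F : Set G)).relIndex E := by
      rw [← cj_centralizer]
      conv_lhs => rw [← hE]
      exact relIndex_cj g _ _
    have e2 : (centralizer (E : Set G)).relIndex (cj g F) = (centralizer (E : Set G)).relIndex F := by
      conv_lhs => rw [← hE, ← cj_centralizer]
      exact relIndex_cj g _ _
    rw [e1, e2]
    exact h.le

theorem minOff_cj {E F : Subgroup G} (h : MinOff E F) {g : G} (hg : g ∈ normalizer (E : Set G)) :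
    MinOff E (cj g F) := by
  have hE := cj_eq_of_mem_normalizer hg
  refine ⟨offd_cj h.toOffd hg, fun B hB hBo => ?_⟩
  have h1 : cj g⁻¹ B ≤ F := by
    have := cj_mono g⁻¹ hB
    rwa [cj_inv_cj] at this
  have h2 := h.min _ h1 (offd_cj hBo (inv_mem hg))
  have e : ∀ (x : G) (_ : x ∈ normalizer (E : Set G)) (C : Subgroup G),
      (centralizer (E : Set G)).relIndex (cj x C) = (centralizer (E : Set G)).relIndex C := by
    intro x hx C
    have hE := cj_eq_of_mem_normalizer hx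
    conv_lhs => rw [← hE, ← cj_centralizer]
    exact relIndex_cj x _ _
  rw [e g hg, ← e g⁻¹ (inv_mem hg) B]
  exact h2

variable [Finite G]

/-! ### a subgroup of an offender centralising `V` -/

/-- (1)(b): `F` offends on `E`, `V ≤ E` with `(NO)` for `F`: if `C_F(V)` moves `E`, it offends on `E`. -/
theorem offd_inf {E V F : Subgroup G} (hF : F ≤ normalizer (E : Set G))
    (hle : (centralizer (F : Set G)).relIndex E ≤ (centralizer (E : Set G)).relIndex F) (hVE : V ≤ E)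
    (hno : (centralizer (V : Set G)).relIndex F ≤ (centralizer (F : Set G)).relIndex V)
    (hm : ¬ F ⊓ centralizer (V : Set G) ≤ centralizer (E : Set G)) : Offd E (F ⊓ centralizer (V : Set G)) := by
  refine ⟨inf_le_left.trans hF, hm, ?_⟩
  have h1 := mul_relIndex_le (N := E) (V := V) (A := F) (B := F ⊓ centralizer (V : Set G)) hVE inf_le_left inf_le_right
  have h2 := relIndex_eq_mul (N := E) (V := V) (A := F) hVE
  have hV0 : 0 < (centralizer (F : Set G)).relIndex V := Nat.pos_of_ne_zero index_ne_zero_of_finite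
  refine Nat.le_of_mul_le_mul_left (h1.trans (hle.trans ?_)) hV0
  rw [h2, mul_comm]
  exact Nat.mul_le_mul_right _ hno

/-- (1)(b) for a minimal offender: `F` centralises `V`. -/
theorem minOff_le {E V F : Subgroup G} (h : MinOff E F) (hVE : V ≤ E)
    (hno : (centralizer (V : Set G)).relIndex F ≤ (centralizer (F : Set G)).relIndex V)
    (hm : ¬ F ⊓ centralizer (V : Set G) ≤ centralizer (E : Set G)) : F ≤ centralizer (V : Set G) := by
  have h1 := h.min _ inf_le_left (offd_inf h.norm h.le hVE hno hm)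
  have h2 := relIndex_eq_mul (N := E) (V := V) (A := F) hVE
  have h3 : 0 < (centralizer (E : Set G)).relIndex (F ⊓ centralizer (V : Set G)) :=
    Nat.pos_of_ne_zero index_ne_zero_of_finite
  have h4 : (centralizer (V : Set G)).relIndex F ≤ 1 := by
    rw [h2] at h1
    refine Nat.le_of_mul_le_mul_left ?_ h3
    rwa [mul_one]
  have h5 : (centralizer (V : Set G)).relIndex F ≠ 0 := index_ne_zero_of_finite
  exact relIndex_eq_one.1 (by omega)

/-- (1)(a), for the consumer of `kl`. -/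
theorem exact_of {O E N F : Subgroup G} (hF : IsElementaryAbelian 2 F) (hFO : F ≤ O) (h : MinOff E F) (hNE : N ≤ E)
    (hno : NoOn O N) (hm : ¬ F ≤ centralizer (N : Set G)) :
    F ⊓ centralizer (N : Set G) ≤ centralizer (E : Set G) ∧ E ≤ N ⊔ (E ⊓ centralizer (F : Set G)) ∧
      (centralizer (E : Set G)).relIndex F = (centralizer (F : Set G)).relIndex N ∧
      (centralizer (F : Set G)).relIndex E = (centralizer (F : Set G)).relIndex N ∧
      (centralizer (N : Set G)).relIndex F = (centralizer (F : Set G)).relIndex N := by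
  have hle := hno F hF hFO
  exact ⟨h.inf_le hNE hm hle, h.le_sup hNE hm hle, h.relIndex_eq hNE hm hle⟩

/-! ### The situation -/

/-- The situation of THEOREM EXN with at least three centres. -/
structure Big (D O : Subgroup G) (Z L N : ι → Subgroup G) (X E : ι → ι → Subgroup G) : Prop
    extends Sit D O Z L N X where
  eE : ∀ i j, i ≠ j → IsElementaryAbelian 2 (E i j)
  EO : ∀ i j, i ≠ j → E i j ≤ O
  NE : ∀ i j, i ≠ j → N j ≤ E i j
  symm : ∀ i j, E i j = E j i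
  DE : ∀ i j, i ≠ j → D ≤ normalizer (E i j : Set G)
  LE : ∀ i j, i ≠ j → L i ≤ normalizer (E i j : Set G)
  minE : ∀ i j, i ≠ j → ∀ U : Subgroup G, (∀ l, Z l ≤ U) → D ≤ normalizer (U : Set G) →
    L i ≤ normalizer (U : Set G) → L j ≤ normalizer (U : Set G) → E i j ≤ U
  kl : ∀ i j, i ≠ j → ∀ F : Subgroup G, IsElementaryAbelian 2 F → F ≤ O → MinOff (E i j) F →
    F ≤ centralizer (X i j : Set G) → F ≤ centralizer (N j : Set G)

namespace Big

variable {D O : Subgroup G} {Z L N : ι → Subgroup G} {X E : ι → ι → Subgroup G} (h : Big D O Z L N X E)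
include h

/-- (*) -/
theorem star {i j : ι} (hij : i ≠ j) {F : Subgroup G} (hF : IsElementaryAbelian 2 F) (hFO : F ≤ O)
    (hm : MinOff (E i j) F) (hN : ¬ F ≤ centralizer (N j : Set G)) : ¬ F ≤ centralizer (X i j : Set G) :=
  fun hc => hN (h.kl i j hij F hF hFO hm hc)

/-- `cj g` preserves the minimal offenders in `Q i` which centralise `N j` -/
theorem cj_cent {i j : ι} (hij : i ≠ j) {F : Subgroup G} (hF : IsElementaryAbelian 2 F) (hFQ : F ≤ QQ O N i)
    (hm : MinOff (E i j) F) (hN : F ≤ centralizer (N j : Set G)) {g : G} (hg : g ∈ L i) :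
    IsElementaryAbelian 2 (cj g F) ∧ cj g F ≤ QQ O N i ∧ MinOff (E i j) (cj g F) ∧
      cj g F ≤ centralizer (N j : Set G) := by
  have h1 : IsElementaryAbelian 2 (cj g F) := isElementaryAbelian_cj g hF
  have h2 : cj g F ≤ QQ O N i := by
    have := cj_mono g hFQ
    rwa [cj_eq_of_mem_normalizer (h.nQ i hg)] at this
  have h3 : MinOff (E i j) (cj g F) := minOff_cj hm (h.LE i j hij hg)
  refine ⟨h1, h2, h3, ?_⟩
  by_contra hc
  apply h.star hij h1 (h2.trans inf_le_left) h3 hc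
  have h4 : F ≤ centralizer (X i j : Set G) := hN.trans (centralizer_le (h.XN i j hij))
  have h5 := cj_mono g h4
  rwa [cj_centralizer, cj_eq_of_mem_normalizer (h.nX i j hij hg)] at h5

/-- (2) -/
theorem empty {i j : ι} (hij : i ≠ j) {F : Subgroup G} (hF : IsElementaryAbelian 2 F) (hFO : F ≤ O)
    (hm : MinOff (E i j) F) (hi : F ≤ centralizer (N i : Set G)) (hj : F ≤ centralizer (N j : Set G)) : False := by
  set s : Set (Subgroup G) := {F | IsElementaryAbelian 2 F ∧ F ≤ O ∧ MinOff (E i j) F ∧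
    F ≤ centralizer (N i : Set G) ∧ F ≤ centralizer (N j : Set G)} with hs
  have hFs : F ∈ s := ⟨hF, hFO, hm, hi, hj⟩
  have hle : sSup s ≤ O := sSup_le fun B hB => hB.2.1
  have hL : ∀ {i j : ι}, i ≠ j → ∀ g ∈ L i, ∀ A : Subgroup G, (IsElementaryAbelian 2 A ∧ A ≤ O ∧ MinOff (E i j) A ∧
      A ≤ centralizer (N i : Set G) ∧ A ≤ centralizer (N j : Set G)) → (IsElementaryAbelian 2 (cj g A) ∧ cj g A ≤ O ∧
        MinOff (E i j) (cj g A) ∧ cj g A ≤ centralizer (N i : Set G) ∧ cj g A ≤ centralizer (N j : Set G)) := by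
    intro i j hij g hg A hA
    obtain ⟨h1, h2, h3, h4⟩ := h.cj_cent hij hA.1 (le_inf hA.2.1 hA.2.2.2.1) hA.2.2.1 hA.2.2.2.2 hg
    exact ⟨h1, h2.trans inf_le_left, h3, h2.trans inf_le_right, h4⟩
  have h1 : D ≤ normalizer ((sSup s : Subgroup G) : Set G) := by
    refine le_normalizer_sSup fun g hg A hA => ?_
    refine ⟨isElementaryAbelian_cj g hA.1, ?_, minOff_cj hA.2.2.1 (h.DE i j hij hg), ?_, ?_⟩
    · have := cj_mono g hA.2.1
      rwa [cj_eq_of_mem_normalizer (h.nO hg)] at this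
    · have := cj_mono g hA.2.2.2.1
      rwa [cj_centralizer, cj_eq_of_mem_normalizer (h.nN i hg)] at this
    · have := cj_mono g hA.2.2.2.2
      rwa [cj_centralizer, cj_eq_of_mem_normalizer (h.nN j hg)] at this
  have h2 : L i ≤ normalizer ((sSup s : Subgroup G) : Set G) := le_normalizer_sSup fun g hg A hA => hL hij g hg A hA
  have h3 : L j ≤ normalizer ((sSup s : Subgroup G) : Set G) := by
    refine le_normalizer_sSup fun g hg A hA => ?_
    have hA' := hA.2.2.1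
    rw [h.symm i j] at hA'
    obtain ⟨e1, e2, e3, e4, e5⟩ := hL hij.symm g hg A ⟨hA.1, hA.2.1, hA', hA.2.2.2.2, hA.2.2.2.1⟩
    rw [← h.symm i j] at e3
    exact ⟨e1, e2, e3, e5, e4⟩
  have hcn : ∀ {U : Subgroup G}, normalizer (U : Set G) ≤
      normalizer ((centralizer (U : Set G) : Subgroup G) : Set G) := by
    intro U
    refine le_normalizer_of_cj fun g hg => ?_
    rw [cj_centralizer, cj_eq_of_mem_normalizer hg]
  have h4 := h.minE i j hij (centralizer ((sSup s : Subgroup G) : Set G))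
    (fun l => comm_symm (hle.trans (h.Oz l))) (h1.trans hcn) (h2.trans hcn) (h3.trans hcn)
  exact hm.mov ((le_sSup hFs).trans (comm_symm h4))

/-- (3) -/
theorem flat {i j : ι} (hij : i ≠ j) {A : Subgroup G} (hA : A ∈ AA (QQ O N i)) :
    A ⊓ centralizer (X i j : Set G) ≤ centralizer (N j : Set G) := by
  by_contra hc
  have hAO := h.AA_le hA
  have hXE : X i j ≤ E i j := (h.XN i j hij).trans (h.NE i j hij)
  have h1 : Offd (E i j) (A ⊓ centralizer (X i j : Set G)) := by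
    refine offd_inf (hAO.2.1.trans (h.OD.trans (h.DE i j hij))) (le_of_mem (h.eE i j hij) (h.EO i j hij) hAO) hXE
      (h.noX i j hij A hAO.1 hAO.2.1) fun hc' => hc (hc'.trans (centralizer_le (h.NE i j hij)))
  obtain ⟨F, hFB, hF⟩ := h1.exists_min
  have hFA : F ≤ A := hFB.trans inf_le_left
  have hFe : IsElementaryAbelian 2 F := eab_mono hAO.1 hFA
  have hFO : F ≤ O := hFA.trans hAO.2.1
  have h2 := h.kl i j hij F hFe hFO hF (hFB.trans inf_le_right)
  exact h.empty hij hFe hFO hF (hFA.trans (hA.2.1.trans inf_le_right)) h2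

/-- **THEOREM EXN.** -/
theorem exn [Finite ι] (hO : ∃ x ∈ O, x ≠ 1 ∧ x ^ 2 = 1) : ∃ U : Subgroup G, U ≠ ⊥ ∧ U ≤ O ∧
    D ≤ normalizer (U : Set G) ∧ ∀ i, L i ≤ normalizer (U : Set G) :=
  h.toSit.exn hO fun _ _ hij _ hA => h.flat hij hA

end Big

end Cfsg.Agent.Omega.EXN

end

section


/-!
# EK3: the lever (helper574 #22296 (4'); replaces (4) of helper474's THEOREM K3 #22123)

`O` a 2-group, `E` abelian, generated by the conjugates of `ZJ` under `⟨Y i⟩`, normalised by the `Y i ≥ O`, `O` centralises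
`ZJ`; `N i ≤ E` normal in `Y i`, `Q i = C_O(N i)` normal in `Y i`, `(NO)` for elementary abelian `F ≤ O` on `N i`.

* `Dt` : this setting;
* `Dt.exists_mov` : if some elementary abelian `A ≤ O` offends `E` then some minimal offender moves some `N i`;
* `Dt.lever` : `∃ i, ∃ F ≤ O`, elementary abelian, moving `N i`, with `[E, F] ≤ N i`;
* `Dt.main` : with GAUSS' and LEMMA G' of #22123 as hypotheses: the trichotomy (4');
* `offd_of_AA` : `A ∈ AA O` moving `E ≤ O` offends `E`.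
-/

set_option autoImplicit false
set_option linter.unusedSectionVars false

namespace Cfsg.Agent.Omega.EK3.Lever

open Subgroup Cfsg Cfsg.Agent.ZN Cfsg.Agent.ZN.ChoiceBase
open Cfsg.Agent.Omega.NO3S.EThree
open Cfsg.Agent.Omega.NO3S.EThree.ExactA (eab_mono eab_sup)
open Cfsg.Agent.Omega.NO3S.ML (card_mul_relIndex card_sup_mul_of_comm)
open scoped commutatorElement

universe u

variable {G : Type u} [Group G]

theorem relIndex_cj (g : G) (H K : Subgroup G) : (cj g H).relIndex (cj g K) = H.relIndex K :=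
  Subgroup.relIndex_map_map_of_injective _ _ (MulAut.conj g).injective

theorem offd_cj {N A : Subgroup G} (h : Offd N A) (g : G) : Offd (cj g N) (cj g A) where
  norm := by
    rw [← cj_normalizer]
    exact cj_mono g h.norm
  mov := fun hc => h.mov (by
    rw [← cj_centralizer] at hc
    have h1 := cj_mono g⁻¹ hc
    rwa [cj_inv_cj, cj_inv_cj] at h1)
  le := by
    rw [← cj_centralizer, ← cj_centralizer, relIndex_cj, relIndex_cj]
    exact h.le

theorem minOff_cj {N A : Subgroup G} (h : MinOff N A) (g : G) : MinOff (cj g N) (cj g A) where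
  toOffd := offd_cj h.toOffd g
  min := fun B hB hO => by
    have h1 := offd_cj hO g⁻¹
    rw [cj_inv_cj] at h1
    have h2 := h.min (cj g⁻¹ B) (by
      have := cj_mono g⁻¹ hB
      rwa [cj_inv_cj] at this) h1
    rw [← cj_centralizer, relIndex_cj]
    have h3 := relIndex_cj g (centralizer (N : Set G)) (cj g⁻¹ B)
    rw [cj_cj_inv] at h3
    rw [h3]
    exact h2

/-- The data of (4'). -/
structure Dt {ι : Type*} (O E ZJ : Subgroup G) (Y N : ι → Subgroup G) : Prop where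
  ab : E ≤ centralizer (E : Set G)
  OY : ∀ i, O ≤ Y i
  YE : ∀ i, Y i ≤ normalizer (E : Set G)
  OZ : O ≤ centralizer (ZJ : Set G)
  gen : E ≤ ⨆ y : (⨆ i, Y i : Subgroup G), cj (y : G) ZJ
  NE : ∀ i, N i ≤ E
  YN : ∀ i, Y i ≤ normalizer (N i : Set G)
  YQ : ∀ i, Y i ≤ normalizer ((O ⊓ centralizer (N i : Set G) : Subgroup G) : Set G)
  no : ∀ i, ∀ F : Subgroup G, IsElementaryAbelian 2 F → F ≤ O →
    (centralizer (N i : Set G)).relIndex F ≤ (centralizer (F : Set G)).relIndex (N i)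

variable {ι : Type*} {O E ZJ : Subgroup G} {Y N : ι → Subgroup G}

theorem Dt.exists_mov (h : Dt O E ZJ Y N) [Finite G] {A : Subgroup G} (hA : A ≤ O) (hAe : IsElementaryAbelian 2 A)
    (hoff : Offd E A) : ∃ F : Subgroup G, F ≤ O ∧ IsElementaryAbelian 2 F ∧ MinOff E F ∧
      ∃ i, ¬ F ≤ centralizer (N i : Set G) := by
  by_contra hcon
  push Not at hcon
  obtain ⟨F, hFA, hF⟩ := hoff.exists_min
  -- the conjugates of a minimal offender are minimal offenders inside `O`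
  have key : ∀ y ∈ (⨆ i, Y i : Subgroup G), ∀ F : Subgroup G, F ≤ O → IsElementaryAbelian 2 F → MinOff E F →
      cj y F ≤ O ∧ IsElementaryAbelian 2 (cj y F : Subgroup G) ∧ MinOff E (cj y F) := by
    intro y hy
    rw [← Subgroup.mem_toSubmonoid, Subgroup.iSup_eq_closure] at hy
    rw [Subgroup.mem_toSubmonoid] at hy
    induction hy using Subgroup.closure_induction with
    | mem y hy =>
      intro F hFO hFe hF
      obtain ⟨i, hi⟩ := Set.mem_iUnion.1 hy
      have h1 : F ≤ O ⊓ centralizer (N i : Set G) := le_inf hFO (hcon F hFO hFe hF i)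
      have h2 : cj y F ≤ O ⊓ centralizer (N i : Set G) := by
        have := cj_mono y h1
        rwa [cj_eq_of_mem_normalizer (h.YQ i hi)] at this
      refine ⟨h2.trans inf_le_left, isElementaryAbelian_cj y hFe, ?_⟩
      have h3 := minOff_cj hF y
      rwa [cj_eq_of_mem_normalizer (h.YE i hi)] at h3
    | one =>
      intro F hFO hFe hF
      rw [cj_one]
      exact ⟨hFO, hFe, hF⟩
    | mul x y _ _ hx hy =>
      intro F hFO hFe hF
      obtain ⟨h1, h2, h3⟩ := hy F hFO hFe hF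
      rw [← cj_cj]
      exact hx _ h1 h2 h3
    | inv y hy0 hy =>
      intro F hFO hFe hF
      -- iterate: `y` has finite order
      have hpow : ∀ n : ℕ, ∀ F : Subgroup G, F ≤ O → IsElementaryAbelian 2 F → MinOff E F →
          cj (y ^ n) F ≤ O ∧ IsElementaryAbelian 2 (cj (y ^ n) F : Subgroup G) ∧ MinOff E (cj (y ^ n) F) := by
        intro n
        induction n with
        | zero =>
          intro F hFO hFe hF
          rw [pow_zero, cj_one]
          exact ⟨hFO, hFe, hF⟩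
        | succ n ih =>
          intro F hFO hFe hF
          obtain ⟨h1, h2, h3⟩ := hy F hFO hFe hF
          rw [pow_succ, ← cj_cj]
          exact ih _ h1 h2 h3
      have e : y⁻¹ = y ^ (orderOf y - 1) := by
        rw [inv_eq_iff_mul_eq_one, ← pow_succ', Nat.sub_add_cancel (orderOf_pos y), pow_orderOf_eq_one]
      rw [e]
      exact hpow _ F hFO hFe hF
  apply hF.mov
  have hFO : F ≤ O := hFA.trans hA
  have hFe := eab_mono hAe hFA
  have h1 : E ≤ centralizer (F : Set G) := by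
    refine h.gen.trans (iSup_le fun y => ?_)
    have h2 := (key _ (inv_mem y.2) F hFO hFe hF).1.trans h.OZ
    have h3 := cj_mono (y : G) h2
    rw [cj_cj_inv, cj_centralizer] at h3
    exact Subgroup.le_centralizer_iff.1 h3
  exact Subgroup.le_centralizer_iff.1 h1

theorem Dt.lever (h : Dt O E ZJ Y N) [Finite G] {A : Subgroup G} (hA : A ≤ O) (hAe : IsElementaryAbelian 2 A)
    (hoff : Offd E A) : ∃ i, ∃ F : Subgroup G, F ≤ O ∧ IsElementaryAbelian 2 F ∧ ¬ F ≤ centralizer (N i : Set G) ∧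
      ∀ e ∈ E, ∀ f ∈ F, ⁅e, f⁆ ∈ N i := by
  obtain ⟨F, hFO, hFe, hF, i, hi⟩ := h.exists_mov hA hAe hoff
  refine ⟨i, F, hFO, hFe, hi, fun e he f hf => ?_⟩
  have h1 : ⁅e, f⁆ ∈ ⁅E, F⁆ := commutator_mem_commutator he hf
  rw [hF.commutator_eq (h.NE i) hi (h.no i F hFe hFO) h.ab] at h1
  have h2 : ⁅N i, F⁆ ≤ N i := by
    rw [commutator_le]
    intro n hn x hx
    have h3 := (mem_normalizer_iff.1 (h.YN i (h.OY i (hFO hx))) n⁻¹).1 (inv_mem hn)
    rw [commutatorElement_def]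
    have e : n * x * n⁻¹ * x⁻¹ = n * (x * n⁻¹ * x⁻¹) := by group
    rw [e]
    exact mul_mem hn h3
  exact h2 h1

/-- `A ∈ AA O` moving `E ≤ O` offends `E`. -/
theorem offd_of_AA [Finite G] {O E A : Subgroup G} (hE : IsElementaryAbelian 2 E) (hEO : E ≤ O) (hA : A ∈ AA O)
    (hAE : A ≤ normalizer (E : Set G)) (hmv : ¬ A ≤ centralizer (E : Set G)) : Offd E A := by
  refine ⟨hAE, hmv, ?_⟩
  by_contra hcon
  push Not at hcon
  exact absurd (ExactA.swp hE hEO hA hcon.le).1 hcon.ne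

/-- Second half of (c): if `L i` normalises `N j` then `L j` normalises `N i`. -/
theorem both {D Yi Yj Li Lj Ni Nj Vj Jj : Subgroup G} (hYi : Yi ≤ D ⊔ Li) (hDj : D ≤ Yj)
    (hNj : Yj ≤ normalizer (Nj : Set G)) (hJ : Jj ≤ centralizer (Nj : Set G)) (hJY : Jj ≤ Yi ⊔ Yj)
    (hcap : (Yi ⊔ Yj) ⊓ centralizer (Nj : Set G) ≤ Yi) (hmv : ¬ Jj ≤ centralizer (Ni : Set G)) (hVj : Vj ≤ Nj)
    (hG : ∀ K : Subgroup G, K ≤ Yi → Yi ≤ normalizer (K : Set G) → K ≤ centralizer (Vj : Set G) →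
      ¬ K ≤ centralizer (Ni : Set G) → Lj ≤ normalizer (Ni : Set G))
    (h : Li ≤ normalizer (Nj : Set G)) : Lj ≤ normalizer (Ni : Set G) := by
  have hN : Yi ⊔ Yj ≤ normalizer (Nj : Set G) :=
    sup_le (hYi.trans (sup_le (hDj.trans hNj) h)) hNj
  let K : Subgroup G := (Yi ⊔ Yj) ⊓ centralizer (Nj : Set G)
  have hK1 : Yi ≤ normalizer (K : Set G) := by
    intro y hy
    rw [mem_normalizer_iff_cj, cj_inf, cj_centralizer,
      cj_eq_of_mem_normalizer (hN (le_sup_left (a := Yi) (b := Yj) hy)),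
      cj_eq_of_mem_normalizer (Subgroup.le_normalizer (le_sup_left (a := Yi) (b := Yj) hy))]
  exact hG K hcap hK1 (inf_le_right.trans (centralizer_le hVj)) fun hc => hmv ((le_inf hJY hJ).trans hc)

/-- **(4').** -/
theorem tri [Finite G] {κ : Type*} {O E ZJ : Subgroup G} {Y N V L : κ → Subgroup G} {i j : κ}
    (h : Dt O E ZJ (fun b : Bool => Y (cond b i j)) (fun b : Bool => N (cond b i j)))
    {A : Subgroup G} (hA : A ≤ O) (hAe : IsElementaryAbelian 2 A) (hoff : Offd E A)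
    (gij : (∃ F : Subgroup G, F ≤ O ∧ IsElementaryAbelian 2 F ∧ ¬ F ≤ centralizer (N j : Set G) ∧
      ∀ e ∈ E, ∀ f ∈ F, ⁅e, f⁆ ∈ N j) → V i ≤ N j ⊔ ZJ ∨ L i ≤ normalizer (N j : Set G))
    (gji : (∃ F : Subgroup G, F ≤ O ∧ IsElementaryAbelian 2 F ∧ ¬ F ≤ centralizer (N i : Set G) ∧
      ∀ e ∈ E, ∀ f ∈ F, ⁅e, f⁆ ∈ N i) → V j ≤ N i ⊔ ZJ ∨ L j ≤ normalizer (N i : Set G))
    (bij : L i ≤ normalizer (N j : Set G) → L j ≤ normalizer (N i : Set G))
    (bji : L j ≤ normalizer (N i : Set G) → L i ≤ normalizer (N j : Set G)) :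
    V i ≤ N j ⊔ ZJ ∨ V j ≤ N i ⊔ ZJ ∨ (L i ≤ normalizer (N j : Set G) ∧ L j ≤ normalizer (N i : Set G)) := by
  obtain ⟨b, F, h1, h2, h3, h4⟩ := h.lever hA hAe hoff
  cases b
  · rcases gij ⟨F, h1, h2, h3, h4⟩ with h5 | h5
    · exact Or.inl h5
    · exact Or.inr (Or.inr ⟨h5, bij h5⟩)
  · rcases gji ⟨F, h1, h2, h3, h4⟩ with h5 | h5
    · exact Or.inr (Or.inl h5)
    · exact Or.inr (Or.inr ⟨bji h5, h5⟩)

end Cfsg.Agent.Omega.EK3.Lever

end

section


/-!
# THEOREM M5 (helper693 #24218): the frame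

Five involutions `z a` with product 1, permuted as `Sym(5)` by `L`. `X z i j = C_G(z_k : k ≠ i, j)`,
`Y a b = ⟨C_L(z_a, z_b), X_kl⟩`, `N a b = ⟨z_c^(Y a b)⟩`, `M a = ⟨C_L(z_a), X_kl⟩`, `W a = ⟨V^(M a)⟩`.

* `Fr5 L T z` : the hypotheses of THEOREM M5.
-/

set_option autoImplicit false
set_option linter.unusedSectionVars false

namespace Cfsg.Agent.Omega.NO3S.MFive

open Subgroup Cfsg Cfsg.Agent.ZN Cfsg.Agent.ZN.ChoiceBase
open Cfsg.Agent.ZN.ChoiceSit (Syl)
open Cfsg.Agent.Omega.EK3.Rank (NoOn)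

universe u

variable {G : Type u} [Group G]

/-- `⟨K^H⟩` -/
def nc (H K : Subgroup G) : Subgroup G := ⨆ h : H, cj (h : G) K

/-- `X_ij = C_G(z_k : k ≠ i, j)` -/
def X (z : Fin 5 → G) (i j : Fin 5) : Subgroup G := centralizer {g | ∃ k, k ≠ i ∧ k ≠ j ∧ g = z k}

/-- `V = ⟨z_a⟩` -/
def V (z : Fin 5 → G) : Subgroup G := closure (Set.range z)

/-- `⟨z_c : c ≠ a, b⟩` -/
def Zc (z : Fin 5 → G) (a b : Fin 5) : Subgroup G := closure {g | ∃ c, c ≠ a ∧ c ≠ b ∧ g = z c}

/-- `Y_ab = ⟨C_L(z_a, z_b), X_kl : k, l ≠ a, b⟩` -/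
def Y (L : Subgroup G) (z : Fin 5 → G) (a b : Fin 5) : Subgroup G :=
  (L ⊓ centralizer {z a, z b}) ⊔
    ⨆ k : Fin 5, ⨆ l : Fin 5, ⨆ _ : k ≠ l ∧ (k ≠ a ∧ k ≠ b) ∧ l ≠ a ∧ l ≠ b, X z k l

/-- `N_ab = ⟨z_c^(Y_ab) : c ≠ a, b⟩` -/
def N (L : Subgroup G) (z : Fin 5 → G) (a b : Fin 5) : Subgroup G := nc (Y L z a b) (Zc z a b)

/-- `M_a = ⟨C_L(z_a), X_kl : k, l ≠ a⟩` -/
def M (L : Subgroup G) (z : Fin 5 → G) (a : Fin 5) : Subgroup G :=
  (L ⊓ centralizer {z a}) ⊔ ⨆ k : Fin 5, ⨆ l : Fin 5, ⨆ _ : k ≠ l ∧ k ≠ a ∧ l ≠ a, X z k l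

/-- `W_a = ⟨V^(M_a)⟩` -/
def W (L : Subgroup G) (z : Fin 5 → G) (a : Fin 5) : Subgroup G := nc (M L z a) (V z)

/-- **The hypotheses of THEOREM M5.** -/
structure Fr5 (L T : Subgroup G) (z : Fin 5 → G) : Prop where
  sq : ∀ a, z a * z a = 1
  comm : ∀ a b, z a * z b = z b * z a
  prod : z 0 = z 1 * z 2 * z 3 * z 4
  inj : Function.Injective z
  act : ∀ g ∈ L, ∃ σ : Equiv.Perm (Fin 5), ∀ a, g * z a * g⁻¹ = z (σ a)
  full : ∀ σ : Equiv.Perm (Fin 5), ∃ g ∈ L, ∀ a, g * z a * g⁻¹ = z (σ a)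
  cv : centralizer (Set.range z) ≤ L
  TL : T ≤ L
  TX : T ≤ X z 1 2
  /-- `T = Q⟨t⟩` is a Sylow 2-subgroup of `Y_04` -/
  syl : Syl T (Y L z 0 4)
  /-- `W_0` is elementary abelian -/
  wab : IsElementaryAbelian 2 (W L z 0)
  /-- `C_(W_0)(T) ≤ V_12` -/
  cw : W L z 0 ⊓ centralizer (T : Set G) ≤ centralizer (X z 1 2 : Set G)
  /-- (NO) = (ML) for `Y_04` on `N_04` -/
  no : NoOn (o2 (X z 1 2)) (N L z 0 4)

end Cfsg.Agent.Omega.NO3S.MFive

end

section


/-!
# THEOREM N (1b) (helper381 #23328)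

Pure group theory. `O` any subgroup, `N ≤ O` elementary abelian with `(NO)`, `A ∈ AA(O)` whose part `A_b := C_A(N)`
centralises `X ≥ N`; `X ≤ X' ≤ C_O(N)` elementary abelian, `A` normalises `N` and `X'`.

* `sup_of` : every elementary abelian `E ≤ O`, `N ≤ E`, centralised by `A_b` is `N C_E(A)`; `comm_mem` : `[E, A] ≤ N`;
* `card_mul_le` : `y ≤ O` a `t.i.` point moved by `A`: `|y| |C_A(y)| ≤ |A|`;
* `oneB` : `y ≤ X` a `t.i.` point with `y ∩ N = 1` moved by `A`; `n ∈ X'` with `[n, A_b] ≤ y`. Then `[n, A_b] = 1` and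
  `[n, A] ≤ N`.
-/

set_option autoImplicit false
set_option linter.unusedSectionVars false

namespace Cfsg.Agent.Omega.EK3.ThN

open Subgroup Cfsg Cfsg.Agent.ZN Cfsg.Agent.Omega.MinPar
open Cfsg.Agent.Omega.NO3S.EThree Cfsg.Agent.Omega.NO3S.EThree.ExactA
open Cfsg.Agent.ZN.ChoiceBase (AA mm mm_eq mem_AA_iff AA_nonempty card_le_mm)
open Cfsg.Agent.Omega.NoFF.Basic (comm_symm comm_mono)
open Cfsg.Agent.Omega.NO3S.ML (card_mul_relIndex card_sup_mul_of_comm)
open Cfsg.Agent.Omega.EK3.Rank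
open scoped commutatorElement

universe u

variable {G : Type u} [Group G]

theorem mem_sup_comm {K L : Subgroup G} (hc : ∀ a ∈ K, ∀ b ∈ L, a * b = b * a) {g : G} (hg : g ∈ K ⊔ L) :
    ∃ a ∈ K, ∃ b ∈ L, g = a * b := by
  rw [Subgroup.sup_eq_closure] at hg
  induction hg using Subgroup.closure_induction with
  | mem x hx =>
    rcases hx with hx | hx
    · exact ⟨x, hx, 1, one_mem _, (mul_one x).symm⟩
    · exact ⟨1, one_mem _, x, hx, (one_mul x).symm⟩
  | one => exact ⟨1, one_mem _, 1, one_mem _, (mul_one 1).symm⟩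
  | mul x y _ _ hx hy =>
    obtain ⟨a, ha, b, hb, rfl⟩ := hx
    obtain ⟨a', ha', b', hb', rfl⟩ := hy
    refine ⟨a * a', mul_mem ha ha', b * b', mul_mem hb hb', ?_⟩
    calc a * b * (a' * b') = a * (b * a') * b' := by group
      _ = a * (a' * b) * b' := by rw [hc a' ha' b hb]
      _ = _ := by group
  | inv x _ hx =>
    obtain ⟨a, ha, b, hb, rfl⟩ := hx
    refine ⟨a⁻¹, inv_mem ha, b⁻¹, inv_mem hb, ?_⟩
    rw [hc a ha b hb]
    group

variable [Finite G]

section sup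

variable {O N A : Subgroup G} (hN : IsElementaryAbelian 2 N) (hNO : N ≤ O) (no : NoOn O N) (hA : A ∈ AA O)
include hN hNO no hA

/-- Every elementary abelian `E ≤ O`, `N ≤ E`, centralised by `C_A(N)` is `N C_E(A)`. -/
theorem sup_of {E : Subgroup G} (hE : IsElementaryAbelian 2 E) (hEO : E ≤ O) (hNE : N ≤ E)
    (hc : A ⊓ centralizer (N : Set G) ≤ centralizer (E : Set G)) : E = N ⊔ (E ⊓ centralizer (A : Set G)) := by
  have hE' := (eab_iff.1 hE).1
  have e1 : A ⊓ centralizer (E : Set G) = A ⊓ centralizer (N : Set G) :=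
    le_antisymm (inf_le_inf_left _ (centralizer_le hNE)) (le_inf inf_le_left hc)
  have e2 : (centralizer (E : Set G)).relIndex A = (centralizer (N : Set G)).relIndex A := by
    rw [← Subgroup.inf_relIndex_left, e1, Subgroup.inf_relIndex_left]
  have h1 := le_of_mem hE hEO hA
  rw [e2, (exch hN hNO no hA).1] at h1
  set D := E ⊓ centralizer (A : Set G) with hD
  have hDN : D ⊓ N = N ⊓ centralizer (A : Set G) := by
    rw [hD]
    refine le_antisymm (le_inf inf_le_right (inf_le_left.trans inf_le_right)) ?_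
    exact le_inf (le_inf (inf_le_left.trans hNE) inf_le_right) inf_le_left
  have h2 : Nat.card (D ⊔ N : Subgroup G) * Nat.card (D ⊓ N : Subgroup G) = Nat.card D * Nat.card N :=
    card_sup_mul_of_comm fun a ha b hb =>
      (mem_centralizer_iff.1 (((inf_le_left.trans hE').trans (centralizer_le hNE)) ha) b hb).symm
  have h3 : Nat.card D * (centralizer (A : Set G)).relIndex E = Nat.card E := by
    rw [hD, ← Subgroup.inf_relIndex_left]
    exact card_mul_relIndex inf_le_left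
  have h4 : Nat.card (D ⊓ N : Subgroup G) * (centralizer (A : Set G)).relIndex N = Nat.card N := by
    rw [hDN, ← Subgroup.inf_relIndex_left]
    exact card_mul_relIndex inf_le_left
  have p1 : 0 < Nat.card (D ⊓ N : Subgroup G) := Nat.card_pos
  have h5 : Nat.card E ≤ Nat.card (D ⊔ N : Subgroup G) := by
    refine Nat.le_of_mul_le_mul_right (c := Nat.card (D ⊓ N : Subgroup G)) ?_ p1
    rw [h2, ← h3, ← h4]
    calc Nat.card D * (centralizer (A : Set G)).relIndex E * Nat.card (D ⊓ N : Subgroup G)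
        ≤ Nat.card D * (centralizer (A : Set G)).relIndex N * Nat.card (D ⊓ N : Subgroup G) :=
          Nat.mul_le_mul_right _ (Nat.mul_le_mul_left _ h1)
      _ = _ := by ring
  have h6 : D ⊔ N ≤ E := sup_le inf_le_left hNE
  rw [sup_comm]
  exact (Subgroup.eq_of_le_of_card_ge h6 h5).symm

/-- `[E, A] ≤ N`. -/
theorem comm_mem {E : Subgroup G} (hE : IsElementaryAbelian 2 E) (hEO : E ≤ O) (hNE : N ≤ E)
    (hc : A ⊓ centralizer (N : Set G) ≤ centralizer (E : Set G)) (hAN : A ≤ normalizer (N : Set G)) {e a : G}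
    (he : e ∈ E) (ha : a ∈ A) : ⁅e, a⁆ ∈ N := by
  rw [sup_of hN hNO no hA hE hEO hNE hc] at he
  have hcomm : ∀ x ∈ N, ∀ z ∈ E ⊓ centralizer (A : Set G), x * z = z * x := fun x hx z hz =>
    (mem_centralizer_iff.1 ((eab_iff.1 hE).1 hz.1) x (hNE hx))
  obtain ⟨x, hx, z, hz, rfl⟩ := mem_sup_comm hcomm he
  have hza : a * z = z * a := (mem_centralizer_iff.1 hz.2 a ha)
  have e1 : ⁅x * z, a⁆ = x * (a * x⁻¹ * a⁻¹) := by
    rw [commutatorElement_def]
    calc x * z * a * (x * z)⁻¹ * a⁻¹ = x * (z * a) * (x * z)⁻¹ * a⁻¹ := by group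
      _ = x * (a * z) * (z⁻¹ * x⁻¹) * a⁻¹ := by rw [hza, mul_inv_rev]
      _ = _ := by group
  rw [e1]
  exact mul_mem hx ((mem_normalizer_iff.1 (hAN ha) x⁻¹).1 (inv_mem hx))

end sup

/-- A `t.i.` point `y ≤ O` moved by `A ∈ AA(O)`: `|y| |C_A(y)| ≤ |A|`. -/
theorem card_mul_le {O A y : Subgroup G} (hA : A ∈ AA O) (hy : IsElementaryAbelian 2 y) (hyO : y ≤ O)
    (hTI : ∀ a ∈ A, ∀ u ∈ y, u ≠ 1 → a * u * a⁻¹ ∈ y → a ∈ centralizer (y : Set G))
    (hmv : ¬ A ≤ centralizer (y : Set G)) :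
    Nat.card y * Nat.card (A ⊓ centralizer (y : Set G) : Subgroup G) ≤ Nat.card A := by
  have hA' := (eab_iff.1 hA.1).1
  set K := A ⊓ centralizer (y : Set G) with hK
  have hKe : IsElementaryAbelian 2 K := eab_mono hA.1 inf_le_left
  have hE : IsElementaryAbelian 2 (K ⊔ y : Subgroup G) := eab_sup hKe hy inf_le_right
  have hEA : Nat.card (K ⊔ y : Subgroup G) ≤ Nat.card A := hA.2.2 _ hE (sup_le (inf_le_left.trans hA.2.1) hyO)
  have hKy : K ⊓ y = ⊥ := by
    rw [eq_bot_iff]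
    intro x hx
    by_contra hx1
    refine hmv fun a ha => hTI a ha x hx.2 hx1 ?_
    have : a * x = x * a := (mem_centralizer_iff.1 (hA' hx.1.1) a ha)
    rw [this, mul_inv_cancel_right]
    exact hx.2
  have h1 : Nat.card (K ⊔ y : Subgroup G) * Nat.card (K ⊓ y : Subgroup G) = Nat.card K * Nat.card y :=
    card_sup_mul_of_comm fun a ha b hb => (mem_centralizer_iff.1 ((inf_le_right : K ≤ _) ha) b hb).symm
  rw [hKy, Subgroup.card_bot, mul_one] at h1
  rw [mul_comm, ← h1]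
  exact hEA

/-- **THEOREM N (1b).** -/
theorem oneB_aux {O N X X' A y : Subgroup G} (hN : IsElementaryAbelian 2 N) (hNO : N ≤ O) (no : NoOn O N)
    (hA : A ∈ AA O) (hNX : N ≤ X) (hXX' : X ≤ X') (hX' : IsElementaryAbelian 2 X') (hX'O : X' ≤ O)
    (hc : A ⊓ centralizer (N : Set G) ≤ centralizer (X : Set G)) (hAN : A ≤ normalizer (N : Set G))
    (hAX' : A ≤ normalizer (X' : Set G)) (hyX : y ≤ X)
    (hTI : ∀ a ∈ A, ∀ u ∈ y, u ≠ 1 → a * u * a⁻¹ ∈ y → a ∈ centralizer (y : Set G))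
    (hyN : y ⊓ N = ⊥) (hmv : ¬ A ≤ centralizer (y : Set G)) {n : G} (hn : n ∈ X')
    (hb : ∀ c ∈ A ⊓ centralizer (N : Set G), ⁅n, c⁆ ∈ y) {c₀ : G} (hc₀ : c₀ ∈ A ⊓ centralizer (N : Set G)) :
    ⁅n, c₀⁆ = 1 := by
  by_contra hu1
  have hA' := (eab_iff.1 hA.1).1
  have hXc := (eab_iff.1 hX').1
  have hNX' : N ≤ X' := hNX.trans hXX'
  have hX : IsElementaryAbelian 2 X := eab_mono hX' hXX'
  have hy : IsElementaryAbelian 2 y := eab_mono hX hyX
  set u := ⁅n, c₀⁆ with hu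
  have huy : u ∈ y := hb c₀ hc₀
  -- the conjugates of `n`
  set X'' : Subgroup G := Subgroup.closure {x | ∃ a ∈ A, x = a * n * a⁻¹} with hX''
  have hcj : ∀ a ∈ A, a * n * a⁻¹ ∈ X' := fun a ha => (mem_normalizer_iff.1 (hAX' ha) n).1 hn
  have hXX'' : X'' ≤ X' := by
    rw [hX'', Subgroup.closure_le]
    rintro x ⟨a, ha, rfl⟩
    exact hcj a ha
  have hnX'' : n ∈ X'' := Subgroup.subset_closure ⟨1, one_mem _, by simp⟩
  have hcom : ∀ a ∈ A, ∀ b ∈ A, a * b = b * a := fun a ha b hb' => (mem_centralizer_iff.1 (hA' hb') a ha)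
  have hcomX : ∀ a ∈ X', ∀ b ∈ X', a * b = b * a := fun a ha b hb' => (mem_centralizer_iff.1 (hXc hb') a ha)
  -- the map `x ↦ [x, c₀]`
  have hcomm_mem : ∀ x ∈ X', ∀ c ∈ A, ⁅x, c⁆ ∈ X' := fun x hx c hc' => by
    rw [commutatorElement_def]
    have : x * c * x⁻¹ * c⁻¹ = x * (c * x⁻¹ * c⁻¹) := by group
    rw [this]
    exact mul_mem hx ((mem_normalizer_iff.1 (hAX' hc') x⁻¹).1 (inv_mem hx))
  have hmul : ∀ x ∈ X', ∀ z ∈ X', ∀ c ∈ A, ⁅x * z, c⁆ = ⁅x, c⁆ * ⁅z, c⁆ := fun x hx z hz c hc' => by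
    have h1 : ⁅x * z, c⁆ = x * ⁅z, c⁆ * x⁻¹ * ⁅x, c⁆ := by
      simp only [commutatorElement_def]; group
    rw [h1, hcomX x hx _ (hcomm_mem z hz c hc'), mul_inv_cancel_right]
    exact (hcomX _ (hcomm_mem x hx c hc') _ (hcomm_mem z hz c hc')).symm
  let φ : X'' →* X' :=
    { toFun := fun x => ⟨⁅(x : G), c₀⁆, hcomm_mem x (hXX'' x.2) c₀ hc₀.1⟩
      map_one' := Subtype.ext (by simp [commutatorElement_def])
      map_mul' := fun x z => Subtype.ext (hmul x (hXX'' x.2) z (hXX'' z.2) c₀ hc₀.1) }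
  set I : Subgroup G := φ.range.map X'.subtype with hI
  have hcardI : Nat.card I = Nat.card φ.range :=
    Nat.card_congr (Subgroup.equivMapOfInjective _ _ X'.subtype_injective).symm.toEquiv
  have hker : Nat.card φ.ker = Nat.card (X'' ⊓ centralizer ({c₀} : Set G) : Subgroup G) := by
    have : φ.ker.map X''.subtype = X'' ⊓ centralizer ({c₀} : Set G) := by
      ext x
      simp only [Subgroup.mem_map, Subgroup.mem_inf, MonoidHom.mem_ker, Subgroup.coe_subtype, Subtype.exists,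
        exists_and_right, exists_eq_right]
      constructor
      · rintro ⟨h1, h2⟩
        refine ⟨h1, ?_⟩
        rw [mem_centralizer_singleton_iff]
        have h3 : ⁅x, c₀⁆ = 1 := congrArg Subtype.val h2
        rw [commutatorElement_eq_one_iff_mul_comm] at h3
        exact h3
      · rintro ⟨h1, h2⟩
        refine ⟨h1, Subtype.ext ?_⟩
        rw [mem_centralizer_singleton_iff] at h2
        exact commutatorElement_eq_one_iff_mul_comm.2 h2
    rw [← this]
    exact Nat.card_congr (Subgroup.equivMapOfInjective _ _ X''.subtype_injective).toEquiv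
  have hIX : Nat.card I * Nat.card (X'' ⊓ centralizer ({c₀} : Set G) : Subgroup G) = Nat.card X'' := by
    rw [hcardI, ← hker]
    have h1 := Subgroup.card_mul_index φ.ker
    rw [Subgroup.index_ker] at h1
    rw [mul_comm]
    exact h1
  -- the conjugates of `u` are in `I`
  have huI : ∀ a ∈ A, a * u * a⁻¹ ∈ I := fun a ha => by
    refine ⟨⟨⁅a * n * a⁻¹, c₀⁆, hcomm_mem _ (hcj a ha) c₀ hc₀.1⟩,
      ⟨⟨a * n * a⁻¹, Subgroup.subset_closure ⟨a, ha, rfl⟩⟩, rfl⟩, ?_⟩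
    have e1 : a * c₀ * a⁻¹ = c₀ := by rw [hcom a ha c₀ hc₀.1, mul_inv_cancel_right]
    change ⁅a * n * a⁻¹, c₀⁆ = a * u * a⁻¹
    conv_lhs => rw [← e1]
    rw [hu]
    simp only [commutatorElement_def]
    group
  have huI1 : u ∈ I := by simpa using huI 1 (one_mem _)
  have huN : u ∉ N := fun h => hu1 (by
    have : u ∈ y ⊓ N := ⟨huy, h⟩
    rwa [hyN, Subgroup.mem_bot] at this)
  have hXO : X ≤ O := hXX'.trans hX'O
  have hcu : ∀ a ∈ A, a * u * a⁻¹ * u⁻¹ ∈ N := fun a ha => by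
    have h1 := comm_mem hN hNO no hA hX hXO hNX hc hAN (hyX huy) ha
    have h2 : a * u * a⁻¹ * u⁻¹ = ⁅u, a⁆⁻¹ := by
      simp only [commutatorElement_def]; group
    rw [h2]
    exact inv_mem h1
  -- `|A : C_A(y)| ≤ |I ∩ N|`
  have hcard1 : (centralizer (y : Set G)).relIndex A ≤ Nat.card (I ⊓ N : Subgroup G) := by
    rw [Subgroup.relIndex, Subgroup.index]
    refine Nat.card_le_card_of_injective (fun q => Quotient.liftOn' q
      (fun a : A => (⟨a * u * (a : G)⁻¹ * u⁻¹, I.mul_mem (huI a a.2) (I.inv_mem huI1), hcu a a.2⟩ : (I ⊓ N : Subgroup G)))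
      ?_) ?_
    · intro a b hab
      rw [QuotientGroup.leftRel_apply, mem_subgroupOf] at hab
      apply Subtype.ext
      change (a : G) * u * (a : G)⁻¹ * u⁻¹ = (b : G) * u * (b : G)⁻¹ * u⁻¹
      have h1 : ((a⁻¹ * b : A) : G) * u = u * ((a⁻¹ * b : A) : G) := (mem_centralizer_iff.1 hab u huy).symm
      rw [Subgroup.coe_mul, Subgroup.coe_inv] at h1
      have h2 : (b : G) * u * (b : G)⁻¹ = (a : G) * ((a : G)⁻¹ * b * u) * (b : G)⁻¹ := by group
      rw [h2, h1]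
      group
    · intro p q
      refine Quotient.inductionOn₂' p q fun a b hab => ?_
      rw [Quotient.eq'', QuotientGroup.leftRel_apply, mem_subgroupOf]
      have h0 : (a : G) * u * (a : G)⁻¹ * u⁻¹ = (b : G) * u * (b : G)⁻¹ * u⁻¹ := congrArg Subtype.val hab
      have h1 : (a : G) * u * (a : G)⁻¹ = (b : G) * u * (b : G)⁻¹ := mul_right_cancel h0
      refine hTI _ (a⁻¹ * b).2 u huy hu1 ?_
      rw [Subgroup.coe_mul, Subgroup.coe_inv]
      have h2 : (a : G)⁻¹ * b * u * ((a : G)⁻¹ * b)⁻¹ = (a : G)⁻¹ * ((b : G) * u * (b : G)⁻¹) * a := by group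
      rw [h2, ← h1]
      have h3 : (a : G)⁻¹ * ((a : G) * u * (a : G)⁻¹) * a = u := by group
      rw [h3]
      exact huy
  have hyO : y ≤ O := hyX.trans hXO
  have hcard2 : Nat.card y ≤ (centralizer (y : Set G)).relIndex A := by
    have h1 := card_mul_le hA hy hyO hTI hmv
    have h2 : Nat.card (A ⊓ centralizer (y : Set G) : Subgroup G) * (centralizer (y : Set G)).relIndex A =
        Nat.card A := by
      rw [← Subgroup.inf_relIndex_left]
      exact card_mul_relIndex inf_le_left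
    rw [← h2, mul_comm] at h1
    exact Nat.le_of_mul_le_mul_left h1 Nat.card_pos
  have hcard3 : 2 * Nat.card (I ⊓ N : Subgroup G) ≤ Nat.card I := by
    have hlt : I ⊓ N < I := lt_of_le_of_ne inf_le_left fun h => huN (by
      have : u ∈ I ⊓ N := by rw [h]; exact huI1
      exact this.2)
    have hdvd : Nat.card (I ⊓ N : Subgroup G) ∣ Nat.card I := Subgroup.card_dvd_of_le inf_le_left
    obtain ⟨m, hm⟩ := hdvd
    have hm0 : m ≠ 0 := by
      rintro rfl
      rw [mul_zero] at hm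
      exact (Nat.card_pos (α := I)).ne' hm
    have hm1 : m ≠ 1 := by
      rintro rfl
      rw [mul_one] at hm
      exact hlt.ne (Subgroup.eq_of_le_of_card_ge inf_le_left hm.le)
    rw [hm, mul_comm]
    exact Nat.mul_le_mul_left _ (by omega)
  have h2q : 2 * Nat.card y ≤ Nat.card I :=
    (Nat.mul_le_mul_left 2 (hcard2.trans hcard1)).trans hcard3
  -- Thompson for `C = A_b N`
  set Ab := A ⊓ centralizer (N : Set G) with hAb
  set C := Ab ⊔ N with hC
  have hCA : C ∈ AA O := (exch hN hNO no hA).2.2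
  have hX''e : IsElementaryAbelian 2 X'' := eab_mono hX' hXX''
  have hT := le_of_mem hX''e (hXX''.trans hX'O) hCA
  have hI1 : Nat.card I ≤ (centralizer (C : Set G)).relIndex X'' := by
    have h1 : Nat.card (X'' ⊓ centralizer (C : Set G) : Subgroup G) * (centralizer (C : Set G)).relIndex X'' =
        Nat.card X'' := by
      rw [← Subgroup.inf_relIndex_left]
      exact card_mul_relIndex inf_le_left
    have h2 : X'' ⊓ centralizer (C : Set G) ≤ X'' ⊓ centralizer ({c₀} : Set G) := by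
      refine inf_le_inf_left _ (centralizer_le ?_)
      rw [Set.singleton_subset_iff]
      exact (le_sup_left : Ab ≤ C) hc₀
    have h3 := Subgroup.card_le_of_le h2
    have p : 0 < Nat.card (X'' ⊓ centralizer ({c₀} : Set G) : Subgroup G) := Nat.card_pos
    refine Nat.le_of_mul_le_mul_right (c := Nat.card (X'' ⊓ centralizer ({c₀} : Set G) : Subgroup G)) ?_ p
    rw [hIX, ← h1, mul_comm]
    exact Nat.mul_le_mul_left _ h3
  -- `|C : C_C(X'')| ≤ |y|`
  have hcy : ∀ c ∈ Ab, ∀ v ∈ y, c * v * c⁻¹ = v := fun c hc' v hv => by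
    have : v * c = c * v := mem_centralizer_iff.1 (hc hc') v (hyX hv)
    rw [← this, mul_inv_cancel_right]
  let ψ : Ab →* y :=
    { toFun := fun c => ⟨⁅n, (c : G)⁆, hb c c.2⟩
      map_one' := Subtype.ext (by simp [commutatorElement_def])
      map_mul' := fun c c' => Subtype.ext (by
        have h1 : ⁅n, (c : G) * c'⁆ = ⁅n, (c : G)⁆ * ((c : G) * ⁅n, (c' : G)⁆ * (c : G)⁻¹) := by
          simp only [commutatorElement_def]; group
        change ⁅n, (c : G) * c'⁆ = ⁅n, (c : G)⁆ * ⁅n, (c' : G)⁆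
        rw [h1, hcy c c.2 _ (hb c' c'.2)]) }
  set K : Subgroup G := Ab ⊓ centralizer (X'' : Set G) with hK
  have hker2 : ψ.ker.map Ab.subtype ≤ K := by
    rintro _ ⟨c, hc', rfl⟩
    refine ⟨c.2, ?_⟩
    have h3 : ⁅n, (c : G)⁆ = 1 := congrArg Subtype.val hc'
    rw [commutatorElement_eq_one_iff_mul_comm] at h3
    change (c : G) ∈ centralizer (X'' : Set G)
    rw [hX'', Subgroup.centralizer_closure, mem_centralizer_iff]
    rintro x ⟨a, ha, rfl⟩
    have e1 : a * (c : G) * a⁻¹ = c := by rw [hcom a ha c c.2.1, mul_inv_cancel_right]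
    calc a * n * a⁻¹ * c = a * n * a⁻¹ * (a * c * a⁻¹) := by rw [e1]
      _ = a * (n * c) * a⁻¹ := by group
      _ = a * (c * n) * a⁻¹ := by rw [h3]
      _ = (a * c * a⁻¹) * (a * n * a⁻¹) := by group
      _ = _ := by rw [e1]
  have hAbK : Nat.card Ab ≤ Nat.card K * Nat.card y := by
    have h1 := Subgroup.card_mul_index ψ.ker
    rw [Subgroup.index_ker] at h1
    rw [← h1]
    refine Nat.mul_le_mul ?_ (Nat.card_le_card_of_injective _ ψ.range.subtype_injective)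
    rw [Nat.card_congr (Subgroup.equivMapOfInjective ψ.ker Ab.subtype Ab.subtype_injective).toEquiv]
    exact Subgroup.card_le_of_le hker2
  have hNX''c : N ≤ centralizer (X'' : Set G) := hNX'.trans (hXc.trans (centralizer_le hXX''))
  have hCy : (centralizer (X'' : Set G)).relIndex C ≤ Nat.card y := by
    have h1 : Nat.card (C ⊓ centralizer (X'' : Set G) : Subgroup G) * (centralizer (X'' : Set G)).relIndex C =
        Nat.card C := by
      rw [← Subgroup.inf_relIndex_left]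
      exact card_mul_relIndex inf_le_left
    have h2 : K ⊔ N ≤ C ⊓ centralizer (X'' : Set G) :=
      sup_le (le_inf (inf_le_left.trans le_sup_left) inf_le_right) (le_inf le_sup_right hNX''c)
    have h3 := Subgroup.card_le_of_le h2
    have h4 : Nat.card (K ⊔ N : Subgroup G) * Nat.card (K ⊓ N : Subgroup G) = Nat.card K * Nat.card N :=
      card_sup_mul_of_comm fun a ha b hb => (mem_centralizer_iff.1 ha.1.2 b hb).symm
    have h5 : Nat.card (Ab ⊔ N : Subgroup G) * Nat.card (Ab ⊓ N : Subgroup G) = Nat.card Ab * Nat.card N :=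
      card_sup_mul_of_comm fun a ha b hb => (mem_centralizer_iff.1 ha.2 b hb).symm
    have h6 : K ⊓ N = Ab ⊓ N := by
      refine le_antisymm (inf_le_inf_right _ inf_le_left) (le_inf (le_inf inf_le_left ?_) inf_le_right)
      exact inf_le_right.trans hNX''c
    rw [h6] at h4
    set m := (centralizer (X'' : Set G)).relIndex C with hm
    have pK : 0 < Nat.card K := Nat.card_pos
    have pN : 0 < Nat.card N := Nat.card_pos
    have h7 : Nat.card K * Nat.card N * m ≤ Nat.card Ab * Nat.card N := by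
      calc Nat.card K * Nat.card N * m = Nat.card (K ⊔ N : Subgroup G) * Nat.card (Ab ⊓ N : Subgroup G) * m := by
            rw [h4]
        _ = Nat.card (K ⊔ N : Subgroup G) * m * Nat.card (Ab ⊓ N : Subgroup G) := by ring
        _ ≤ Nat.card (C ⊓ centralizer (X'' : Set G) : Subgroup G) * m * Nat.card (Ab ⊓ N : Subgroup G) :=
            Nat.mul_le_mul_right _ (Nat.mul_le_mul_right _ h3)
        _ = Nat.card Ab * Nat.card N := by rw [h1, ← h5]
    have h8 : Nat.card K * Nat.card N * m ≤ Nat.card K * Nat.card N * Nat.card y := by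
      refine h7.trans ((Nat.mul_le_mul_right _ hAbK).trans (le_of_eq ?_))
      ring
    exact Nat.le_of_mul_le_mul_left h8 (Nat.mul_pos pK pN)
  have hfin : 2 * Nat.card y ≤ Nat.card y := h2q.trans (hI1.trans (hT.trans hCy))
  have hp : 0 < Nat.card y := Nat.card_pos
  omega

/-- **THEOREM N (1b)**: `[n, A] ≤ N`. -/
theorem oneB {O N X X' A y : Subgroup G} (hN : IsElementaryAbelian 2 N) (hNO : N ≤ O) (no : NoOn O N)
    (hA : A ∈ AA O) (hNX : N ≤ X) (hXX' : X ≤ X') (hX' : IsElementaryAbelian 2 X') (hX'O : X' ≤ O)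
    (hc : A ⊓ centralizer (N : Set G) ≤ centralizer (X : Set G)) (hAN : A ≤ normalizer (N : Set G))
    (hAX' : A ≤ normalizer (X' : Set G)) (hyX : y ≤ X)
    (hTI : ∀ a ∈ A, ∀ u ∈ y, u ≠ 1 → a * u * a⁻¹ ∈ y → a ∈ centralizer (y : Set G))
    (hyN : y ⊓ N = ⊥) (hmv : ¬ A ≤ centralizer (y : Set G)) {n : G} (hn : n ∈ X')
    (hb : ∀ c ∈ A ⊓ centralizer (N : Set G), ⁅n, c⁆ ∈ y) {a : G} (ha : a ∈ A) : ⁅n, a⁆ ∈ N := by
  have hXc := (eab_iff.1 hX').1
  have h1 : ∀ c ∈ A ⊓ centralizer (N : Set G), ⁅n, c⁆ = 1 := fun c hc' =>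
    oneB_aux hN hNO no hA hNX hXX' hX' hX'O hc hAN hAX' hyX hTI hyN hmv hn hb hc'
  set E : Subgroup G := N ⊔ Subgroup.zpowers n with hE
  have hzn : Subgroup.zpowers n ≤ X' := by rwa [Subgroup.zpowers_le]
  have hEX' : E ≤ X' := sup_le (hNX.trans hXX') hzn
  refine comm_mem hN hNO no hA (eab_mono hX' hEX') (hEX'.trans hX'O) le_sup_left ?_ hAN
    ((le_sup_right : _ ≤ E) (Subgroup.mem_zpowers n)) ha
  refine comm_symm (sup_le ?_ ?_)
  · exact comm_symm inf_le_right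
  · rw [Subgroup.zpowers_le, mem_centralizer_iff]
    intro c hc'
    exact (commutatorElement_eq_one_iff_mul_comm.1 (h1 c hc')).symm

end Cfsg.Agent.Omega.EK3.ThN

end

section


/-!
# EK3: STAR for the minimal offenders of `E = ⟨Z_J^⟨Y_i, Y_j⟩⟩` (helper520; after #22123, #22296, #22451, #22727)

Pure group theory. `O ≤ D ≤ Y i = ⟨D, L i⟩`, `O` is normal in `D` and centralises `ZJ`, `N l ≤ Q m := O ⊓ C(N m)` for all
`l, m`, `(NO)` for `O` on every `N l`, `EE ZJ H := ⟨ZJ^H⟩`; `EE ZJ (Y i ⊔ Y j)` is elementary abelian, inside `O`, contains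
`N i` and `N j`; no nontrivial subgroup of `O` is normalised by `D` and all `L i`.

* `Fr` : this setting;
* `Fr.exists_AA` : some `A ∈ AA(O)` lies in all `Q l`;
* `Fr.aa_star` : **(s1)** `A ∈ AA(O)` inside all `Q l`, `x ∈ L i`, `A^x` moves `N j`, `i ≠ j`;
* `Fr.star` : **(b*)** `i ≠ j`, `F₁ ≤ Q i ∩ Q j` a minimal offender of `E`, `x ∈ L i`, `F := F₁^x ≤ Q i` is a minimal offender
  of `E` and moves `N j` (structure `Out`);
* `Out.le_cent`, `Out.le_sup`, `Out.eq` : `C_F(N j) ≤ C(E)`, `E = N_j C_E(F)`, the three indices;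
* `Out.low` : **LOW** `F ≤ O₂(C_{Y_j}(V_i))`;
* `Out.exact` : `F` is exact on every `M` with `N j ≤ M ≤ E`.
-/

set_option autoImplicit false
set_option linter.unusedSectionVars false

namespace Cfsg.Agent.Omega.EK3.StarE

open Subgroup Cfsg Cfsg.Agent.ZN Cfsg.Agent.ZN.ChoiceBase
open Cfsg.Agent.Omega.NO3S.EThree
open Cfsg.Agent.Omega.NO3S.EThree.ExactA (eab_mono eab_sup eab_iff)
open Cfsg.Agent.Omega.EK3.Rank (NoOn)

universe u

variable {G : Type u} [Group G]

/-- `⟨ZJ^H⟩` -/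
def EE (ZJ H : Subgroup G) : Subgroup G := ⨆ y : H, cj (y : G) ZJ

theorem cj_le_EE {ZJ H : Subgroup G} {y : G} (hy : y ∈ H) : cj y ZJ ≤ EE ZJ H :=
  le_iSup (fun y : H => cj (y : G) ZJ) ⟨y, hy⟩

theorem EE_le {ZJ H K : Subgroup G} (h : ∀ y ∈ H, cj y ZJ ≤ K) : EE ZJ H ≤ K := iSup_le fun y => h y y.2

theorem EE_mono {ZJ H H' : Subgroup G} (h : H ≤ H') : EE ZJ H ≤ EE ZJ H' := EE_le fun _ hy => cj_le_EE (h hy)

theorem le_EE (ZJ H : Subgroup G) : ZJ ≤ EE ZJ H := by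
  have := cj_le_EE (ZJ := ZJ) H.one_mem
  rwa [cj_one] at this

theorem cj_iSup_le {ι : Sort*} {g : G} {f : ι → Subgroup G} {K : Subgroup G} (h : ∀ i, cj g (f i) ≤ K) :
    cj g (⨆ i, f i) ≤ K := by
  rw [cj_le_iff]
  exact iSup_le fun i => cj_le_iff.1 (h i)

theorem norm_of_cj_le {g : G} {H : Subgroup G} (h : cj g H ≤ H) (h' : cj g⁻¹ H ≤ H) :
    g ∈ normalizer (H : Set G) := by
  rw [mem_normalizer_iff_cj]
  refine le_antisymm h ?_
  have := cj_mono g h'
  rwa [cj_cj_inv] at this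

theorem le_norm_of_cj_le {K H : Subgroup G} (h : ∀ g ∈ K, cj g H ≤ H) : K ≤ normalizer (H : Set G) :=
  fun g hg => norm_of_cj_le (h g hg) (h _ (inv_mem hg))

theorem norm_EE (ZJ H : Subgroup G) : H ≤ normalizer (EE ZJ H : Set G) :=
  le_norm_of_cj_le fun g hg => cj_iSup_le fun y => by
    rw [cj_cj]
    exact cj_le_EE (mul_mem hg y.2)

/-- A property of subgroups which is invariant under `A`, `B`, `C` is invariant under `⟨A, B, C⟩`. -/
theorem inv_sup {P : Subgroup G → Prop} {K : Set (Subgroup G)}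
    (h : ∀ A ∈ K, ∀ g ∈ A, ∀ F : Subgroup G, P F → P (cj g F)) {g : G} (hg : g ∈ sSup K)
    {F : Subgroup G} (hF : P F) : P (cj g F) := by
  let X : Subgroup G :=
    { carrier := {g | ∀ F : Subgroup G, P F ↔ P (cj g F)}
      one_mem' := fun F => by rw [cj_one]
      mul_mem' := fun {a b} ha hb F => by rw [← cj_cj, ← ha (cj b F), ← hb F]
      inv_mem' := fun {a} ha F => by
        have := ha (cj a⁻¹ F)
        rw [cj_cj_inv] at this
        exact this.symm }
  have h1 : sSup K ≤ X := sSup_le fun A hA g hg F => ⟨h A hA g hg F, fun hP => by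
    have := h A hA g⁻¹ (inv_mem hg) _ hP
    rwa [cj_inv_cj] at this⟩
  exact ((h1 hg) F).1 hF

/-- **The frame of STAR.** -/
structure Fr {ι : Type*} (O D ZJ : Subgroup G) (Y N L : ι → Subgroup G) : Prop where
  OD : O ≤ D
  DO : D ≤ normalizer (O : Set G)
  OZ : O ≤ centralizer (ZJ : Set G)
  DY : ∀ i, D ≤ Y i
  LY : ∀ i, L i ≤ Y i
  YDL : ∀ i, Y i ≤ D ⊔ L i
  eab : ∀ i, IsElementaryAbelian 2 (N i)
  NQ : ∀ i j, N i ≤ O ⊓ centralizer (N j : Set G)
  YN : ∀ i, Y i ≤ normalizer (N i : Set G)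
  YQ : ∀ i, Y i ≤ normalizer ((O ⊓ centralizer (N i : Set G) : Subgroup G) : Set G)
  no : ∀ i, NoOn O (N i)
  nl : ∀ U : Subgroup G, U ≤ O → D ≤ normalizer (U : Set G) → (∀ i, L i ≤ normalizer (U : Set G)) → U = ⊥
  Eeab : ∀ i j, i ≠ j → IsElementaryAbelian 2 (EE ZJ (Y i ⊔ Y j))
  EO : ∀ i j, i ≠ j → EE ZJ (Y i ⊔ Y j) ≤ O
  NE : ∀ i, N i ≤ EE ZJ (Y i)

/-- The output of STAR. -/
structure Out {ι : Type*} (O ZJ : Subgroup G) (Y N L : ι → Subgroup G) (i j : ι) (F₁ F : Subgroup G) (x : G) :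
    Prop where
  ne : i ≠ j
  xL : x ∈ L i
  eq : F = cj x F₁
  le₁ : F₁ ≤ O ⊓ centralizer (N j : Set G)
  le₁' : F₁ ≤ O ⊓ centralizer (N i : Set G)
  off₁ : MinOff (EE ZJ (Y i ⊔ Y j)) F₁
  le : F ≤ O ⊓ centralizer (N i : Set G)
  eab : IsElementaryAbelian 2 F
  off : MinOff (EE ZJ (Y i ⊔ Y j)) F
  mov : ¬ F ≤ centralizer (N j : Set G)

namespace Fr

variable {ι : Type*} {O D ZJ : Subgroup G} {Y N L : ι → Subgroup G} (h : Fr O D ZJ Y N L)
include h

theorem NO (i : ι) : N i ≤ O := (h.NQ i i).trans inf_le_left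

theorem OY (i : ι) : O ≤ Y i := h.OD.trans (h.DY i)

theorem DN (i : ι) : D ≤ normalizer (N i : Set G) := (h.DY i).trans (h.YN i)

theorem NE' {i j : ι} : N i ≤ EE ZJ (Y i ⊔ Y j) := (h.NE i).trans (EE_mono le_sup_left)

theorem NE'' {i j : ι} : N j ≤ EE ZJ (Y i ⊔ Y j) := (h.NE j).trans (EE_mono le_sup_right)

variable [Finite G]

/-- Some `A ∈ AA(O)` lies in all `Q l`. -/
theorem exists_AA [Finite ι] : ∃ A ∈ AA O, ∀ l, A ≤ centralizer (N l : Set G) := by
  classical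
  have key : ∀ s : Set ι, s.Finite → ∃ A ∈ AA O, ∀ l ∈ s, A ≤ centralizer (N l : Set G) := by
    intro s hs
    induction s, hs using Set.Finite.induction_on with
    | empty =>
      obtain ⟨A, hA⟩ := AA_nonempty O
      exact ⟨A, hA, fun l hl => absurd hl (Set.notMem_empty l)⟩
    | insert _ _ ih =>
      rename_i m s _ _
      obtain ⟨A, hA, hl⟩ := ih
      refine ⟨(A ⊓ centralizer (N m : Set G)) ⊔ N m,
        (Rank.exch (h.eab m) (h.NO m) (h.no m) hA).2.2, fun l hl' => ?_⟩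
      rcases Set.mem_insert_iff.1 hl' with rfl | hl'
      · exact sup_le inf_le_right ((h.NQ l l).trans inf_le_right)
      · exact sup_le (inf_le_left.trans (hl l hl')) ((h.NQ m l).trans inf_le_right)
  obtain ⟨A, hA, hl⟩ := key Set.univ Set.finite_univ
  exact ⟨A, hA, fun l => hl l (Set.mem_univ l)⟩

/-- a conjugate of a member of `AA(O)` that is still in `O` -/
theorem cj_mem {A : Subgroup G} {x : G} (hA : A ∈ AA O) (hx : cj x A ≤ O) : cj x A ∈ AA O := by
  rw [mem_AA_iff] at *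
  exact ⟨isElementaryAbelian_cj x hA.1, hx, by rw [card_cj]; exact hA.2.2⟩

/-- **(s1).** -/
theorem aa_star [Finite ι] (hO : O ≠ ⊥) : ∃ A ∈ AA O, (∀ l, A ≤ centralizer (N l : Set G)) ∧
    ∃ i j, i ≠ j ∧ ∃ x ∈ L i, ¬ cj x A ≤ centralizer (N j : Set G) := by
  by_contra hcon
  push Not at hcon
  let S : Set (Subgroup G) := {A | A ∈ AA O ∧ ∀ l, A ≤ centralizer (N l : Set G)}
  obtain ⟨A₀, hA₀, hl₀⟩ := h.exists_AA
  have hSO : sSup S ≤ O := sSup_le fun A hA => hA.1.2.1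
  have hsub : ∀ {x : G}, (∀ A ∈ S, cj x A ∈ S) → cj x (sSup S) ≤ sSup S := by
    intro x hx
    rw [cj_le_iff]
    exact sSup_le fun A hA => cj_le_iff.1 (le_sSup (hx A hA))
  have hD : D ≤ normalizer ((sSup S : Subgroup G) : Set G) := le_norm_of_cj_le fun d hd => hsub fun A hA => by
    have h1 : cj d A ≤ O := by
      have := cj_mono d hA.1.2.1
      rwa [cj_eq_of_mem_normalizer (h.DO hd)] at this
    refine ⟨h.cj_mem hA.1 h1, fun l => ?_⟩
    have := cj_mono d (hA.2 l)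
    rwa [cj_centralizer, cj_eq_of_mem_normalizer (h.DN l hd)] at this
  have hL : ∀ i, L i ≤ normalizer ((sSup S : Subgroup G) : Set G) := fun i => le_norm_of_cj_le fun x hx => hsub fun A hA => by
    have h1 : cj x A ≤ O ⊓ centralizer (N i : Set G) := by
      have := cj_mono x (le_inf hA.1.2.1 (hA.2 i))
      rwa [cj_eq_of_mem_normalizer (h.YQ i (h.LY i hx))] at this
    refine ⟨h.cj_mem hA.1 (h1.trans inf_le_left), fun l => ?_⟩
    by_cases hil : i = l
    · subst hil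
      exact h1.trans inf_le_right
    · exact hcon A hA.1 hA.2 i l hil x hx
  have hb := h.nl (sSup S) hSO hD hL
  have h1 : A₀ ≤ sSup S := le_sSup ⟨hA₀, hl₀⟩
  rw [hb] at h1
  -- `AA(O)` has a nontrivial member
  have h2 : mm O = 1 := by
    rw [mm_eq hA₀, le_bot_iff.1 h1, card_bot]
  obtain ⟨i⟩ : Nonempty ι := by
    by_contra hι
    rw [not_nonempty_iff] at hι
    exact hO (h.nl O le_rfl h.DO fun i => isEmptyElim i)
  exact hO (h.nl O le_rfl h.DO fun i => by
    have : N i = ⊥ := by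
      have h3 := card_le_mm (h.eab i) (h.NO i)
      rw [h2] at h3
      exact (Subgroup.card_le_one_iff_eq_bot _).1 h3
    have h4 := h.YQ i
    rw [this] at h4
    have h5 : (O ⊓ centralizer ((⊥ : Subgroup G) : Set G) : Subgroup G) = O := by
      refine inf_eq_left.2 fun x _ => ?_
      rw [mem_centralizer_iff]
      rintro y hy
      rw [SetLike.mem_coe, mem_bot] at hy
      rw [hy, one_mul, mul_one]
    rw [h5] at h4
    exact (h.LY i).trans h4)

/-- **(b*).** -/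
theorem star [Finite ι] (hO : O ≠ ⊥) : ∃ i j F₁ F x, Out O ZJ Y N L i j F₁ F x := by
  obtain ⟨A, hA, hl, i, j, hij, x, hx, hmv⟩ := h.aa_star hO
  set E := EE ZJ (Y i ⊔ Y j) with hE
  have hnE : Y i ⊔ Y j ≤ normalizer (E : Set G) := norm_EE _ _
  have hAO : A ≤ O := hA.2.1
  have hOE : O ≤ normalizer (E : Set G) := ((h.OY i).trans le_sup_left).trans hnE
  have hAE : ¬ A ≤ centralizer (E : Set G) := fun hc => hmv (by
    have h1 : cj x A ≤ cj x (centralizer (E : Set G)) := cj_mono x hc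
    rw [cj_centralizer, cj_eq_of_mem_normalizer (hnE (le_sup_left (a := Y i) (b := Y j) (h.LY i hx)))] at h1
    exact h1.trans (centralizer_le h.NE''))
  obtain ⟨F₀, hFA, hF₀⟩ := (Lever.offd_of_AA (h.Eeab i j hij) (h.EO i j hij) hA (hAO.trans hOE) hAE).exists_min
  -- the minimal offenders inside `Q i ∩ Q j`
  let P : Subgroup G → Prop := fun F => F ≤ O ∧ F ≤ centralizer (N i : Set G) ∧ F ≤ centralizer (N j : Set G) ∧
    IsElementaryAbelian 2 F ∧ MinOff E F
  have hP₀ : P F₀ := ⟨hFA.trans hAO, hFA.trans (hl i), hFA.trans (hl j), eab_mono hA.1 hFA, hF₀⟩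
  -- conjugates under `Y i ⊔ Y j`
  have hcjE : ∀ {F : Subgroup G} {y : G}, y ∈ Y i ⊔ Y j → MinOff E F → MinOff E (cj y F) := by
    intro F y hy hF
    have := Lever.minOff_cj hF y
    rwa [cj_eq_of_mem_normalizer (hnE hy)] at this
  have hQ : ∀ {F : Subgroup G} {y : G} (l : ι), y ∈ Y l → F ≤ O → F ≤ centralizer (N l : Set G) →
      cj y F ≤ O ⊓ centralizer (N l : Set G) := by
    intro F y l hy h1 h2
    have := cj_mono y (le_inf h1 h2)
    rwa [cj_eq_of_mem_normalizer (h.YQ l hy)] at this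
  have hex : (∃ F, P F ∧ ∃ x ∈ L i, ¬ cj x F ≤ centralizer (N j : Set G)) ∨
      (∃ F, P F ∧ ∃ x ∈ L j, ¬ cj x F ≤ centralizer (N i : Set G)) := by
    by_contra hcon
    push Not at hcon
    obtain ⟨c1, c2⟩ := hcon
    have hinv : ∀ y ∈ Y i ⊔ Y j, ∀ F, P F → P (cj y F) := by
      intro y hy F hF
      have hgen : Y i ⊔ Y j ≤ sSup {D, L i, L j} := by
        refine sup_le ((h.YDL i).trans (sup_le ?_ ?_)) ((h.YDL j).trans (sup_le ?_ ?_))
        · exact le_sSup (by simp)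
        · exact le_sSup (by simp)
        · exact le_sSup (by simp)
        · exact le_sSup (by simp)
      refine inv_sup (P := P) (K := {D, L i, L j}) ?_ (hgen hy) hF
      intro B hB g hg F hF
      rcases hB with rfl | rfl | rfl
      · have h1 := hQ i (h.DY i hg) hF.1 hF.2.1
        have h2 := hQ j (h.DY j hg) hF.1 hF.2.2.1
        exact ⟨h1.trans inf_le_left, h1.trans inf_le_right, h2.trans inf_le_right,
          isElementaryAbelian_cj g hF.2.2.2.1, hcjE (le_sup_left (a := Y i) (h.DY i hg)) hF.2.2.2.2⟩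
      · have h1 := hQ i (h.LY i hg) hF.1 hF.2.1
        exact ⟨h1.trans inf_le_left, h1.trans inf_le_right, c1 F hF g hg,
          isElementaryAbelian_cj g hF.2.2.2.1, hcjE (le_sup_left (a := Y i) (h.LY i hg)) hF.2.2.2.2⟩
      · have h1 := hQ j (h.LY j hg) hF.1 hF.2.2.1
        exact ⟨h1.trans inf_le_left, c2 F hF g hg, h1.trans inf_le_right,
          isElementaryAbelian_cj g hF.2.2.2.1, hcjE (le_sup_right (a := Y i) (h.LY j hg)) hF.2.2.2.2⟩
    apply hF₀.mov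
    have h1 : E ≤ centralizer (F₀ : Set G) := EE_le fun y hy => by
      have h2 := (hinv y⁻¹ (inv_mem hy) F₀ hP₀).1.trans h.OZ
      have h3 := cj_mono y h2
      rw [cj_cj_inv, cj_centralizer] at h3
      exact Subgroup.le_centralizer_iff.1 h3
    exact Subgroup.le_centralizer_iff.1 h1
  rcases hex with ⟨F₁, hF₁, x, hx, hmv⟩ | ⟨F₁, hF₁, x, hx, hmv⟩
  · exact ⟨i, j, F₁, cj x F₁, x, hij, hx, rfl, le_inf hF₁.1 hF₁.2.2.1, le_inf hF₁.1 hF₁.2.1, hF₁.2.2.2.2,
      hQ i (h.LY i hx) hF₁.1 hF₁.2.1, isElementaryAbelian_cj x hF₁.2.2.2.1,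
      hcjE (le_sup_left (a := Y i) (h.LY i hx)) hF₁.2.2.2.2, hmv⟩
  · refine ⟨j, i, F₁, cj x F₁, x, hij.symm, hx, rfl, le_inf hF₁.1 hF₁.2.1, le_inf hF₁.1 hF₁.2.2.1, ?_,
      hQ j (h.LY j hx) hF₁.1 hF₁.2.2.1, isElementaryAbelian_cj x hF₁.2.2.2.1, ?_, hmv⟩
    · rw [sup_comm]
      exact hF₁.2.2.2.2
    · rw [sup_comm]
      exact hcjE (le_sup_right (a := Y i) (h.LY j hx)) hF₁.2.2.2.2

end Fr

namespace Out

variable {ι : Type*} {O D ZJ : Subgroup G} {Y N L V Zp : ι → Subgroup G} {i j : ι} {F₁ F : Subgroup G} {x : G}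
  (o : Out O ZJ Y N L i j F₁ F x)
include o

theorem leO : F ≤ O := o.le.trans inf_le_left

theorem le_centi : F ≤ centralizer (N i : Set G) := o.le.trans inf_le_right

/-- `F` centralises `N_j^x`. -/
theorem le_cj : F ≤ centralizer ((cj x (N j) : Subgroup G) : Set G) := by
  rw [o.eq, ← cj_centralizer]
  exact cj_mono x (o.le₁.trans inf_le_right)

variable (h : Fr O D ZJ Y N L)
include h

theorem YE : Y j ≤ normalizer (EE ZJ (Y i ⊔ Y j) : Set G) := (le_sup_right (a := Y i)).trans (norm_EE _ _)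

theorem elE : IsElementaryAbelian 2 (EE ZJ (Y i ⊔ Y j)) := h.Eeab i j o.ne

theorem elF₁ : IsElementaryAbelian 2 F₁ := by
  have := isElementaryAbelian_cj x⁻¹ o.eab
  rwa [o.eq, cj_inv_cj] at this

theorem elF : IsElementaryAbelian 2 F := o.eab

variable [Finite G]

theorem no : (centralizer (N j : Set G)).relIndex F ≤ (centralizer (F : Set G)).relIndex (N j) :=
  h.no j F o.eab o.leO

/-- **(s3)** `C_F(N j)` centralises `E`. -/
theorem le_cent : F ⊓ centralizer (N j : Set G) ≤ centralizer (EE ZJ (Y i ⊔ Y j) : Set G) :=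
  o.off.inf_le h.NE'' o.mov (o.no h)

/-- **(s3)** `E = N_j C_E(F)` -/
theorem le_sup : EE ZJ (Y i ⊔ Y j) ≤ N j ⊔ (EE ZJ (Y i ⊔ Y j) ⊓ centralizer (F : Set G)) :=
  o.off.le_sup h.NE'' o.mov (o.no h)

theorem relIndex_eq :
    (centralizer (EE ZJ (Y i ⊔ Y j) : Set G)).relIndex F = (centralizer (F : Set G)).relIndex (N j) ∧
      (centralizer (F : Set G)).relIndex (EE ZJ (Y i ⊔ Y j)) = (centralizer (F : Set G)).relIndex (N j) ∧
      (centralizer (N j : Set G)).relIndex F = (centralizer (F : Set G)).relIndex (N j) :=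
  o.off.relIndex_eq h.NE'' o.mov (o.no h)

/-- `F` is exact on every `M` with `N j ≤ M ≤ E`. -/
theorem exact {M : Subgroup G} (hNM : N j ≤ M) (hME : M ≤ EE ZJ (Y i ⊔ Y j)) :
    F ⊓ centralizer (N j : Set G) ≤ centralizer (M : Set G) ∧
      (centralizer (M : Set G)).relIndex F = (centralizer (N j : Set G)).relIndex F ∧
      (centralizer (F : Set G)).relIndex M = (centralizer (N j : Set G)).relIndex F := by
  have h1 := (o.le_cent h).trans (centralizer_le hME)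
  obtain ⟨e1, e2, e3⟩ := o.relIndex_eq h
  refine ⟨h1, ?_, ?_⟩
  · rw [relIndex_eq_mul (N := M) (V := N j) (A := F) hNM, relIndex_eq_one.2 h1, one_mul]
  · rw [e3]
    refine le_antisymm ?_ (relIndex_le_of_le_right hNM index_ne_zero_of_finite)
    rw [← e2]
    exact relIndex_le_of_le_right hME index_ne_zero_of_finite

/-- `F` offends no worse than exactly: `(NO)` for `A ≤ F` on `M`. -/
theorem no_sub {M A : Subgroup G} (hNM : N j ≤ M) (hME : M ≤ EE ZJ (Y i ⊔ Y j)) (hA : A ≤ F) :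
    (centralizer (M : Set G)).relIndex A ≤ (centralizer (A : Set G)).relIndex M := by
  have h1 : A ⊓ centralizer (N j : Set G) ≤ centralizer (M : Set G) :=
    (inf_le_inf_right _ hA).trans (o.exact h hNM hME).1
  rw [relIndex_eq_mul (N := M) (V := N j) (A := A) hNM, relIndex_eq_one.2 h1, one_mul]
  exact (h.no j A (eab_mono o.eab hA) (hA.trans o.leO)).trans
    (relIndex_le_of_le_right hNM index_ne_zero_of_finite)

/-- **LOW.** `C' := Y j ⊓ C(V)` (`V = V_i`) is normalised by `L i`, `L i` normalises `Zp = Z_j`: `F ≤ O₂(C')`. -/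
theorem low {V Zp : Subgroup G} (hp : IsPGroup 2 O) (hVN : V ≤ N i)
    (hLC : L i ≤ normalizer ((Y j ⊓ centralizer (V : Set G) : Subgroup G) : Set G))
    (hLZ : L i ≤ normalizer (Zp : Set G)) (hZN : Zp ≤ N j) (hcap : Y j ⊓ centralizer (Zp : Set G) ≤ D) :
    F ≤ o2 (Y j ⊓ centralizer (V : Set G)) := by
  set C' : Subgroup G := Y j ⊓ centralizer (V : Set G) with hC'
  set N' : Subgroup G := EE Zp C' with hN'
  have hCY : C' ≤ Y j := inf_le_left
  have hN'N : N' ≤ N j := EE_le fun y hy => by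
    have := cj_mono y hZN
    rwa [cj_eq_of_mem_normalizer (h.YN j (hCY hy))] at this
  have hC'N' : C' ≤ normalizer (N' : Set G) := norm_EE _ _
  -- `N'^x ≤ N'`, so `N' ≤ N_j^x`
  have hx' : N' ≤ cj x (N j) := by
    rw [hN']
    refine EE_le fun y hy => ?_
    have h1 : x⁻¹ * y * x ∈ C' := by
      have := (mem_normalizer_iff.1 (hLC (inv_mem o.xL)) y).1 hy
      rwa [inv_inv] at this
    have h2 : cj (x⁻¹ * y * x) Zp ≤ N j := (cj_le_EE h1).trans hN'N
    have h3 := cj_mono x h2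
    rw [cj_cj] at h3
    have e : x * (x⁻¹ * y * x) = y * x := by group
    rw [e, ← cj_cj, cj_eq_of_mem_normalizer (hLZ o.xL)] at h3
    exact h3
  have hFN' : F ≤ centralizer (N' : Set G) := o.le_cj.trans (centralizer_le hx')
  have hFY : F ≤ Y j := o.leO.trans (h.OY j)
  have hFC : F ≤ C' := le_inf hFY (o.le_centi.trans (centralizer_le hVN))
  set R : Subgroup G := C' ⊓ centralizer (N' : Set G) with hR
  have hRD : R ≤ D := (le_inf (inf_le_left.trans hCY)
    (inf_le_right.trans (centralizer_le (le_EE Zp C')))).trans hcap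
  have hnR : C' ≤ normalizer (R : Set G) := by
    intro c hc
    rw [mem_normalizer_iff_cj, hR, cj_inf, cj_centralizer, cj_eq_of_mem_normalizer (hC'N' hc),
      cj_eq_of_mem_normalizer (le_normalizer hc)]
  have hOR : O ⊓ R ≤ o2 R := MinSimple.VModule.le_o2 inf_le_right (hp.to_le inf_le_left) (by
    intro r hr
    rw [mem_normalizer_iff_cj, cj_inf, cj_eq_of_mem_normalizer (h.DO (hRD hr)),
      cj_eq_of_mem_normalizer (le_normalizer hr)])
  have hRC : o2 R ≤ o2 C' := MinSimple.VModule.le_o2 ((MinSimple.VModule.o2_le R).trans inf_le_left)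
    (MinSimple.VModule.o2_isPGroup R) (hnR.trans (normalizer_le_normalizer_o2 R))
  exact (le_inf o.leO (le_inf hFC hFN')).trans (hOR.trans hRC)

end Out

end Cfsg.Agent.Omega.EK3.StarE

end

section


/-!
# THEOREM S (helper787, #23621): the frame of STAR with a 2-transitive group on the blocks is impossible

Over `EK3.StarE.Fr O D ZJ Y N L` (helper520), `O ≠ 1`, with

* `kd` : a normal subgroup `K` of `Y j` which moves `N j` covers `Y j` modulo `D`;
* `tr` : 2-transitivity on the pairs `(Y i, N i)`.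

STAR gives one minimal offender `F` of `E = ⟨ZJ^⟨Y i, Y j⟩⟩` moving `N j`, `[E, F] ≤ N j`: `⟨F^(Y j)⟩ D = Y j` normalises
`N i N j`; by `tr` `Y b` normalises `N a N b` for all `a ≠ b`, so all `Y b` normalise `∏ N a`.
-/

set_option autoImplicit false

namespace Cfsg.Agent.Omega.ESOne

open Subgroup Cfsg Cfsg.Agent.ZN Cfsg.Agent.ZN.ChoiceBase
open Cfsg.Agent.Omega.EK3.StarE
open Cfsg.Agent.Omega.NO3S.EThree
open scoped commutatorElement

universe u

variable {G : Type u} [Group G]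

theorem cj_sup (g : G) (H K : Subgroup G) : cj g (H ⊔ K) = cj g H ⊔ cj g K := Subgroup.map_sup _ _ _

/-- `⟨F^H⟩` centralises `E` modulo `N` if `F` does; `H` normalises `E` and `N`. -/
theorem EE_comm {E N F H : Subgroup G} (hE : H ≤ normalizer (E : Set G)) (hN : H ≤ normalizer (N : Set G))
    (hFH : F ≤ H) (h : ∀ e ∈ E, ∀ f ∈ F, ⁅e, f⁆ ∈ N) : ∀ e ∈ E, ∀ k ∈ EE F H, ⁅e, k⁆ ∈ N := by
  let K : Subgroup G :=
    { carrier := {k | k ∈ H ∧ ∀ e ∈ E, ⁅e, k⁆ ∈ N}
      one_mem' := ⟨one_mem _, fun e _ => by simp⟩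
      mul_mem' := by
        rintro a b ⟨ha, ha'⟩ ⟨hb, hb'⟩
        refine ⟨mul_mem ha hb, fun e he => ?_⟩
        have e1 : ⁅e, a * b⁆ = ⁅e, a⁆ * (a * ⁅e, b⁆ * a⁻¹) := by
          simp only [commutatorElement_def]; group
        rw [e1]
        exact mul_mem (ha' e he) ((mem_normalizer_iff.1 (hN ha) _).1 (hb' e he))
      inv_mem' := by
        rintro a ⟨ha, ha'⟩
        refine ⟨inv_mem ha, fun e he => ?_⟩
        have e1 : ⁅e, a⁻¹⁆ = a⁻¹ * (⁅e, a⁆)⁻¹ * a⁻¹⁻¹ := by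
          simp only [commutatorElement_def]; group
        rw [e1]
        exact (mem_normalizer_iff.1 (hN (inv_mem ha)) _).1 (inv_mem (ha' e he)) }
  have hle : EE F H ≤ K := by
    refine EE_le fun y hy => ?_
    rintro _ ⟨f, hf, rfl⟩
    refine ⟨?_, fun e he => ?_⟩
    · exact mul_mem (mul_mem hy (hFH hf)) (inv_mem hy)
    · have h1 : y⁻¹ * e * y ∈ E := by
        have := (mem_normalizer_iff.1 (hE (inv_mem hy)) e).1 he
        rwa [inv_inv] at this
      have e1 : ⁅e, y * f * y⁻¹⁆ = y * ⁅y⁻¹ * e * y, f⁆ * y⁻¹ := by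
        simp only [commutatorElement_def]; group
      show ⁅e, y * f * y⁻¹⁆ ∈ N
      rw [e1]
      exact (mem_normalizer_iff.1 (hN hy) _).1 (h _ h1 f hf)
  exact fun e he k hk => (hle hk).2 e he

variable [Finite G] {ι : Type*} [Finite ι] {O D ZJ : Subgroup G} {Y N L : ι → Subgroup G}

/-- STAR: for some `i ≠ j`, `Y j` normalises `N i ⊔ N j`, and some element of `O` moves `N j`. -/
theorem exists_norm (h : Fr O D ZJ Y N L) (hO : O ≠ ⊥)
    (kd : ∀ j (K : Subgroup G), K ≤ Y j → Y j ≤ normalizer (K : Set G) → ¬ K ≤ centralizer (N j : Set G) →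
      Y j ≤ K ⊔ D) :
    ∃ i j, i ≠ j ∧ N j ≠ ⊥ ∧ Y j ≤ normalizer ((N i ⊔ N j : Subgroup G) : Set G) := by
  obtain ⟨i, j, F₁, F, x, o⟩ := h.star hO
  refine ⟨i, j, o.ne, fun e => o.mov ?_, ?_⟩
  · rw [e]
    intro x _
    rw [mem_centralizer_iff]
    rintro y hy
    rw [SetLike.mem_coe, mem_bot] at hy
    rw [hy, one_mul, mul_one]
  set E := EE ZJ (Y i ⊔ Y j) with hE
  have hYE : Y j ≤ normalizer (E : Set G) := Out.YE o h
  have hEab : E ≤ centralizer (E : Set G) := (ExactA.eab_iff.1 (Out.elE o h)).1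
  have hFY : F ≤ Y j := o.leO.trans (h.OY j)
  have hcomm : ∀ e ∈ E, ∀ f ∈ F, ⁅e, f⁆ ∈ N j := by
    intro e he f hf
    have h1 : ⁅e, f⁆ ∈ ⁅E, F⁆ := commutator_mem_commutator he hf
    rw [o.off.commutator_eq h.NE'' o.mov (o.no h) hEab] at h1
    have h2 : ⁅N j, F⁆ ≤ N j := by
      rw [commutator_le]
      intro n hn x hx
      have h3 := (mem_normalizer_iff.1 (h.YN j (hFY hx)) n⁻¹).1 (inv_mem hn)
      rw [commutatorElement_def]
      have e : n * x * n⁻¹ * x⁻¹ = n * (x * n⁻¹ * x⁻¹) := by group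
      rw [e]
      exact mul_mem hn h3
    exact h2 h1
  set K := EE F (Y j) with hK
  have hKc : ∀ e ∈ E, ∀ k ∈ K, ⁅e, k⁆ ∈ N j := EE_comm hYE (h.YN j) hFY hcomm
  have hKY : K ≤ Y j := EE_le fun y hy => by
    rintro _ ⟨f, hf, rfl⟩
    exact mul_mem (mul_mem hy (hFY hf)) (inv_mem hy)
  have hkd := kd j K hKY (norm_EE _ _) fun hc => o.mov ((le_EE F (Y j)).trans hc)
  refine hkd.trans (sup_le ?_ ?_)
  · -- `K` normalises `N i ⊔ N j`
    refine le_norm_of_cj_le fun k hk => ?_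
    rw [cj_sup]
    refine sup_le ?_ ?_
    · rintro _ ⟨n, hn, rfl⟩
      have h2 := hKc n⁻¹ (inv_mem (h.NE' hn)) k hk
      have e : k * n * k⁻¹ = n * ⁅n⁻¹, k⁆ := by
        simp only [commutatorElement_def]; group
      show k * n * k⁻¹ ∈ _
      rw [e]
      exact mul_mem (mem_sup_left hn) (mem_sup_right h2)
    · rw [cj_eq_of_mem_normalizer (h.YN j (hKY hk))]
      exact le_sup_right
  · refine le_norm_of_cj_le fun d hd => ?_
    rw [cj_sup, cj_eq_of_mem_normalizer (h.DN i hd), cj_eq_of_mem_normalizer (h.DN j hd)]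

/-- **THEOREM S.** -/
theorem false_of (h : Fr O D ZJ Y N L) (hO : O ≠ ⊥)
    (kd : ∀ j (K : Subgroup G), K ≤ Y j → Y j ≤ normalizer (K : Set G) → ¬ K ≤ centralizer (N j : Set G) →
      Y j ≤ K ⊔ D)
    (tr : ∀ i j a b, i ≠ j → a ≠ b → ∃ g : G, cj g (Y j) = Y b ∧ cj g (N i) = N a ∧ cj g (N j) = N b) : False := by
  obtain ⟨i, j, hij, hNj, hY⟩ := exists_norm h hO kd
  have key : ∀ a b, a ≠ b → Y b ≤ normalizer ((N a ⊔ N b : Subgroup G) : Set G) := by
    intro a b hab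
    obtain ⟨g, h1, h2, h3⟩ := tr i j a b hij hab
    have h4 := cj_mono g hY
    rwa [cj_normalizer, cj_sup, h1, h2, h3] at h4
  have hall : ∀ b, Y b ≤ normalizer ((⨆ a, N a : Subgroup G) : Set G) := by
    intro b
    refine le_norm_of_cj_le fun y hy => cj_iSup_le fun a => ?_
    by_cases hab : a = b
    · subst hab
      rw [cj_eq_of_mem_normalizer (h.YN a hy)]
      exact le_iSup N a
    · have h4 : cj y (N a ⊔ N b) = N a ⊔ N b := cj_eq_of_mem_normalizer (key a b hab hy)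
      exact (cj_mono y le_sup_left).trans (h4.le.trans (sup_le (le_iSup N a) (le_iSup N b)))
  have hb := h.nl (⨆ a, N a) (iSup_le h.NO) ((h.DY j).trans (hall j)) fun i => (h.LY i).trans (hall i)
  exact hNj (le_bot_iff.1 (hb ▸ le_iSup N j))

end Cfsg.Agent.Omega.ESOne

end

section


/-!
# THEOREM S'' (helper787 #23621, helper7 #23986): the abstract core

Light pairs `ι`, `O = O₂(D)`, `Y j = C_G(d_l : l ≠ j)`, `N j = ⟨d_j^(Y j)⟩`, `EI I = ⟨ZJ^⟨Y i : i ∈ I⟩⟩`.

* `Core` : the hypotheses; `Core.local` : some nontrivial 2-group is normalised by all the `Y j`.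
-/

set_option autoImplicit false
set_option linter.unusedSectionVars false

namespace Cfsg.Agent.Omega.ESym.CoreS

open Subgroup Cfsg Cfsg.Agent.ZN Cfsg.Agent.ZN.ChoiceBase
open Cfsg.Agent.Omega.NO3S.EThree
open Cfsg.Agent.Omega.NO3S.EThree.ExactA (eab_mono eab_sup eab_iff)
open Cfsg.Agent.Omega.EK3.Rank (NoOn mem_inf_of_mem_AA jj_inf_le offd_of_mem)
open Cfsg.Agent.Omega.EK3.Lever (Dt)
open scoped commutatorElement

universe u

variable {G : Type u} [Group G]

/-- `EI I = ⟨ZJ^⟨Y i : i ∈ I⟩⟩` -/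
def EI {ι : Type*} (ZJ : Subgroup G) (Y : ι → Subgroup G) (I : Set ι) : Subgroup G :=
  ⨆ y : (⨆ i : I, Y i : Subgroup G), cj (y : G) ZJ

/-- `g` induces the permutation `σ` of the light pairs. -/
structure Sy {ι : Type*} (O : Subgroup G) (Y N : ι → Subgroup G) (g : G) (σ : Equiv.Perm ι) : Prop where
  O_eq : cj g O = O
  Y_eq : ∀ l, cj g (Y l) = Y (σ l)
  N_eq : ∀ l, cj g (N l) = N (σ l)

/-- **The hypotheses of THEOREM S''.** -/
structure Core {ι : Type*} (O D ZJ : Subgroup G) (Y N : ι → Subgroup G) : Prop where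
  two : IsPGroup 2 O
  OY : ∀ i, O ≤ Y i
  OZ : O ≤ centralizer (ZJ : Set G)
  DY : ∀ i, D ≤ Y i
  /-- at least three light pairs -/
  three : ∀ i j : ι, ∃ l, l ≠ i ∧ l ≠ j
  ne : Nonempty ι
  /-- `E_I` is elementary abelian and `≤ O` for proper `I` -/
  eab : ∀ I : Set ι, I ≠ Set.univ → IsElementaryAbelian 2 (EI ZJ Y I : Subgroup G) ∧ EI ZJ Y I ≤ O
  NE : ∀ i, N i ≤ EI ZJ Y {i}
  YN : ∀ i, Y i ≤ normalizer (N i : Set G)
  YQ : ∀ i, Y i ≤ normalizer ((O ⊓ centralizer (N i : Set G) : Subgroup G) : Set G)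
  no : ∀ i, NoOn O (N i)
  /-- QP (LEMMA G'': some subgroup of `K ⊓ O` moves `N j`) -/
  gen : ∀ j, ∀ K : Subgroup G, K ≤ Y j → Y j ≤ normalizer (K : Set G) → ¬ K ⊓ O ≤ centralizer (N j : Set G) →
    Y j ≤ K ⊔ D
  tr : ∀ i j, ∃ g, ∃ σ : Equiv.Perm ι, Sy O Y N g σ ∧ σ i = j
  sw : ∀ i j, i ≠ j → ∃ g, ∃ σ : Equiv.Perm ι, Sy O Y N g σ ∧ ((σ i = i ∧ σ j ≠ j) ∨ (σ i = j ∧ σ j = i))

section basic

variable {ι : Type*} {O D ZJ : Subgroup G} {Y N : ι → Subgroup G}

theorem EI_mono {I I' : Set ι} (h : I ⊆ I') : EI ZJ Y I ≤ EI ZJ Y I' := by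
  have h1 : (⨆ i : I, Y i : Subgroup G) ≤ ⨆ i : I', Y i :=
    iSup_le fun i => le_iSup (fun i : I' => Y i) ⟨i.1, h i.2⟩
  exact iSup_le fun y => le_iSup (fun y : (⨆ i : I', Y i : Subgroup G) => cj (y : G) ZJ) ⟨y.1, h1 y.2⟩

theorem EI_norm {I : Set ι} {i : ι} (hi : i ∈ I) : Y i ≤ normalizer (EI ZJ Y I : Set G) := by
  have hle : Y i ≤ (⨆ i : I, Y i : Subgroup G) := le_iSup (fun i : I => Y i) ⟨i, hi⟩
  have key : ∀ y ∈ Y i, cj y (EI ZJ Y I) ≤ EI ZJ Y I := by
    intro y hy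
    unfold EI
    rw [cj, Subgroup.map_iSup]
    refine iSup_le fun x => ?_
    have e : Subgroup.map (MulAut.conj y).toMonoidHom (cj (x : G) ZJ) = cj (y * x : G) ZJ := cj_cj y x ZJ
    rw [e]
    exact le_iSup (fun x : (⨆ i : I, Y i : Subgroup G) => cj (x : G) ZJ) ⟨y * x, mul_mem (hle hy) x.2⟩
  intro y hy
  rw [mem_normalizer_iff_cj]
  refine le_antisymm (key y hy) ?_
  have h1 := cj_mono y (key y⁻¹ (inv_mem hy))
  rwa [cj_cj_inv] at h1

theorem inv_r {ι : Type*} (σ : Equiv.Perm ι) (l : ι) : σ (σ⁻¹ l) = l := by simp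

theorem inv_l {ι : Type*} (σ : Equiv.Perm ι) (l : ι) : σ⁻¹ (σ l) = l := by simp

theorem jj_ne_bot [Finite G] {T : Subgroup G} (hT : IsPGroup 2 T) (hne : T ≠ ⊥) : jj T ≠ ⊥ := by
  have : Fact (Nat.Prime 2) := ⟨Nat.prime_two⟩
  have h2 : 2 ∣ Nat.card T := by
    rcases hT.card_eq_or_dvd with h3 | h3
    · exact absurd ((Subgroup.card_eq_one).1 h3) hne
    · exact h3
  obtain ⟨x, hx⟩ := exists_prime_orderOf_dvd_card' 2 h2
  have hx2 : (x : G) ^ 2 = 1 := by
    have := pow_orderOf_eq_one x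
    rw [hx] at this
    exact congrArg Subtype.val this
  have hx1 : (x : G) ≠ 1 := by
    intro e
    have : x = 1 := Subtype.ext e
    rw [this, orderOf_one] at hx
    omega
  have hA : IsElementaryAbelian 2 (zpowers (x : G)) := by
    rw [eab_iff]
    constructor
    · intro y hy
      rw [mem_centralizer_iff]
      intro z hz
      obtain ⟨a, rfl⟩ := mem_zpowers_iff.1 hy
      obtain ⟨b, rfl⟩ := mem_zpowers_iff.1 hz
      rw [← zpow_add, ← zpow_add, add_comm]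
    · intro y hy
      obtain ⟨a, rfl⟩ := mem_zpowers_iff.1 hy
      rw [← zpow_natCast, ← zpow_mul, mul_comm, zpow_mul, zpow_natCast, hx2, one_zpow]
  intro e
  obtain ⟨A, hA'⟩ := AA_nonempty T
  have h3 := card_le_mm hA (zpowers_le.2 x.2)
  rw [mm_eq hA'] at h3
  have h4 : A = ⊥ := eq_bot_iff.2 ((ChoiceBase.le_jj hA').trans e.le)
  rw [h4, Subgroup.card_bot] at h3
  have h5 : zpowers (x : G) = ⊥ := Subgroup.card_eq_one.1 (le_antisymm h3 Nat.card_pos)
  exact hx1 (zpowers_eq_bot.1 h5)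

theorem jj_norm [Finite G] (Q : Subgroup G) : normalizer (Q : Set G) ≤ normalizer (jj Q : Set G) :=
  normalizer_le_of_cj (F := jj) jj_cj Q

/-- a subgroup of the normaliser condition, finite case -/
theorem mem_norm_of_le [Finite G] {g : G} {H : Subgroup G} (h : cj g H ≤ H) : g ∈ normalizer (H : Set G) := by
  rw [mem_normalizer_iff_cj]
  exact Subgroup.eq_of_le_of_card_ge h (card_cj g H).ge

end basic

section core

variable [Finite G] {ι : Type*} {O D ZJ : Subgroup G} {Y N : ι → Subgroup G} (h : Core O D ZJ Y N)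
include h

theorem Core.N_le_EI {I : Set ι} {i : ι} (hi : i ∈ I) : N i ≤ EI ZJ Y I :=
  (h.NE i).trans (EI_mono (Set.singleton_subset_iff.2 hi))

theorem Core.ne_univ (i : ι) : ({i} : Set ι) ≠ Set.univ := by
  obtain ⟨l, hl, -⟩ := h.three i i
  intro e
  have : l ∈ ({i} : Set ι) := e ▸ Set.mem_univ l
  exact hl this

theorem Core.N_eab (i : ι) : IsElementaryAbelian 2 (N i : Subgroup G) :=
  eab_mono (h.eab _ (h.ne_univ i)).1 (h.NE i)

theorem Core.N_le_O (i : ι) : N i ≤ O := (h.NE i).trans (h.eab _ (h.ne_univ i)).2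

/-- (1) either the conclusion, or `J(O)` moves every `N j` -/
theorem Core.moves (hO : O ≠ ⊥) :
    (∃ R : Subgroup G, R ≠ ⊥ ∧ IsPGroup 2 R ∧ ∀ j, Y j ≤ normalizer (R : Set G)) ∨
      ∀ j, ∃ A ∈ AA O, ¬ A ≤ centralizer (N j : Set G) := by
  by_cases hc : ∀ j, ∃ A ∈ AA O, ¬ A ≤ centralizer (N j : Set G)
  · exact Or.inr hc
  left
  push Not at hc
  obtain ⟨j, hj⟩ := hc
  have e : jj O = jj (O ⊓ centralizer (N j : Set G)) := by
    refine le_antisymm ?_ (jj_inf_le (h.N_eab j) (h.N_le_O j) (h.no j))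
    rw [ChoiceBase.jj_eq O]
    exact sSup_le fun A hA => ChoiceBase.le_jj (mem_inf_of_mem_AA (h.N_eab j) (h.N_le_O j) (h.no j) hA (hj A hA))
  have h1 : Y j ≤ normalizer (jj O : Set G) := by
    rw [e]
    exact (h.YQ j).trans (jj_norm _)
  refine ⟨jj O, jj_ne_bot h.two hO, h.two.to_le (ChoiceBase.jj_le O), fun i => ?_⟩
  obtain ⟨g, σ, hg, hσ⟩ := h.tr j i
  have h2 := cj_mono g h1
  rwa [hg.Y_eq, hσ, cj_normalizer, ← jj_cj, hg.O_eq] at h2

/-- (2), (3): for every proper nonempty `I` some `j ∈ I` has `Y j ≤ N(N i N j)` for all `i ∈ I`. -/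
theorem Core.step (hm : ∀ j, ∃ A ∈ AA O, ¬ A ≤ centralizer (N j : Set G)) {I : Set ι} (hI : I ≠ Set.univ)
    (hne : I.Nonempty) : ∃ j ∈ I, ∀ i ∈ I, Y j ≤ normalizer ((N i ⊔ N j : Subgroup G) : Set G) := by
  obtain ⟨j0, hj0⟩ := hne
  obtain ⟨A, hA, hAm⟩ := hm j0
  obtain ⟨hE, hEO⟩ := h.eab I hI
  have hOE : O ≤ normalizer (EI ZJ Y I : Set G) := (h.OY j0).trans (EI_norm hj0)
  have hoff : Offd (EI ZJ Y I) A :=
    offd_of_mem hE hEO hA (hA.2.1.trans hOE) (h.N_le_EI hj0) hAm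
  have hdt : Dt O (EI ZJ Y I) ZJ (fun i : I => Y i) (fun i : I => N i) := by
    refine ⟨(eab_iff.1 hE).1, fun i => h.OY i, fun i => EI_norm i.2, h.OZ, le_rfl, fun i => h.N_le_EI i.2,
      fun i => h.YN i, fun i => h.YQ i, fun i F hF hFO => h.no i F hF hFO⟩
  obtain ⟨j, F, hFO, hFe, hFm, hF⟩ := hdt.lever hA.2.1 hA.1 hoff
  refine ⟨j, j.2, fun i hi => ?_⟩
  -- the normal closure of `F` in `Y j`
  let K : Subgroup G := ⨆ y : Y j, cj (y : G) F
  have hFY : F ≤ Y j := hFO.trans (h.OY j)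
  have hFK : F ≤ K := by
    have := le_iSup (fun y : Y j => cj (y : G) F) 1
    simpa only [OneMemClass.coe_one, cj_one] using this
  have hKY : K ≤ Y j := iSup_le fun y => by
    have := cj_mono (y : G) hFY
    rwa [cj_eq_of_mem_normalizer (Subgroup.le_normalizer y.2)] at this
  have hYK : Y j ≤ normalizer (K : Set G) := by
    intro y hy
    refine mem_norm_of_le ?_
    change cj y (⨆ x : Y j, cj (x : G) F) ≤ _
    rw [cj, Subgroup.map_iSup]
    refine iSup_le fun x => ?_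
    have e : Subgroup.map (MulAut.conj y).toMonoidHom (cj (x : G) F) = cj (y * x : G) F := cj_cj y x F
    rw [e]
    exact le_iSup (fun x : Y j => cj (x : G) F) ⟨y * x, mul_mem hy x.2⟩
  have hKm : ¬ K ⊓ O ≤ centralizer (N j : Set G) := fun hc => hFm ((le_inf hFK hFO).trans hc)
  have hKN : K ≤ normalizer ((N i ⊔ N j : Subgroup G) : Set G) := by
    refine iSup_le fun y => ?_
    intro x hx
    refine mem_norm_of_le ?_
    rw [cj, Subgroup.map_sup]
    have hxY : x ∈ Y j := hKY (le_iSup (fun y : Y j => cj (y : G) F) y hx)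
    refine sup_le ?_ ?_
    · rintro _ ⟨n, hn, rfl⟩
      change x * n * x⁻¹ ∈ _
      -- `x = y f y⁻¹`
      obtain ⟨f, hf, e⟩ := hx
      have e' : x = (y : G) * f * (y : G)⁻¹ := by rw [← e]; rfl
      have hnE : n ∈ EI ZJ Y I := h.N_le_EI hi hn
      have hn' : (y : G)⁻¹ * n * y ∈ EI ZJ Y I := by
        have := (mem_normalizer_iff.1 (EI_norm j.2 (inv_mem y.2)) n).1 hnE
        rwa [inv_inv] at this
      have h1 := hF _ hn' f hf
      have h2 : (y : G) * ⁅(y : G)⁻¹ * n * y, f⁆ * (y : G)⁻¹ ∈ N j :=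
        (mem_normalizer_iff.1 (h.YN j y.2) _).1 h1
      have h3 : ⁅n, x⁆ = (y : G) * ⁅(y : G)⁻¹ * n * y, f⁆ * (y : G)⁻¹ := by
        rw [e']
        simp only [commutatorElement_def]
        group
      have h4 : x * n * x⁻¹ = ⁅n, x⁆⁻¹ * n := by
        simp only [commutatorElement_def]
        group
      rw [h4]
      exact mul_mem (inv_mem (mem_sup_right (by rw [h3]; exact h2))) (mem_sup_left hn)
    · have h1 := cj_eq_of_mem_normalizer (h.YN j hxY)
      exact (le_of_eq h1).trans le_sup_right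
  have hDN : D ≤ normalizer ((N i ⊔ N j : Subgroup G) : Set G) := by
    intro x hx
    refine mem_norm_of_le ?_
    rw [cj, Subgroup.map_sup]
    exact sup_le_sup (cj_eq_of_mem_normalizer (h.YN i (h.DY i hx))).le
      (cj_eq_of_mem_normalizer (h.YN j (h.DY j hx))).le
  exact (h.gen j K hKY hYK hKm).trans (sup_le hKN hDN)

omit h [Finite G] in
theorem Sy.conj_rel {g : G} {σ : Equiv.Perm ι} (hg : Sy O Y N g σ) {i j : ι}
    (hr : Y j ≤ normalizer ((N i ⊔ N j : Subgroup G) : Set G)) :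
    Y (σ j) ≤ normalizer ((N (σ i) ⊔ N (σ j) : Subgroup G) : Set G) := by
  have h1 := cj_mono g hr
  rw [cj_normalizer] at h1
  have e : cj g (N i ⊔ N j) = N (σ i) ⊔ N (σ j) := by
    rw [← hg.N_eq, ← hg.N_eq]
    exact Subgroup.map_sup _ _ _
  rwa [hg.Y_eq, e] at h1

omit h [Finite G] in
theorem Sy.inv {g : G} {σ : Equiv.Perm ι} (hg : Sy O Y N g σ) : Sy O Y N g⁻¹ σ⁻¹ where
  O_eq := by
    conv_lhs => rw [← hg.O_eq]
    exact cj_inv_cj g O
  Y_eq := fun l => by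
    have := hg.Y_eq (σ⁻¹ l)
    rw [inv_r σ l] at this
    rw [← this, cj_inv_cj]
  N_eq := fun l => by
    have := hg.N_eq (σ⁻¹ l)
    rw [inv_r σ l] at this
    rw [← this, cj_inv_cj]

/-- **THEOREM S''**: the `Y j` normalise a common nontrivial 2-group. -/
theorem Core.local (hO : O ≠ ⊥) :
    ∃ R : Subgroup G, R ≠ ⊥ ∧ IsPGroup 2 R ∧ ∀ j, Y j ≤ normalizer (R : Set G) := by
  rcases h.moves hO with h1 | hm
  · exact h1
  obtain ⟨l⟩ := h.ne
  -- one `j` for all `i ≠ l`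
  obtain ⟨l', hl', -⟩ := h.three l l
  obtain ⟨j, hj, hjr⟩ := h.step hm (I := {l}ᶜ) (fun e => by
    have : l ∈ ({l}ᶜ : Set ι) := e ▸ Set.mem_univ l
    exact this rfl) ⟨l', hl'⟩
  have hjl : j ≠ l := hj
  -- `i = l` too
  have hl : Y j ≤ normalizer ((N l ⊔ N j : Subgroup G) : Set G) := by
    obtain ⟨g, σ, hg, ⟨h1, h2⟩ | ⟨h1, h2⟩⟩ := h.sw j l hjl
    · have h3 := hjr (σ l) h2
      have h4 := hg.inv.conj_rel h3
      have e1 : σ⁻¹ j = j := by rw [Equiv.Perm.inv_eq_iff_eq]; exact h1.symm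
      rwa [inv_l σ l, e1] at h4
    · have hne : ({j, l} : Set ι) ≠ Set.univ := by
        obtain ⟨m, hm1, hm2⟩ := h.three j l
        intro e
        have : m ∈ ({j, l} : Set ι) := e ▸ Set.mem_univ m
        rcases this with e1 | e1
        · exact hm1 e1
        · exact hm2 e1
      obtain ⟨m, hmm, hmr⟩ := h.step hm hne ⟨j, Or.inl rfl⟩
      rcases hmm with rfl | hmm
      · exact hmr l (Or.inr rfl)
      · have e : m = l := hmm
        subst e
        have h3 := hg.conj_rel (hmr j (Or.inl rfl))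
        rwa [h1, h2] at h3
  have hall : ∀ i, Y j ≤ normalizer ((N i ⊔ N j : Subgroup G) : Set G) := by
    intro i
    by_cases hi : i = l
    · rw [hi]; exact hl
    · exact hjr i hi
  have hall' : ∀ i k, Y k ≤ normalizer ((N i ⊔ N k : Subgroup G) : Set G) := by
    intro i k
    obtain ⟨g, σ, hg, hσ⟩ := h.tr j k
    have h1 := hg.conj_rel (hall (σ⁻¹ i))
    rwa [inv_r σ i, hσ] at h1
  refine ⟨⨆ i, N i, ?_, h.two.to_le (iSup_le h.N_le_O), fun k => ?_⟩
  · obtain ⟨A, -, hA⟩ := hm l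
    intro e
    apply hA
    have h1 : N l = ⊥ := eq_bot_iff.2 ((le_iSup N l).trans e.le)
    rw [h1]
    intro x _
    rw [mem_centralizer_iff]
    intro y hy
    rw [SetLike.mem_coe, mem_bot] at hy
    rw [hy, one_mul, mul_one]
  · intro x hx
    refine mem_norm_of_le ?_
    rw [cj, Subgroup.map_iSup]
    refine iSup_le fun i => ?_
    have h1 : cj x (N i) ≤ N i ⊔ N k := by
      refine (cj_mono x (le_sup_left (b := N k))).trans ?_
      exact (cj_eq_of_mem_normalizer (hall' i k hx)).le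
    exact h1.trans (sup_le (le_iSup N i) (le_iSup N k))

end core

end Cfsg.Agent.Omega.ESym.CoreS

end
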