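import Cfsg.Agent.ZN.ChoiceSit
import Cfsg.Agent.MinSimple.Basic
import Cfsg.Agent.PLocal.ElemAbSup
import Cfsg.Agent.Mrg.Omega.NO3b.UMethod
import Cfsg.Agent.Omega.NoFF.ThmJFam

section


/-!
# EK3: NO-3S, case (E), `k ≥ 3`: LEMMA STAR and the low exact group (helper712; bb #22451, STAR')

Abstract: `D`, `O = O₂(D)`, `L j`, `Y j = ⟨D, L j⟩`, `N j ≤ O` el. ab., normal in `Y j`, `Q j = O ∩ C(N j)` normal in
`Y j`, `E i j` el. ab., `≤ O`, normal in `⟨Y i, Y j⟩`, `V i ≤ N i ≤ E i j`.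

* `rank_cent` : `A ∈ AA O`, `N ≤ O` el. ab., (NO) for `A` on `N` ⟹ `C_A(N) N ∈ AA O` and `A` is exact on `N`;
* `SIn` : the input;  `SIn.exists_AA` : `⋂ Q l` contains members of `AA O`;
* `SIn.exists_move` : **(s1)** : `A₁ ∈ AA O`, `A₁ ≤ ⋂ Q l`, `x ∈ L i`, `A₁ˣ` moves `N j`;
* `SIn.oneway` : **case 1** : `[V i ^ Y j, A] ≤ N j`;
* **`SIn.star`** : STAR' from GAUSS' and (4')(a)(b);
* **`low`** : `A₁ˣ ≤ O₂(C_{Y j}(V i)) ∩ O₂(N_{Y j}(V i))`.
-/

set_option autoImplicit false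
set_option linter.unusedSectionVars false
set_option linter.unusedVariables false

namespace Cfsg.Agent.Omega.EK3.Star

open Subgroup Cfsg Cfsg.Agent.ZN.ChoiceBase Cfsg.Agent.ZN.ChoiceSit
open Cfsg.Agent.ZN (zc zl o2)
open Cfsg.Agent.MinSimple.VModule (o2_isPGroup le_o2 o2_le)
open scoped commutatorElement

universe u

variable {G : Type u} [Group G]

theorem card_mul_relIndex {H K : Subgroup G} (h : H ≤ K) : Nat.card H * H.relIndex K = Nat.card K := by
  have h1 := relIndex_mul_relIndex (⊥ : Subgroup G) H K bot_le h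
  rwa [relIndex_bot_left, relIndex_bot_left] at h1

theorem le_cent {A : Subgroup G} (h : IsElementaryAbelian 2 A) : A ≤ centralizer (A : Set G) := by
  intro x hx
  rw [mem_centralizer_iff]
  intro y hy
  have := h.1.is_comm.comm ⟨y, hy⟩ ⟨x, hx⟩
  exact congrArg Subtype.val this

theorem cent_symm {A B : Subgroup G} (h : A ≤ centralizer (B : Set G)) : B ≤ centralizer (A : Set G) :=
  fun x hx => mem_centralizer_iff.2 fun y hy => (mem_centralizer_iff.1 (h hy) x hx).symm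

theorem el_mono {A B : Subgroup G} (hB : IsElementaryAbelian 2 B) (h : A ≤ B) : IsElementaryAbelian 2 A := by
  refine ⟨⟨⟨fun x y => ?_⟩⟩, fun a ha => hB.2 a (h ha)⟩
  exact Subtype.ext (mem_centralizer_iff.1 (le_cent hB (h y.2)) x (h x.2))

/-- **(1) RANK** -/
theorem rank_cent [Finite G] {O N A : Subgroup G} (hA : A ∈ AA O) (hN : IsElementaryAbelian 2 N) (hNO : N ≤ O)
    (no : (centralizer (N : Set G)).relIndex A ≤ (centralizer (A : Set G)).relIndex N) :
    (A ⊓ centralizer (N : Set G)) ⊔ N ∈ AA O ∧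
      (centralizer (N : Set G)).relIndex A = (centralizer (A : Set G)).relIndex N ∧
      A ⊓ N = N ⊓ centralizer (A : Set G) := by
  set C := A ⊓ centralizer (N : Set G) with hC
  have hNc := le_cent hN
  have hAc := le_cent hA.1
  have hel : IsElementaryAbelian 2 (C ⊔ N : Subgroup G) :=
    PLocal.ElemAbSup.isElementaryAbelian_sup (el_mono hA.1 inf_le_left) hN (cent_symm inf_le_right)
  have hEO : C ⊔ N ≤ O := sup_le (inf_le_left.trans hA.2.1) hNO
  have h1 : Nat.card (C ⊔ N : Subgroup G) ≤ Nat.card A := hA.2.2 _ hel hEO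
  have h2 := NoFF.ThmJFam.card_sup_inf (A := C) (B := N) inf_le_right
  have hCN : C ⊓ N = A ⊓ N := le_antisymm (inf_le_inf_right _ inf_le_left)
    (le_inf (le_inf inf_le_left (inf_le_right.trans hNc)) inf_le_right)
  rw [hCN] at h2
  have h3 : Nat.card C * (centralizer (N : Set G)).relIndex A = Nat.card A := by
    rw [← card_mul_relIndex (inf_le_left : C ≤ A)]
    congr 1
    rw [inf_relIndex_left]
  have h4 : Nat.card (N ⊓ centralizer (A : Set G) : Subgroup G) * (centralizer (A : Set G)).relIndex N = Nat.card N := by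
    rw [← card_mul_relIndex (inf_le_left : N ⊓ centralizer (A : Set G) ≤ N)]
    congr 1
    rw [inf_relIndex_left]
  have h5 : A ⊓ N ≤ N ⊓ centralizer (A : Set G) := le_inf inf_le_right (inf_le_left.trans hAc)
  have h6 : Nat.card (A ⊓ N : Subgroup G) ≤ Nat.card (N ⊓ centralizer (A : Set G) : Subgroup G) :=
    Nat.le_of_dvd Nat.card_pos (card_dvd_of_le h5)
  have p1 : 0 < Nat.card C := Nat.card_pos
  have p2 : 0 < Nat.card (A ⊓ N : Subgroup G) := Nat.card_pos
  have p3 : 0 < (centralizer (A : Set G)).relIndex N := Nat.pos_of_ne_zero (by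
    intro e; rw [e, mul_zero] at h4; exact Nat.card_pos.ne' h4.symm)
  set a := Nat.card A
  set c := Nat.card C
  set n := Nat.card N
  set i := Nat.card (A ⊓ N : Subgroup G)
  set d := Nat.card (N ⊓ centralizer (A : Set G) : Subgroup G)
  set r := (centralizer (N : Set G)).relIndex A
  set s := (centralizer (A : Set G)).relIndex N
  set e := Nat.card (C ⊔ N : Subgroup G)
  -- `e i = c n`, `e ≤ a = c r`, `r ≤ s`, `n = d s`, `i ≤ d`
  have k1 : c * n ≤ c * r * i := by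
    rw [← h2, h3]
    exact Nat.mul_le_mul_right _ h1
  have k2 : c * (d * s) ≤ c * (r * i) := by
    rw [h4, ← mul_assoc]
    exact k1
  have k3 : d * s ≤ r * i := Nat.le_of_mul_le_mul_left k2 p1
  have k4 : r * i ≤ s * i := Nat.mul_le_mul_right _ no
  have k5 : s * i ≤ s * d := Nat.mul_le_mul_left _ h6
  have k6 : r * i = s * i := by
    rw [mul_comm d s] at k3
    exact le_antisymm k4 (k5.trans k3)
  have k7 : s * i = s * d := by
    rw [mul_comm d s] at k3
    exact le_antisymm k5 (k3.trans k4)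
  have hrs : r = s := Nat.eq_of_mul_eq_mul_right p2 k6
  have hid : i = d := Nat.eq_of_mul_eq_mul_left p3 k7
  have hea : e = a := by
    apply Nat.eq_of_mul_eq_mul_right p2
    rw [h2, ← h3, ← h4, ← hid, hrs]
    ring
  refine ⟨⟨hel, hEO, fun B hB hBO => ?_⟩, hrs, ?_⟩
  · show Nat.card B ≤ e
    rw [hea]
    exact hA.2.2 B hB hBO
  · exact eq_of_le_of_card_ge h5 hid.ge

/-- the standard count for `A ∈ AA O` on `W ≤ O` -/
theorem rank_le [Finite G] {O W A : Subgroup G} (hA : A ∈ AA O) (hW : IsElementaryAbelian 2 W) (hWO : W ≤ O) :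
    (centralizer (A : Set G)).relIndex W ≤ (centralizer (W : Set G)).relIndex A := by
  set C := A ⊓ centralizer (W : Set G) with hC
  have hWc := le_cent hW
  have hAc := le_cent hA.1
  have hel : IsElementaryAbelian 2 (C ⊔ W : Subgroup G) :=
    PLocal.ElemAbSup.isElementaryAbelian_sup (el_mono hA.1 inf_le_left) hW (cent_symm inf_le_right)
  have h1 : Nat.card (C ⊔ W : Subgroup G) ≤ Nat.card A := hA.2.2 _ hel (sup_le (inf_le_left.trans hA.2.1) hWO)
  have h2 := NoFF.ThmJFam.card_sup_inf (A := C) (B := W) inf_le_right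
  have hCW : C ⊓ W = A ⊓ W := le_antisymm (inf_le_inf_right _ inf_le_left)
    (le_inf (le_inf inf_le_left (inf_le_right.trans hWc)) inf_le_right)
  rw [hCW] at h2
  have h3 : Nat.card C * (centralizer (W : Set G)).relIndex A = Nat.card A := by
    rw [← card_mul_relIndex (inf_le_left : C ≤ A)]
    congr 1
    rw [inf_relIndex_left]
  have h4 : Nat.card (W ⊓ centralizer (A : Set G) : Subgroup G) * (centralizer (A : Set G)).relIndex W = Nat.card W := by
    rw [← card_mul_relIndex (inf_le_left : W ⊓ centralizer (A : Set G) ≤ W)]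
    congr 1
    rw [inf_relIndex_left]
  have h5 : A ⊓ W ≤ W ⊓ centralizer (A : Set G) := le_inf inf_le_right (inf_le_left.trans hAc)
  have h6 : Nat.card (A ⊓ W : Subgroup G) ≤ Nat.card (W ⊓ centralizer (A : Set G) : Subgroup G) :=
    Nat.le_of_dvd Nat.card_pos (card_dvd_of_le h5)
  have p1 : 0 < Nat.card C := Nat.card_pos
  have p2 : 0 < Nat.card (A ⊓ W : Subgroup G) := Nat.card_pos
  set a := Nat.card A
  set c := Nat.card C
  set n := Nat.card W
  set i := Nat.card (A ⊓ W : Subgroup G)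
  set d := Nat.card (W ⊓ centralizer (A : Set G) : Subgroup G)
  set r := (centralizer (W : Set G)).relIndex A
  set s := (centralizer (A : Set G)).relIndex W
  set e := Nat.card (C ⊔ W : Subgroup G)
  -- `e i = c d s`, `e ≤ c r`, `i ≤ d`
  have k1 : c * (d * s) ≤ c * (r * i) := by
    rw [h4, ← h2, ← mul_assoc, h3]
    exact Nat.mul_le_mul_right _ h1
  have k2 : d * s ≤ r * i := Nat.le_of_mul_le_mul_left k1 p1
  have k3 : i * s ≤ i * r := (Nat.mul_le_mul_right _ h6).trans (k2.trans (mul_comm r i).le)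
  exact Nat.le_of_mul_le_mul_left k3 p2

/-- **Transfer**: `A ∈ AA O` exact on `N ≤ W`, `C_A(N)` centralises `W`: `W = N C_W(A)` -/
theorem le_sup_of_exact [Finite G] {O W N A : Subgroup G} (hA : A ∈ AA O) (hW : IsElementaryAbelian 2 W)
    (hWO : W ≤ O) (hNW : N ≤ W)
    (hex : (centralizer (N : Set G)).relIndex A = (centralizer (A : Set G)).relIndex N)
    (hc : A ⊓ centralizer (N : Set G) ≤ centralizer (W : Set G)) :
    W ≤ N ⊔ (W ⊓ centralizer (A : Set G)) := by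
  have h1 := rank_le hA hW hWO
  have h2 : (centralizer (W : Set G)).relIndex A = (centralizer (N : Set G)).relIndex A := by
    rw [← inf_relIndex_right (centralizer (W : Set G)), ← inf_relIndex_right (centralizer (N : Set G))]
    congr 1
    exact le_antisymm (inf_le_inf_right _ (centralizer_le hNW)) (le_inf (by rw [inf_comm]; exact hc) inf_le_right)
  rw [h2, hex] at h1
  set C := W ⊓ centralizer (A : Set G) with hC
  -- `|W : C| ≤ |N : N ∩ C|`
  have h3 : C.relIndex W = (centralizer (A : Set G)).relIndex W := inf_relIndex_left _ _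
  have h4 : (centralizer (A : Set G)).relIndex N = C.relIndex N := by
    rw [← inf_relIndex_right C, ← inf_relIndex_right (centralizer (A : Set G))]
    congr 1
    apply le_antisymm
    · exact le_inf (le_inf (inf_le_right.trans hNW) inf_le_left) inf_le_right
    · exact inf_le_inf_right _ inf_le_right
  have h5 : C.relIndex N ≤ C.relIndex (N ⊔ C) := relIndex_le_of_le_right le_sup_left index_ne_zero_of_finite
  have h6 := relIndex_mul_relIndex C (N ⊔ C) W le_sup_right (sup_le hNW inf_le_left)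
  rw [h3] at h6
  rw [h4] at h1
  have p : 0 < C.relIndex (N ⊔ C) := Nat.pos_of_ne_zero index_ne_zero_of_finite
  have h7 : C.relIndex (N ⊔ C) * (N ⊔ C).relIndex W ≤ C.relIndex (N ⊔ C) * 1 := by
    rw [h6, mul_one]
    exact h1.trans h5
  have h8 := Nat.le_of_mul_le_mul_left h7 p
  have h9 : (N ⊔ C).relIndex W ≠ 0 := index_ne_zero_of_finite
  exact relIndex_eq_one.1 (by omega)

/-- then `[W, A] ≤ N` if `A` normalises `N` -/
theorem comm_mem_of_le_sup {W N A : Subgroup G} (hW : IsElementaryAbelian 2 W) (hNW : N ≤ W)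
    (hAN : A ≤ normalizer (N : Set G)) (hle : W ≤ N ⊔ (W ⊓ centralizer (A : Set G))) {w a : G} (hw : w ∈ W)
    (ha : a ∈ A) : ⁅w, a⁆ ∈ N := by
  have hn : N ≤ normalizer ((W ⊓ centralizer (A : Set G) : Subgroup G) : Set G) :=
    (hNW.trans ((le_cent hW).trans (centralizer_le inf_le_left))).trans (centralizer_le_normalizer _)
  have h1 : w ∈ ((N ⊔ (W ⊓ centralizer (A : Set G)) : Subgroup G) : Set G) := hle hw
  rw [coe_mul_of_left_le_normalizer_right N _ hn] at h1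
  obtain ⟨v, hv, c, hc, rfl⟩ := Set.mem_mul.mp h1
  have h2 := mem_centralizer_iff.1 hc.2 a ha
  have e : ⁅v * c, a⁆ = v * (a * v⁻¹ * a⁻¹) := by
    rw [commutatorElement_def]
    calc v * c * a * (v * c)⁻¹ * a⁻¹ = v * (c * a) * c⁻¹ * v⁻¹ * a⁻¹ := by group
      _ = v * (a * c) * c⁻¹ * v⁻¹ * a⁻¹ := by rw [h2]
      _ = v * (a * v⁻¹ * a⁻¹) := by group
  show ⁅v * c, a⁆ ∈ N
  rw [e]
  exact mul_mem hv ((mem_normalizer_iff.1 (hAN ha) _).1 (inv_mem hv))

variable {ι : Type*}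

/-- **The input of STAR'.** -/
structure SIn (D O ZJ : Subgroup G) (L Y N V : ι → Subgroup G) (E : ι → ι → Subgroup G) : Prop where
  two : IsPGroup 2 O
  OD : O ≤ D
  nO : D ≤ normalizer (O : Set G)
  Yeq : ∀ j, Y j = D ⊔ L j
  NO : ∀ j, N j ≤ O
  Nel : ∀ j, IsElementaryAbelian 2 (N j)
  NN : ∀ i j, N i ≤ centralizer (N j : Set G)
  ne : ∃ j, N j ≠ ⊥
  YN : ∀ j, Y j ≤ normalizer (N j : Set G)
  YQ : ∀ j, Y j ≤ normalizer ((O ⊓ centralizer (N j : Set G) : Subgroup G) : Set G)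
  /-- (NO) -/
  no : ∀ j, ∀ A : Subgroup G, IsElementaryAbelian 2 A → A ≤ O →
    (centralizer (N j : Set G)).relIndex A ≤ (centralizer (A : Set G)).relIndex (N j)
  VN : ∀ i, V i ≤ N i
  Eel : ∀ i j, i ≠ j → IsElementaryAbelian 2 (E i j)
  EO : ∀ i j, i ≠ j → E i j ≤ O
  Esymm : ∀ i j, i ≠ j → E i j = E j i
  EY : ∀ i j, i ≠ j → Y j ≤ normalizer (E i j : Set G)
  NE : ∀ i j, i ≠ j → N j ≤ E i j
  /-- `⟨D, L i⟩` is not 2-local -/
  nl : ∀ R : Subgroup G, IsPGroup 2 R → R ≠ ⊥ → D ≤ normalizer (R : Set G) →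
    ∃ i, ¬ L i ≤ normalizer (R : Set G)

namespace SIn

variable {D O ZJ : Subgroup G} {L Y N V : ι → Subgroup G} {E : ι → ι → Subgroup G}
  (h : SIn D O ZJ L Y N V E)
include h

theorem DY (j : ι) : D ≤ Y j := by
  rw [h.Yeq j]
  exact le_sup_left

theorem LY (j : ι) : L j ≤ Y j := by
  rw [h.Yeq j]
  exact le_sup_right

variable [Finite G]

/-- the step `A ↦ C_A(N j) N j` -/
theorem step {A : Subgroup G} (hA : A ∈ AA O) (j : ι) : (A ⊓ centralizer (N j : Set G)) ⊔ N j ∈ AA O :=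
  (rank_cent hA (h.Nel j) (h.NO j) (h.no j A hA.1 hA.2.1)).1

theorem exact {A : Subgroup G} (hA : A ∈ AA O) (j : ι) :
    (centralizer (N j : Set G)).relIndex A = (centralizer (A : Set G)).relIndex (N j) :=
  (rank_cent hA (h.Nel j) (h.NO j) (h.no j A hA.1 hA.2.1)).2.1

/-- `⋂ Q l` contains members of `AA O` -/
theorem exists_AA [Finite ι] : ∃ A ∈ AA O, ∀ l, A ≤ centralizer (N l : Set G) := by
  classical
  have := Fintype.ofFinite ι
  have key : ∀ s : Finset ι, ∃ A ∈ AA O, ∀ l ∈ s, A ≤ centralizer (N l : Set G) := by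
    intro s
    induction s using Finset.induction_on with
    | empty =>
      obtain ⟨A, hA⟩ := AA_nonempty O
      exact ⟨A, hA, fun l hl => absurd hl (Finset.notMem_empty l)⟩
    | insert j s hj ih =>
      obtain ⟨A, hA, hs⟩ := ih
      refine ⟨_, h.step hA j, fun l hl => ?_⟩
      rcases Finset.mem_insert.1 hl with rfl | hl
      · exact sup_le inf_le_right (h.NN _ _)
      · exact sup_le (inf_le_left.trans (hs l hl)) (h.NN _ _)
  obtain ⟨A, hA, hs⟩ := key Finset.univ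
  exact ⟨A, hA, fun l => hs l (Finset.mem_univ l)⟩

theorem AA_ne {A : Subgroup G} (hA : A ∈ AA O) : A ≠ ⊥ := by
  rintro rfl
  obtain ⟨j, hj⟩ := h.ne
  have h1 := hA.2.2 (N j) (h.Nel j) (h.NO j)
  rw [card_bot] at h1
  exact hj (card_eq_one.1 (le_antisymm h1 Nat.card_pos))

/-- conjugates under `Y j` of a group in `Q j` -/
theorem cj_mem {A : Subgroup G} (hA : A ∈ AA O) {j : ι} (hj : A ≤ centralizer (N j : Set G)) {y : G} (hy : y ∈ Y j) :
    cj y A ∈ AA O ∧ cj y A ≤ centralizer (N j : Set G) := by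
  have h1 : cj y A ≤ O ⊓ centralizer (N j : Set G) := by
    have h2 := cj_mono y (le_inf hA.2.1 hj)
    rwa [cj_eq_of_mem_normalizer (h.YQ j hy)] at h2
  refine ⟨⟨isElementaryAbelian_cj y hA.1, h1.trans inf_le_left, fun B hB hBO => ?_⟩, h1.trans inf_le_right⟩
  rw [card_cj]
  exact hA.2.2 B hB hBO

/-- conjugates under `D` -/
theorem cj_mem_D {A : Subgroup G} (hA : A ∈ AA O) {y : G} (hy : y ∈ D) : cj y A ∈ AA O := by
  have h1 := cj_mem_AA y hA
  rwa [cj_eq_of_mem_normalizer (h.nO hy)] at h1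

/-- **(s1)** -/
theorem exists_move [Finite ι] : ∃ i j, i ≠ j ∧ ∃ A ∈ AA O, (∀ l, A ≤ centralizer (N l : Set G)) ∧ ∃ x ∈ L i,
    ¬ cj x A ≤ centralizer (N j : Set G) := by
  classical
  let 𝒜 : Set (Subgroup G) := {A | A ∈ AA O ∧ ∀ l, A ≤ centralizer (N l : Set G)}
  have hD : ∀ y ∈ D, ∀ A ∈ 𝒜, cj y A ∈ 𝒜 := by
    intro y hy A hA
    exact ⟨h.cj_mem_D hA.1 hy, fun l => (h.cj_mem hA.1 (hA.2 l) (h.DY l hy)).2⟩
  obtain ⟨A₀, hA₀, hA₀'⟩ := h.exists_AA
  have hle : sSup 𝒜 ≤ O := sSup_le fun A hA => hA.1.2.1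
  have hne : sSup 𝒜 ≠ ⊥ := fun e => h.AA_ne hA₀ (le_bot_iff.1 (e ▸ le_sSup (⟨hA₀, hA₀'⟩ : A₀ ∈ 𝒜)))
  have hnorm : ∀ H : Subgroup G, (∀ y ∈ H, ∀ A ∈ 𝒜, cj y A ∈ 𝒜) → H ≤ normalizer ((sSup 𝒜 : Subgroup G) : Set G) := by
    intro H hH y hy
    rw [mem_normalizer_iff_cj]
    have key : ∀ z ∈ H, cj z (sSup 𝒜) ≤ sSup 𝒜 := by
      intro z hz
      rw [cj_le_iff]
      refine sSup_le fun A hA => ?_
      rw [← cj_le_iff]
      exact le_sSup (hH z hz A hA)
    refine le_antisymm (key y hy) ?_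
    have h1 := cj_mono y (key y⁻¹ (inv_mem hy))
    rwa [cj_cj_inv] at h1
  obtain ⟨i, hi⟩ := h.nl (sSup 𝒜) (h.two.to_le hle) hne (hnorm D hD)
  have h1 : ∃ x ∈ L i, ∃ A ∈ 𝒜, cj x A ∉ 𝒜 := by
    by_contra hcon
    push Not at hcon
    exact hi (hnorm (L i) fun y hy A hA => hcon y hy A hA)
  obtain ⟨x, hx, A, hA, hn⟩ := h1
  have h2 := h.cj_mem hA.1 (hA.2 i) (h.LY i hx)
  have h3 : ∃ j, ¬ cj x A ≤ centralizer (N j : Set G) := by
    by_contra hcon
    push Not at hcon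
    exact hn ⟨h2.1, hcon⟩
  obtain ⟨j, hj⟩ := h3
  refine ⟨i, j, ?_, A, hA.1, hA.2, x, hx, hj⟩
  rintro rfl
  exact hj h2.2

/-- `L i` does not normalise `N j` -/
theorem not_norm {A : Subgroup G} {i j : ι} (hj : A ≤ centralizer (N j : Set G)) {x : G} (hx : x ∈ L i)
    (hn : ¬ cj x A ≤ centralizer (N j : Set G)) : ¬ L i ≤ normalizer (N j : Set G) := by
  intro hc
  apply hn
  have h1 := cj_mono x hj
  rwa [cj_centralizer, cj_eq_of_mem_normalizer (hc hx)] at h1

/-- **case 1** : `AA(Q i ∩ Q j)` is `L j`-invariant -/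
theorem oneway {i j : ι} (hij : i ≠ j)
    (hinv : ∀ A ∈ AA O, A ≤ centralizer (N i : Set G) → A ≤ centralizer (N j : Set G) → ∀ y ∈ L j,
      cj y A ≤ centralizer (N i : Set G))
    {A : Subgroup G} (hA : A ∈ AA O) (hAi : A ≤ centralizer (N i : Set G)) {y v a : G} (hy : y ∈ Y j)
    (hv : v ∈ V i) (ha : a ∈ A) : ⁅y * v * y⁻¹, a⁆ ∈ N j := by
  classical
  let 𝒜 : Set (Subgroup G) := {A | A ∈ AA O ∧ A ≤ centralizer (N i : Set G) ∧ A ≤ centralizer (N j : Set G)}
  -- `𝒜` is `Y j`-invariant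
  have hYj : ∀ y ∈ Y j, ∀ B ∈ 𝒜, cj y B ∈ 𝒜 := by
    let H : Subgroup G :=
      { carrier := {y | (∀ B ∈ 𝒜, cj y B ∈ 𝒜) ∧ ∀ B ∈ 𝒜, cj y⁻¹ B ∈ 𝒜}
        one_mem' := ⟨fun B hB => by rwa [cj_one], fun B hB => by rwa [inv_one, cj_one]⟩
        mul_mem' := by
          rintro a b ⟨ha, ha'⟩ ⟨hb, hb'⟩
          refine ⟨fun B hB => ?_, fun B hB => ?_⟩
          · rw [← cj_cj]
            exact ha _ (hb B hB)
          · rw [mul_inv_rev, ← cj_cj]
            exact hb' _ (ha' B hB)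
        inv_mem' := by
          rintro a ⟨ha, ha'⟩
          exact ⟨ha', by rwa [inv_inv]⟩ }
    have h1 : D ≤ H := by
      have key : ∀ y ∈ D, ∀ B ∈ 𝒜, cj y B ∈ 𝒜 := fun y hy B hB =>
        ⟨h.cj_mem_D hB.1 hy, (h.cj_mem hB.1 hB.2.1 (h.DY i hy)).2, (h.cj_mem hB.1 hB.2.2 (h.DY j hy)).2⟩
      exact fun y hy => ⟨key y hy, key y⁻¹ (inv_mem hy)⟩
    have h2 : L j ≤ H := by
      have key : ∀ y ∈ L j, ∀ B ∈ 𝒜, cj y B ∈ 𝒜 := fun y hy B hB =>
        ⟨(h.cj_mem hB.1 hB.2.2 (h.LY j hy)).1, hinv B hB.1 hB.2.1 hB.2.2 y hy,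
          (h.cj_mem hB.1 hB.2.2 (h.LY j hy)).2⟩
      exact fun y hy => ⟨key y hy, key y⁻¹ (inv_mem hy)⟩
    have h3 : Y j ≤ H := by
      rw [h.Yeq j]
      exact sup_le h1 h2
    exact fun y hy => (h3 hy).1
  -- `W = E ∩ C(𝒜)`
  set W := E i j ⊓ centralizer ((sSup 𝒜 : Subgroup G) : Set G) with hW
  have hWel : IsElementaryAbelian 2 W := el_mono (h.Eel i j hij) inf_le_left
  have hWO : W ≤ O := inf_le_left.trans (h.EO i j hij)
  have hcent : ∀ U : Subgroup G, (∀ B ∈ 𝒜, B ≤ centralizer (U : Set G)) →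
      U ≤ centralizer ((sSup 𝒜 : Subgroup G) : Set G) := by
    intro U hU
    exact cent_symm (sSup_le hU)
  have hNW : N j ≤ W := le_inf (h.NE i j hij) (hcent _ fun B hB => hB.2.2)
  have hNiW : N i ≤ W := le_inf (by rw [h.Esymm i j hij]; exact h.NE j i hij.symm) (hcent _ fun B hB => hB.2.1)
  have hS : Y j ≤ normalizer ((sSup 𝒜 : Subgroup G) : Set G) := by
    intro y hy
    rw [mem_normalizer_iff_cj]
    have key : ∀ z ∈ Y j, cj z (sSup 𝒜) ≤ sSup 𝒜 := by
      intro z hz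
      rw [cj_le_iff]
      refine sSup_le fun A hA => ?_
      rw [← cj_le_iff]
      exact le_sSup (hYj z hz A hA)
    refine le_antisymm (key y hy) ?_
    have h1 := cj_mono y (key y⁻¹ (inv_mem hy))
    rwa [cj_cj_inv] at h1
  have hWn : Y j ≤ normalizer (W : Set G) := by
    intro y hy
    rw [mem_normalizer_iff_cj, hW, cj_inf, cj_centralizer, cj_eq_of_mem_normalizer (h.EY i j hij hy),
      cj_eq_of_mem_normalizer (hS hy)]
  have hw : y * v * y⁻¹ ∈ W := (mem_normalizer_iff.1 (hWn hy) v).1 (hNiW (h.VN i hv))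
  -- `C_A(N j)` centralises `W`
  have hc : A ⊓ centralizer (N j : Set G) ≤ centralizer (W : Set G) := by
    have h1 : (A ⊓ centralizer (N j : Set G)) ⊔ N j ∈ 𝒜 :=
      ⟨h.step hA j, sup_le (inf_le_left.trans hAi) (h.NN _ _), sup_le inf_le_right (h.NN _ _)⟩
    have h2 : A ⊓ centralizer (N j : Set G) ≤ sSup 𝒜 := le_sup_left.trans (le_sSup h1)
    exact h2.trans (cent_symm inf_le_right)
  have hle := le_sup_of_exact hA hWel hWO hNW (h.exact hA j) hc
  have hAN : A ≤ normalizer (N j : Set G) := (hA.2.1.trans h.OD).trans ((h.DY j).trans (h.YN j))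
  exact comm_mem_of_le_sup hWel hNW hAN hle hw ha

/-- **STAR'.** `gauss` = GAUSS' (3), `lever` = (4')(a)(b). -/
theorem star [Finite ι]
    (gauss : ∀ i j, i ≠ j → ∀ A : Subgroup G, A ≤ O →
      (∀ y ∈ Y j, ∀ v ∈ V i, ∀ a ∈ A, ⁅y * v * y⁻¹, a⁆ ∈ N j) → ¬ A ≤ centralizer (N j : Set G) →
      V i ≤ N j ⊔ ZJ ∨ L i ≤ normalizer (N j : Set G))
    (lever : ∀ i j, i ≠ j → (∃ A ∈ AA O, ¬ A ≤ centralizer (N j : Set G)) →
      ∃ F ≤ O, (¬ F ≤ centralizer (N i : Set G) ∧ ∀ e ∈ E i j, ∀ f ∈ F, ⁅e, f⁆ ∈ N i) ∨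
        (¬ F ≤ centralizer (N j : Set G) ∧ ∀ e ∈ E i j, ∀ f ∈ F, ⁅e, f⁆ ∈ N j)) :
    ∃ i j, i ≠ j ∧ V i ≤ N j ⊔ ZJ ∧ ∃ A ∈ AA O, A ≤ centralizer (N i : Set G) ∧ A ≤ centralizer (N j : Set G) ∧
      ∃ x ∈ L i, ¬ cj x A ≤ centralizer (N j : Set G) := by
  obtain ⟨i, j, hij, A, hA, hAl, x, hx, hn⟩ := h.exists_move
  by_cases hc : ∀ A ∈ AA O, A ≤ centralizer (N i : Set G) → A ≤ centralizer (N j : Set G) → ∀ y ∈ L j,
      cj y A ≤ centralizer (N i : Set G)
  · refine ⟨i, j, hij, ?_, A, hA, hAl i, hAl j, x, hx, hn⟩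
    have h1 := h.cj_mem hA (hAl i) (h.LY i hx)
    rcases gauss i j hij (cj x A) h1.1.2.1 (fun y hy v hv a ha => h.oneway hij hc h1.1 h1.2 hy hv ha) hn with h2 | h2
    · exact h2
    · exact absurd h2 (h.not_norm (hAl j) hx hn)
  · push Not at hc
    obtain ⟨A', hA', hA'i, hA'j, y, hy, hn'⟩ := hc
    have h1 := h.cj_mem hA (hAl i) (h.LY i hx)
    obtain ⟨F, hFO, hF⟩ := lever i j hij ⟨_, h1.1, hn⟩
    have hV : ∀ {a b : ι}, a ≠ b → ∀ z ∈ Y b, ∀ v ∈ V a, z * v * z⁻¹ ∈ E a b := by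
      intro a b hab z hz v hv
      have h2 : v ∈ E a b := by
        rw [h.Esymm a b hab]
        exact h.NE b a hab.symm (h.VN a hv)
      exact (mem_normalizer_iff.1 (h.EY a b hab hz) v).1 h2
    rcases hF with ⟨hm, hF⟩ | ⟨hm, hF⟩
    · -- `F` moves `N i`
      refine ⟨j, i, hij.symm, ?_, A', hA', hA'j, hA'i, y, hy, hn'⟩
      rcases gauss j i hij.symm F hFO (fun z hz v hv a ha => hF _ (by
        rw [h.Esymm i j hij]; exact hV hij.symm z hz v hv) a ha) hm with h2 | h2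
      · exact h2
      · exact absurd h2 (h.not_norm hA'i hy hn')
    · refine ⟨i, j, hij, ?_, A, hA, hAl i, hAl j, x, hx, hn⟩
      rcases gauss i j hij F hFO (fun z hz v hv a ha => hF _ (hV hij z hz v hv) a ha) hm with h2 | h2
      · exact h2
      · exact absurd h2 (h.not_norm (hAl j) hx hn)

end SIn

/-- **LOW**: `A₁ˣ ≤ O₂(C_{Y}(V))`, `x ∈ L`. Here `Y = Y j`, `N = N j`, `Z = Z j`, `L = L i`, `V = V i`. -/
theorem low {D Y L N V Z A : Subgroup G} (hDY : D ≤ Y) (hZN : Z ≤ N) (hYN : Y ≤ normalizer (N : Set G))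
    (hst : Y ⊓ centralizer (Z : Set G) ≤ D) (hC : L ≤ normalizer ((Y ⊓ centralizer (V : Set G) : Subgroup G) : Set G))
    (hZ : L ≤ centralizer (Z : Set G)) (hA : A ≤ centralizer (N : Set G)) {x : G} (hx : x ∈ L)
    (hAO : cj x A ≤ o2 D) (hAV : cj x A ≤ centralizer (V : Set G)) :
    cj x A ≤ o2 (Y ⊓ centralizer (V : Set G)) := by
  set C' := Y ⊓ centralizer (V : Set G) with hC'
  have hAC : cj x A ≤ C' := le_inf ((hAO.trans (MinSimple.VModule.o2_le D)).trans hDY) hAV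
  let S : Set G := {g | ∃ c ∈ C', ∃ z ∈ Z, c * z * c⁻¹ = g}
  -- `A` centralises `S`
  have h1 : cj x A ≤ centralizer S := by
    rintro _ ⟨a, ha, rfl⟩
    rw [mem_centralizer_iff]
    rintro _ ⟨c, hc, z, hz, rfl⟩
    have hc' : x⁻¹ * c * x ∈ C' := by
      have := (mem_normalizer_iff.1 (hC (inv_mem hx)) c).1 hc
      rwa [inv_inv] at this
    have hzx : x⁻¹ * z * x = z := by
      have := mem_centralizer_iff.1 (hZ hx) z hz
      rw [mul_assoc, this]; group
    have h2 : (x⁻¹ * c * x) * z * (x⁻¹ * c * x)⁻¹ ∈ N :=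
      (mem_normalizer_iff.1 (hYN hc'.1) z).1 (hZN hz)
    have h3 := mem_centralizer_iff.1 (hA ha) _ h2
    have e1 : (x⁻¹ * c * x) * z * (x⁻¹ * c * x)⁻¹ = x⁻¹ * (c * z * c⁻¹) * x := by
      conv_lhs => rw [← hzx]
      group
    rw [e1] at h3
    show c * z * c⁻¹ * (x * a * x⁻¹) = x * a * x⁻¹ * (c * z * c⁻¹)
    calc c * z * c⁻¹ * (x * a * x⁻¹) = x * (x⁻¹ * (c * z * c⁻¹) * x * a) * x⁻¹ := by group
      _ = x * (a * (x⁻¹ * (c * z * c⁻¹) * x)) * x⁻¹ := by rw [h3]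
      _ = _ := by group
  set K := C' ⊓ centralizer S with hK
  have hKD : K ≤ D := by
    intro k hk
    apply hst
    refine mem_inf.2 ⟨hk.1.1, ?_⟩
    rw [mem_centralizer_iff]
    intro z hz
    have h2 := mem_centralizer_iff.1 hk.2 z ⟨1, one_mem _, z, hz, by group⟩
    exact h2
  have hKn : C' ≤ normalizer (K : Set G) := by
    have key : ∀ g ∈ C', ∀ k ∈ K, g * k * g⁻¹ ∈ K := by
      intro g hg k hk
      refine mem_inf.2 ⟨mul_mem (mul_mem hg hk.1) (inv_mem hg), ?_⟩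
      rw [mem_centralizer_iff]
      rintro _ ⟨c, hc, z, hz, rfl⟩
      have h2 := mem_centralizer_iff.1 hk.2 (g⁻¹ * c * z * (g⁻¹ * c)⁻¹)
        ⟨g⁻¹ * c, mul_mem (inv_mem hg) hc, z, hz, rfl⟩
      calc c * z * c⁻¹ * (g * k * g⁻¹) = g * (g⁻¹ * c * z * (g⁻¹ * c)⁻¹ * k) * g⁻¹ := by group
        _ = g * (k * (g⁻¹ * c * z * (g⁻¹ * c)⁻¹)) * g⁻¹ := by rw [h2]
        _ = _ := by group
    intro g hg
    rw [mem_normalizer_iff]
    intro k
    refine ⟨key g hg k, fun hk => ?_⟩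
    have h2 := key g⁻¹ (inv_mem hg) _ hk
    have e : g⁻¹ * (g * k * g⁻¹) * g⁻¹⁻¹ = k := by group
    rwa [e] at h2
  have h2 : cj x A ≤ o2 D ⊓ K := le_inf hAO (le_inf hAC h1)
  have h3 : o2 D ⊓ K ≤ o2 K := by
    refine le_o2 inf_le_right ((o2_isPGroup D).to_le inf_le_left) ?_
    have h4 : K ≤ normalizer (o2 D : Set G) := hKD.trans (MinSimple.VModule.le_normalizer_o2 D)
    intro g hg
    rw [mem_normalizer_iff]
    intro a
    have h5 := mem_normalizer_iff.1 (h4 hg) a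
    have h6 := mem_normalizer_iff.1 (le_normalizer (H := K) hg) a
    exact ⟨fun ha => ⟨h5.1 ha.1, h6.1 ha.2⟩, fun ha => ⟨h5.2 ha.1, h6.2 ha.2⟩⟩
  exact h2.trans (h3.trans (NO3b.UMethod.o2_le_o2_of_normal inf_le_left hKn))

/-- the stabiliser of `V` -/
theorem o2_cent_le {Y V : Subgroup G} :
    o2 (Y ⊓ centralizer (V : Set G)) ≤ o2 (Y ⊓ normalizer (V : Set G)) := by
  refine NO3b.UMethod.o2_le_o2_of_normal (inf_le_inf_left _ (centralizer_le_normalizer _)) ?_
  intro g hg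
  rw [mem_normalizer_iff_cj, cj_inf, cj_centralizer, cj_eq_of_mem_normalizer (le_normalizer hg.1),
    cj_eq_of_mem_normalizer hg.2]

end Cfsg.Agent.Omega.EK3.Star

end

section


/-!
# RWide [B]: LEMMA PERM (paper: bb OMEGA #23931, helper892)

Pure group theory. `V = ∏ W b` el. ab., `Z b < W b`, `B` acts on `V` as the product of the full root groups of `W b` with
centres `Z b` (`|W b : Z b| = |Z b|`), `A b ∈ AA O` (`O` any subgroup) induces the full root group of `W b` and centralises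
the other `W c`; `Q = C_B(V)`, `B = Q ⟨A b⟩`, the involutions of `O` which centralise `B` lie in `ZJ = ∏ Z b`; `N 0`, `N 1`
el. ab., `W b ≤ N (side b) ≤ O`, and for every `c` some `l` normalises `Q`, `N (side c)`, `W c`, centralises the other
`W d` and moves `Z c` to a complement in `W c`.

`x ∈ N(B) ∩ N(O) ∩ N(ZJ) ∩ N(N 0) ∩ N(N 1)` which fixes on each side a vector of full support permutes `{Z b : side b = i}`:

* `one` : `W bˣ` moves `V`; `two` : `W bˣ ≤ V`; `three` : `O ∩ Ω₁Z(Q) ≤ V`; `four`; **`perm`**.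
-/

set_option autoImplicit false
set_option linter.unusedSectionVars false
set_option linter.unusedVariables false

namespace Cfsg.Agent.Omega.RW.Perm

open Subgroup Cfsg Cfsg.Agent.ZN.ChoiceBase
open Cfsg.Agent.Omega.EK3.Star (rank_cent rank_le le_sup_of_exact le_cent cent_symm el_mono card_mul_relIndex)
open scoped commutatorElement

universe u

variable {G : Type u} [Group G]

/-! ### counting -/

theorem relIndex_sup [Finite G] {A B : Subgroup G} (hc : A ≤ centralizer (B : Set G)) :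
    B.relIndex (A ⊔ B) = B.relIndex A := by
  have h2 := NoFF.ThmJFam.card_sup_inf (A := A) (B := B) hc
  have h3 := card_mul_relIndex (le_sup_right : B ≤ A ⊔ B)
  have h4 := card_mul_relIndex (inf_le_left : A ⊓ B ≤ A)
  rw [inf_relIndex_left] at h4
  have p1 : 0 < Nat.card B := Nat.card_pos
  have p2 : 0 < Nat.card (A ⊓ B : Subgroup G) := Nat.card_pos
  apply Nat.eq_of_mul_eq_mul_left (Nat.mul_pos p1 p2)
  calc Nat.card B * Nat.card (A ⊓ B : Subgroup G) * B.relIndex (A ⊔ B)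
      = Nat.card B * B.relIndex (A ⊔ B) * Nat.card (A ⊓ B : Subgroup G) := by ring
    _ = Nat.card A * Nat.card B := by rw [h3, h2]
    _ = Nat.card (A ⊓ B : Subgroup G) * B.relIndex A * Nat.card B := by rw [h4]
    _ = _ := by ring

theorem relIndex_eq_of_le_sup [Finite G] {K L C : Subgroup G} (hL : L ≤ centralizer (L : Set G)) (hKL : K ≤ L)
    (h : L ≤ K ⊔ (L ⊓ C)) : C.relIndex L = C.relIndex K := by
  have e : L = K ⊔ (L ⊓ C) := le_antisymm h (sup_le hKL inf_le_left)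
  have h1 : (L ⊓ C).relIndex (K ⊔ (L ⊓ C)) = (L ⊓ C).relIndex K :=
    relIndex_sup (hKL.trans (hL.trans (centralizer_le inf_le_left)))
  rw [← e] at h1
  rw [inf_relIndex_left] at h1
  rw [h1, ← inf_relIndex_right (L ⊓ C), ← inf_relIndex_right C]
  congr 1
  exact le_antisymm (inf_le_inf_right _ inf_le_right) (le_inf (le_inf (inf_le_right.trans hKL) inf_le_left) inf_le_right)

theorem comm_eq_iff {w a a' : G} : ⁅w, a⁆ = ⁅w, a'⁆ ↔ a⁻¹ * a' ∈ centralizer ({w} : Set G) := by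
  rw [mem_centralizer_singleton_iff, commutatorElement_def, commutatorElement_def]
  constructor
  · intro h
    have h1 : a * w⁻¹ * a⁻¹ = a' * w⁻¹ * a'⁻¹ := by
      have h2 := congrArg (fun t => w⁻¹ * t) h
      simpa [mul_assoc] using h2
    have h3 : a * w * a⁻¹ = a' * w * a'⁻¹ := by
      have := congrArg (fun t => t⁻¹) h1
      simpa [mul_assoc] using this
    calc a⁻¹ * a' * w = a⁻¹ * (a' * w * a'⁻¹) * a' := by group
      _ = a⁻¹ * (a * w * a⁻¹) * a' := by rw [h3]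
      _ = w * (a⁻¹ * a') := by group
  · intro h
    have h3 : a' * w * a'⁻¹ = a * w * a⁻¹ := by
      calc a' * w * a'⁻¹ = a * (a⁻¹ * a' * w) * a'⁻¹ := by group
        _ = a * (w * (a⁻¹ * a')) * a'⁻¹ := by rw [h]
        _ = a * w * a⁻¹ := by group
    calc w * a * w⁻¹ * a⁻¹ = w * (a * w * a⁻¹)⁻¹ := by group
      _ = w * (a' * w * a'⁻¹)⁻¹ := by rw [h3]
      _ = w * a' * w⁻¹ * a'⁻¹ := by group

theorem relIndex_cent_le [Finite G] {A Z : Subgroup G} {w : G} (h : ∀ a ∈ A, ⁅w, a⁆ ∈ Z) :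
    (centralizer ({w} : Set G)).relIndex A ≤ Nat.card Z := by
  unfold Subgroup.relIndex Subgroup.index
  let f : A ⧸ (centralizer ({w} : Set G)).subgroupOf A → Z :=
    Quotient.lift (fun a : A => (⟨⁅w, (a : G)⁆, h a a.2⟩ : Z)) (by
      intro a b hab
      have h1 : a⁻¹ * b ∈ (centralizer ({w} : Set G)).subgroupOf A := QuotientGroup.leftRel_apply.1 hab
      exact Subtype.ext (comm_eq_iff.2 (mem_subgroupOf.1 h1)))
  refine Nat.card_le_card_of_injective f ?_
  intro p q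
  induction p using QuotientGroup.induction_on with
  | H a =>
    induction q using QuotientGroup.induction_on with
    | H b =>
      intro hab
      have h1 : ⁅w, (a : G)⁆ = ⁅w, (b : G)⁆ := congrArg Subtype.val hab
      exact QuotientGroup.eq.2 (mem_subgroupOf.2 (comm_eq_iff.1 h1))

theorem le_relIndex_cent [Finite G] {A Z : Subgroup G} {w : G} (h : ∀ z ∈ Z, ∃ a ∈ A, ⁅w, a⁆ = z) :
    Nat.card Z ≤ (centralizer ({w} : Set G)).relIndex A := by
  unfold Subgroup.relIndex Subgroup.index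
  have h' : ∀ z : Z, ∃ a : A, ⁅w, (a : G)⁆ = z := fun z => by
    obtain ⟨a, ha, e⟩ := h z z.2
    exact ⟨⟨a, ha⟩, e⟩
  choose f hf using h'
  refine Nat.card_le_card_of_injective (fun z => (f z : A ⧸ (centralizer ({w} : Set G)).subgroupOf A)) ?_
  intro z z' e
  have h1 := mem_subgroupOf.1 (QuotientGroup.eq.1 e)
  have h2 : ⁅w, (f z : G)⁆ = ⁅w, (f z' : G)⁆ := comm_eq_iff.2 h1
  rw [hf, hf] at h2
  exact Subtype.ext h2

theorem comm_mul_left {w w' g : G} (h : ⁅w', g⁆ * w = w * ⁅w', g⁆) : ⁅w * w', g⁆ = ⁅w', g⁆ * ⁅w, g⁆ := by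
  have e : ⁅w * w', g⁆ = w * ⁅w', g⁆ * w⁻¹ * ⁅w, g⁆ := by
    simp only [commutatorElement_def]; group
  rw [e, ← h]; group

theorem comm_conj {x w g : G} : ⁅x * w * x⁻¹, g⁆ = x * ⁅w, x⁻¹ * g * x⁆ * x⁻¹ := by
  simp only [commutatorElement_def]; group

theorem comm_eq_one {w g : G} : ⁅w, g⁆ = 1 ↔ g * w = w * g := by
  rw [commutatorElement_eq_one_iff_mul_comm]
  exact eq_comm

theorem isEl_zc (Q : Subgroup G) : IsElementaryAbelian 2 (ZN.zc Q) := by
  refine ⟨⟨⟨fun x y => ?_⟩⟩, fun a ha => (mem_zc.1 ha).2.1⟩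
  exact Subtype.ext ((mem_zc.1 y.2).2.2 x (mem_zc.1 x.2).1)

variable {ι : Type*}

/-- the product of the other blocks -/
def Vc (W : ι → Subgroup G) (c : ι) : Subgroup G := ⨆ d : {d // d ≠ c}, W d

theorem le_Vc {W : ι → Subgroup G} {c d : ι} (h : d ≠ c) : W d ≤ Vc W c :=
  le_iSup (fun d : {d // d ≠ c} => W d) ⟨d, h⟩

/-- **The input.** -/
structure PIn (B Q V O ZJ : Subgroup G) (side : ι → Fin 2) (W Z A : ι → Subgroup G) (N : Fin 2 → Subgroup G) :
    Prop where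
  /-- the module `V = ∏ W b` -/
  el : IsElementaryAbelian 2 V
  WV : ∀ b, W b ≤ V
  sup : V ≤ ⨆ b, W b
  dis : ∀ b, W b ⊓ Vc W b = ⊥
  ZW : ∀ b, Z b ≤ W b
  Zne : ∀ b, Z b ≠ ⊥
  ZJ_eq : ZJ = ⨆ b, Z b
  card : ∀ b, (Z b).relIndex (W b) = Nat.card (Z b)
  VB : V ≤ B
  VO : V ≤ O
  Q_eq : Q = B ⊓ centralizer (V : Set G)
  /-- `B` acts on `W b` through the root group with centre `Z b` -/
  root : ∀ b, ∀ g ∈ B, ∀ w ∈ W b, ⁅w, g⁆ ∈ Z b
  BZ : ∀ b, B ≤ centralizer (Z b : Set G)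
  fullg : ∀ b, ∀ g ∈ B, g ∉ centralizer (W b : Set G) → ∀ z ∈ Z b, ∃ w ∈ W b, ⁅w, g⁆ = z
  fixg : ∀ b, ∀ g ∈ B, g ∉ centralizer (W b : Set G) → ∀ w ∈ W b, g * w = w * g → w ∈ Z b
  /-- the groups `A b` -/
  AB : ∀ b, A b ≤ B
  AO : ∀ b, A b ∈ AA O
  AC : ∀ b c, c ≠ b → A b ≤ centralizer (W c : Set G)
  fullw : ∀ b, ∀ w ∈ W b, w ∉ Z b → ∀ z ∈ Z b, ∃ a ∈ A b, ⁅w, a⁆ = z
  gen : B ≤ Q ⊔ ⨆ b, A b
  /-- `Ω₁(C_O(B)) ≤ ZJ` -/
  zO : ∀ n ∈ O, n ^ 2 = 1 → (∀ g ∈ B, g * n = n * g) → n ∈ ZJ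
  /-- the normal closures `N 0`, `N 1` -/
  Nel : ∀ i, IsElementaryAbelian 2 (N i)
  NO : ∀ i, N i ≤ O
  WN : ∀ b, W b ≤ N (side b)
  BN : ∀ i, B ≤ normalizer (N i : Set G)
  /-- an element of the block group moving `Z c` -/
  ll : ∀ c, ∃ l : G, l ∈ normalizer (Q : Set G) ∧ l ∈ normalizer (W c : Set G) ∧ (∀ v ∈ Vc W c, l * v = v * l) ∧
    Z c ⊓ cj l (Z c) = ⊥ ∧ l ∈ normalizer (N (side c) : Set G)

namespace PIn

variable {B Q V O ZJ : Subgroup G} {side : ι → Fin 2} {W Z A : ι → Subgroup G} {N : Fin 2 → Subgroup G}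
  (h : PIn B Q V O ZJ side W Z A N)
include h

theorem ZV (b : ι) : Z b ≤ V := (h.ZW b).trans (h.WV b)

theorem ZJV : ZJ ≤ V := by
  rw [h.ZJ_eq]
  exact iSup_le h.ZV

theorem VcV (c : ι) : Vc W c ≤ V := iSup_le fun d => h.WV d

theorem V_comm {v v' : G} (hv : v ∈ V) (hv' : v' ∈ V) : v * v' = v' * v :=
  (mem_centralizer_iff.1 (le_cent h.el hv) v' hv').symm

theorem QB : Q ≤ B := by rw [h.Q_eq]; exact inf_le_left

theorem QV : Q ≤ centralizer (V : Set G) := by rw [h.Q_eq]; exact inf_le_right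

theorem V_split (c : ι) : V ≤ W c ⊔ Vc W c := by
  refine h.sup.trans (iSup_le fun d => ?_)
  by_cases hd : d = c
  · rw [hd]; exact le_sup_left
  · exact (le_Vc hd).trans le_sup_right

theorem W_le_N_Vc (c : ι) : W c ≤ normalizer (Vc W c : Set G) :=
  ((h.WV c).trans ((le_cent h.el).trans (centralizer_le (h.VcV c)))).trans (centralizer_le_normalizer _)

theorem split {v : G} (hv : v ∈ V) (c : ι) : ∃ w ∈ W c, ∃ u ∈ Vc W c, v = w * u := by
  have h1 : v ∈ ((W c ⊔ Vc W c : Subgroup G) : Set G) := h.V_split c hv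
  rw [coe_mul_of_left_le_normalizer_right _ _ (h.W_le_N_Vc c)] at h1
  obtain ⟨w, hw, u, hu, e⟩ := Set.mem_mul.mp h1
  exact ⟨w, hw, u, hu, e.symm⟩

theorem split_ZJ {v : G} (hv : v ∈ ZJ) (c : ι) : ∃ w ∈ Z c, ∃ u ∈ Vc W c, v = w * u := by
  have h0 : ZJ ≤ Z c ⊔ Vc W c := by
    rw [h.ZJ_eq]
    refine iSup_le fun d => ?_
    by_cases hd : d = c
    · rw [hd]; exact le_sup_left
    · exact ((h.ZW d).trans (le_Vc hd)).trans le_sup_right
  have h1 : v ∈ ((Z c ⊔ Vc W c : Subgroup G) : Set G) := h0 hv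
  rw [coe_mul_of_left_le_normalizer_right _ _ ((h.ZW c).trans (h.W_le_N_Vc c))] at h1
  obtain ⟨w, hw, u, hu, e⟩ := Set.mem_mul.mp h1
  exact ⟨w, hw, u, hu, e.symm⟩

theorem eq_one_of {c : ι} {v : G} (h1 : v ∈ W c) (h2 : v ∈ Vc W c) : v = 1 := by
  have : v ∈ W c ⊓ Vc W c := ⟨h1, h2⟩
  rw [h.dis c] at this
  exact mem_bot.1 this

/-- independence -/
theorem eq_of_mul_eq {c : ι} {w w' u u' : G} (hw : w ∈ W c) (hw' : w' ∈ W c) (hu : u ∈ Vc W c) (hu' : u' ∈ Vc W c)
    (e : w * u = w' * u') : w = w' ∧ u = u' := by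
  have h1 : w'⁻¹ * w = u' * u⁻¹ := by
    rw [inv_mul_eq_iff_eq_mul, ← mul_assoc, ← e]; group
  have h2 : w'⁻¹ * w = 1 := h.eq_one_of (mul_mem (inv_mem hw') hw) (by rw [h1]; exact mul_mem hu' (inv_mem hu))
  have h3 : w = w' := by rw [inv_mul_eq_one] at h2; exact h2.symm
  refine ⟨h3, ?_⟩
  rw [h3] at e
  exact mul_left_cancel e

theorem A_Vc {c : ι} : A c ≤ centralizer (Vc W c : Set G) :=
  cent_symm (iSup_le fun d => cent_symm (h.AC c d d.2))

theorem Z_ne_W [Finite G] (b : ι) : ∃ w ∈ W b, w ∉ Z b := by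
  by_contra hc
  push Not at hc
  have h1 : (Z b).relIndex (W b) = 1 := relIndex_eq_one.2 hc
  rw [h.card b] at h1
  exact h.Zne b (card_eq_one.1 h1)

theorem exists_Z_ne (b : ι) : ∃ z ∈ Z b, z ≠ 1 := by
  by_contra hc
  push Not at hc
  exact h.Zne b ((eq_bot_iff_forall _).2 hc)

theorem not_cent {b : ι} {w : G} (hw : w ∈ W b) (hwZ : w ∉ Z b) : ∃ a ∈ A b, a * w ≠ w * a := by
  obtain ⟨z, hz, hz1⟩ := h.exists_Z_ne b
  obtain ⟨a, ha, e⟩ := h.fullw b w hw hwZ z hz
  exact ⟨a, ha, fun hc => hz1 (by rw [← e]; exact comm_eq_one.2 hc)⟩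

/-- `g ∈ A c` centralises some `w ∈ W c \ Z c`: `g` centralises `V` -/
theorem cent_V_of {c : ι} {w a : G} (hw : w ∈ W c) (hwZ : w ∉ Z c) (ha : a ∈ A c) (hc : a * w = w * a) :
    a ∈ centralizer (V : Set G) := by
  have h1 : a ∈ centralizer (W c : Set G) := by
    by_contra h2
    exact hwZ (h.fixg c a (h.AB c ha) h2 w hw hc)
  have h3 : V ≤ centralizer ({a} : Set G) := by
    refine (h.V_split c).trans (sup_le ?_ ?_)
    · intro v hv
      rw [mem_centralizer_singleton_iff]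
      exact mem_centralizer_iff.1 h1 v hv
    · intro v hv
      rw [mem_centralizer_singleton_iff]
      exact mem_centralizer_iff.1 (h.A_Vc ha) v hv
  rw [mem_centralizer_iff]
  intro v hv
  exact mem_centralizer_singleton_iff.1 (h3 hv)

variable [Finite G]

/-- `|A c : C_{A c}(V)| = |Z c|` -/
theorem idxA (c : ι) : (centralizer (V : Set G)).relIndex (A c) = Nat.card (Z c) := by
  obtain ⟨w, hw, hwZ⟩ := h.Z_ne_W c
  have e : (centralizer (V : Set G)).relIndex (A c) = (centralizer ({w} : Set G)).relIndex (A c) := by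
    rw [← inf_relIndex_right, ← inf_relIndex_right (centralizer ({w} : Set G))]
    congr 1
    apply le_antisymm
    · exact inf_le_inf_right _ (centralizer_le (Set.singleton_subset_iff.2 (h.WV c hw)))
    · rintro a ⟨h1, h2⟩
      exact ⟨h.cent_V_of hw hwZ h2 (mem_centralizer_singleton_iff.1 h1), h2⟩
  rw [e]
  exact le_antisymm (relIndex_cent_le fun a ha => h.root c a (h.AB c ha) w hw) (le_relIndex_cent (h.fullw c w hw hwZ))

/-- `|W c : C_{W c}(A c)| = |Z c|` -/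
theorem idxW (c : ι) : (centralizer (A c : Set G)).relIndex (W c) = Nat.card (Z c) := by
  rw [← h.card c, ← inf_relIndex_right, ← inf_relIndex_right (Z c)]
  congr 1
  apply le_antisymm
  · rintro w ⟨h1, h2⟩
    refine ⟨?_, h2⟩
    by_contra hwZ
    obtain ⟨a, ha, hn⟩ := h.not_cent h2 hwZ
    exact hn (mem_centralizer_iff.1 h1 a ha)
  · rintro w ⟨h1, h2⟩
    refine ⟨?_, h2⟩
    show w ∈ centralizer (A c : Set G)
    rw [mem_centralizer_iff]
    intro a ha
    exact (mem_centralizer_iff.1 (h.BZ c (h.AB c ha)) w h1).symm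

/-- `|V : C_V(A c)| = |Z c|` -/
theorem idxV (c : ι) : (centralizer (A c : Set G)).relIndex V = Nat.card (Z c) := by
  rw [relIndex_eq_of_le_sup (le_cent h.el) (h.WV c), h.idxW c]
  refine (h.V_split c).trans (sup_le le_sup_left ?_)
  exact le_sup_of_le_right (le_inf (h.VcV c) (cent_symm h.A_Vc))

theorem conj_B {x : G} (hx : x ∈ normalizer (B : Set G)) {g : G} (hg : g ∈ B) : x⁻¹ * g * x ∈ B := by
  have := (mem_normalizer_iff.1 (inv_mem hx) g).1 hg
  rwa [inv_inv] at this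

/-- `B` acts on `W bˣ` through the root group with centre `Z bˣ` -/
theorem root_cj {x : G} (hx : x ∈ normalizer (B : Set G)) (b : ι) {g w : G} (hg : g ∈ B) (hw : w ∈ cj x (W b)) :
    ⁅w, g⁆ ∈ cj x (Z b) := by
  obtain ⟨v, hv, rfl⟩ := hw
  refine ⟨⁅v, x⁻¹ * g * x⁆, h.root b _ (h.conj_B hx hg) v hv, ?_⟩
  exact comm_conj.symm

theorem moves_cj {x : G} {b : ι} {g w : G} (hw : w ∈ cj x (W b)) (hc : g * w ≠ w * g) :
    x⁻¹ * g * x ∉ centralizer (W b : Set G) := by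
  intro h1
  apply hc
  have h2 := mem_centralizer_iff.1 h1 _ (mem_cj.1 hw)
  calc g * w = x * (x⁻¹ * g * x * (x⁻¹ * w * x)) * x⁻¹ := by group
    _ = x * (x⁻¹ * w * x * (x⁻¹ * g * x)) * x⁻¹ := by rw [h2]
    _ = w * g := by group

theorem fullg_cj {x : G} (hx : x ∈ normalizer (B : Set G)) {b : ι} {g w : G} (hg : g ∈ B) (hw : w ∈ cj x (W b))
    (hc : g * w ≠ w * g) {z : G} (hz : z ∈ cj x (Z b)) : ∃ v ∈ cj x (W b), ⁅v, g⁆ = z := by
  obtain ⟨z, hz, rfl⟩ := hz
  obtain ⟨v, hv, e⟩ := h.fullg b _ (h.conj_B hx hg) (h.moves_cj hw hc) z hz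
  refine ⟨x * v * x⁻¹, ⟨v, hv, rfl⟩, ?_⟩
  rw [comm_conj, e]
  rfl

theorem fixg_cj {x : G} (hx : x ∈ normalizer (B : Set G)) {b : ι} {g w v : G} (hg : g ∈ B) (hw : w ∈ cj x (W b))
    (hc : g * w ≠ w * g) (hv : v ∈ cj x (W b)) (hv' : g * v = v * g) : v ∈ cj x (Z b) := by
  rw [mem_cj]
  refine h.fixg b _ (h.conj_B hx hg) (h.moves_cj hw hc) _ (mem_cj.1 hv) ?_
  calc x⁻¹ * g * x * (x⁻¹ * v * x) = x⁻¹ * (g * v) * x := by group
    _ = x⁻¹ * (v * g) * x := by rw [hv']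
    _ = _ := by group

theorem card_cj_Z (x : G) (b : ι) : (cj x (Z b)).relIndex (cj x (W b)) = Nat.card (Z b) := by
  rw [← h.card b]
  exact relIndex_map_map_of_injective _ _ (MulAut.conj x).injective

/-- `C_V(B) ≤`: an element of `V` centralised by all `A c` is centralised by `B` -/
theorem exists_A {n : G} (hn : n ∈ V) (hB : ¬ B ≤ centralizer ({n} : Set G)) : ∃ c, ∃ a ∈ A c, a * n ≠ n * a := by
  by_contra hc
  push Not at hc
  apply hB
  refine h.gen.trans (sup_le (fun q hq => ?_) (iSup_le fun c a ha => ?_))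
  · rw [mem_centralizer_singleton_iff]
    exact (mem_centralizer_iff.1 (h.QV hq) n hn).symm
  · rw [mem_centralizer_singleton_iff]
    exact hc c a ha

/-- **(2)** -/
theorem two {x : G} (hx : x ∈ normalizer (B : Set G)) {b : ι} (hV : cj x (W b) ≤ V) : ∃ c, cj x (Z b) = Z c := by
  obtain ⟨w, hw, hwZ⟩ := h.Z_ne_W b
  set n := x * w * x⁻¹ with hn
  have hnW : n ∈ cj x (W b) := ⟨w, hw, rfl⟩
  have hnB : ¬ B ≤ centralizer ({n} : Set G) := by
    intro hc
    obtain ⟨a, ha, hna⟩ := h.not_cent hw hwZ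
    apply hna
    have h1 := mem_centralizer_singleton_iff.1 (hc ((mem_normalizer_iff.1 hx a).1 (h.AB b ha)))
    calc a * w = x⁻¹ * (x * a * x⁻¹ * n) * x := by rw [hn]; group
      _ = x⁻¹ * (n * (x * a * x⁻¹)) * x := by rw [h1]
      _ = w * a := by rw [hn]; group
  obtain ⟨c, a, ha, hna⟩ := h.exists_A (hV hnW) hnB
  refine ⟨c, ?_⟩
  have haB := h.AB c ha
  -- `Z c ≤ Z bˣ`
  have hle : Z c ≤ cj x (Z b) := by
    obtain ⟨v, hv, u, hu, e⟩ := h.split (hV hnW) c
    have hvZ : v ∉ Z c := by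
      intro hvZ
      apply hna
      have h1 := mem_centralizer_iff.1 (h.BZ c haB) v hvZ
      have h2 := mem_centralizer_iff.1 (h.A_Vc ha) u hu
      rw [e]
      calc a * (v * u) = a * v * u := by group
        _ = v * (a * u) := by rw [← h1]; group
        _ = v * u * a := by rw [← h2]; group
    intro z hz
    obtain ⟨a', ha', e'⟩ := h.fullw c v hv hvZ z hz
    have h2 := mem_centralizer_iff.1 (h.A_Vc ha') u hu
    have h3 : ⁅u, a'⁆ = 1 := comm_eq_one.2 h2.symm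
    have h4 : ⁅n, a'⁆ = z := by
      rw [e, comm_mul_left (by rw [h3]; group), h3, e']
      group
    rw [← h4]
    exact h.root_cj hx b (h.AB c ha') hnW
  symm
  apply Subgroup.eq_of_le_of_card_ge hle
  rw [card_cj]
  -- `|Z b| ≤ |W bˣ : C(A c)| ≤ |V : C(A c)| = |Z c|`
  have h5 : Nat.card (Z b) ≤ (centralizer (A c : Set G)).relIndex (cj x (W b)) := by
    rw [← h.card_cj_Z x b, ← inf_relIndex_right (centralizer (A c : Set G))]
    refine relIndex_le_of_le_left ?_ index_ne_zero_of_finite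
    rintro v ⟨h1, h2⟩
    exact h.fixg_cj hx haB hnW hna h2 (mem_centralizer_iff.1 h1 a ha)
  have h6 : (centralizer (A c : Set G)).relIndex (cj x (W b)) ≤ (centralizer (A c : Set G)).relIndex V :=
    relIndex_le_of_le_right hV index_ne_zero_of_finite
  rw [h.idxV c] at h6
  exact h5.trans h6

/-- **(1)** -/
theorem one {x : G} (hx : x ∈ normalizer (B : Set G)) {b : ι} (hV : ¬ cj x (W b) ≤ centralizer (V : Set G)) :
    ∃ c, cj x (Z b) = Z c := by
  have hWB : cj x (W b) ≤ B := by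
    have := cj_mono x ((h.WV b).trans h.VB)
    rwa [cj_eq_of_mem_normalizer hx] at this
  have h1 : ∃ c, ¬ cj x (W b) ≤ centralizer (W c : Set G) := by
    by_contra hc
    push Not at hc
    apply hV
    exact cent_symm (h.sup.trans (iSup_le fun c => cent_symm (hc c)))
  obtain ⟨c, hc⟩ := h1
  obtain ⟨w, hw, hwc⟩ := SetLike.not_le_iff_exists.1 hc
  have h2 : ∃ v ∈ W c, v * w ≠ w * v := by
    by_contra hcon
    push Not at hcon
    exact hwc (mem_centralizer_iff.2 hcon)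
  obtain ⟨v, hv, hvw⟩ := h2
  refine ⟨c, le_antisymm ?_ ?_⟩
  · -- `Z bˣ = [W bˣ, v] ≤ Z c`
    intro z hz
    have hvB : v ∈ B := h.VB (h.WV c hv)
    obtain ⟨w', hw', e⟩ := h.fullg_cj hx hvB hw hvw hz
    have h3 := h.root c w' (hWB hw') v hv
    rw [← e, ← commutatorElement_inv]
    exact inv_mem h3
  · -- `Z c = [W c, w] ≤ Z bˣ`
    intro z hz
    obtain ⟨v', hv', e⟩ := h.fullg c w (hWB hw) hwc z hz
    have h3 := h.root_cj hx b (h.VB (h.WV c hv')) hw
    rw [← e, ← commutatorElement_inv]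
    exact inv_mem h3

theorem VQ : V ≤ Q := by
  rw [h.Q_eq]
  exact le_inf h.VB (le_cent h.el)

theorem A_inf_le_Q (c : ι) : A c ⊓ centralizer (V : Set G) ≤ Q := by
  rw [h.Q_eq]
  exact inf_le_inf_right _ (h.AB c)

theorem A_inf_W (c : ι) : A c ⊓ centralizer (W c : Set G) ≤ A c ⊓ centralizer (V : Set G) := by
  rintro a ⟨h1, h2⟩
  obtain ⟨w, hw, hwZ⟩ := h.Z_ne_W c
  exact ⟨h1, h.cent_V_of hw hwZ h1 (mem_centralizer_iff.1 h2 w hw).symm⟩

theorem exactW (c : ι) : (centralizer (W c : Set G)).relIndex (A c) = (centralizer (A c : Set G)).relIndex (W c) := by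
  rw [h.idxW c, ← h.idxA c, ← inf_relIndex_right, ← inf_relIndex_right (centralizer (V : Set G))]
  congr 1
  apply le_antisymm
  · rw [inf_comm, inf_comm (centralizer (V : Set G))]
    exact h.A_inf_W c
  · exact inf_le_inf_right _ (centralizer_le (h.WV c))

/-- **(3)** -/
theorem three [Finite ι] {n : G} (hnO : n ∈ O) (hnQ : n ∈ Q) (hn2 : n ^ 2 = 1) (hc : ∀ g ∈ Q, g * n = n * g) : n ∈ V := by
  classical
  have := Fintype.ofFinite ι
  set E := ZN.zc Q ⊓ O with hE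
  have hEel : IsElementaryAbelian 2 E := el_mono (isEl_zc Q) inf_le_left
  have hEc := le_cent hEel
  have hEO : E ≤ O := inf_le_right
  have hQE : Q ≤ centralizer (E : Set G) := fun q hq => mem_centralizer_iff.2 fun e he =>
    ((mem_zc.1 he.1).2.2 q hq).symm
  have hVE : V ≤ E := fun v hv => ⟨mem_zc.2 ⟨h.VQ hv, h.el.2 v hv, fun q hq =>
    (mem_centralizer_iff.1 (h.QV hq) v hv).symm⟩, h.VO hv⟩
  have hnE : n ∈ E := ⟨mem_zc.2 ⟨hnQ, hn2, hc⟩, hnO⟩
  have hsp : ∀ c, E ≤ W c ⊔ (E ⊓ centralizer (A c : Set G)) := fun c =>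
    le_sup_of_exact (h.AO c) hEel hEO ((h.WV c).trans hVE) (h.exactW c)
      ((h.A_inf_W c).trans ((h.A_inf_le_Q c).trans hQE))
  have key : ∀ s : Finset ι, ∃ v ∈ V, ∀ c ∈ s, ∀ a ∈ A c, a * (n * v) = n * v * a := by
    intro s
    induction s using Finset.induction_on with
    | empty => exact ⟨1, one_mem _, fun c hc => absurd hc (Finset.notMem_empty c)⟩
    | insert d s hd ih =>
      obtain ⟨v, hv, hs⟩ := ih
      have hnv : n * v ∈ E := mul_mem hnE (hVE hv)
      have h1 : n * v ∈ ((W d ⊔ (E ⊓ centralizer (A d : Set G)) : Subgroup G) : Set G) := hsp d hnv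
      rw [coe_mul_of_left_le_normalizer_right _ _ ((((h.WV d).trans hVE).trans (hEc.trans
        (centralizer_le inf_le_left))).trans (centralizer_le_normalizer _))] at h1
      obtain ⟨w, hw, c', hc', e⟩ := Set.mem_mul.mp h1
      refine ⟨v * w⁻¹, mul_mem hv (inv_mem (h.WV d hw)), ?_⟩
      have e1 : n * (v * w⁻¹) = c' := by
        have h2 := mem_centralizer_iff.1 (hEc hc'.1) w (hVE (h.WV d hw))
        rw [← mul_assoc, ← e, h2]; group
      intro c hcs a ha
      rcases Finset.mem_insert.1 hcs with rfl | hcs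
      · rw [e1]
        exact mem_centralizer_iff.1 hc'.2 a ha
      · have hdc : d ≠ c := fun e => hd (e ▸ hcs)
        have h3 := hs c hcs a ha
        have h4 := mem_centralizer_iff.1 (h.AC c d hdc ha) w⁻¹ (inv_mem hw)
        calc a * (n * (v * w⁻¹)) = a * (n * v) * w⁻¹ := by group
          _ = n * v * (a * w⁻¹) := by rw [h3]; group
          _ = n * v * (w⁻¹ * a) := by rw [h4]
          _ = _ := by group
  obtain ⟨v, hv, hall⟩ := key Finset.univ
  have hnv : n * v ∈ E := mul_mem hnE (hVE hv)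
  have hB : B ≤ centralizer ({n * v} : Set G) := by
    refine h.gen.trans (sup_le (fun q hq => ?_) (iSup_le fun c a ha => ?_))
    · rw [mem_centralizer_singleton_iff]
      exact (mem_centralizer_iff.1 (hQE hq) _ hnv).symm
    · rw [mem_centralizer_singleton_iff]
      exact hall c (Finset.mem_univ c) a ha
  have h5 : n * v ∈ ZJ := h.zO _ hnv.2 (hEel.2 _ hnv) fun g hg => mem_centralizer_singleton_iff.1 (hB hg)
  have h6 := mul_mem (h.ZJV h5) (inv_mem hv)
  have e : n * v * v⁻¹ = n := by group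
  rwa [e] at h6

/-! ### `(4)` -/

section l

variable {x l : G} (hx : x ∈ normalizer (B : Set G)) (hl : l ∈ normalizer (Q : Set G)) {b : ι}
include hx hl

omit hx in
theorem conj_Q {g : G} (hg : g ∈ Q) : l⁻¹ * g * l ∈ Q := by
  have := (mem_normalizer_iff.1 (inv_mem hl) g).1 hg
  rwa [inv_inv] at this

theorem root_l {g w : G} (hg : g ∈ Q) (hw : w ∈ cj l (cj x (W b))) : ⁅w, g⁆ ∈ cj l (cj x (Z b)) := by
  obtain ⟨v, hv, rfl⟩ := hw
  exact ⟨⁅v, l⁻¹ * g * l⁆, h.root_cj hx b (h.QB (h.conj_Q hl hg)) hv, comm_conj.symm⟩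

omit hx hl in
theorem moves_l {g w : G} (hc : g * w ≠ w * g) : (l⁻¹ * g * l) * (l⁻¹ * w * l) ≠ (l⁻¹ * w * l) * (l⁻¹ * g * l) := by
  intro e
  apply hc
  calc g * w = l * ((l⁻¹ * g * l) * (l⁻¹ * w * l)) * l⁻¹ := by group
    _ = l * ((l⁻¹ * w * l) * (l⁻¹ * g * l)) * l⁻¹ := by rw [e]
    _ = w * g := by group

theorem full_l {g w : G} (hg : g ∈ Q) (hw : w ∈ cj l (cj x (W b))) (hc : g * w ≠ w * g) {z : G}
    (hz : z ∈ cj l (cj x (Z b))) : ∃ v ∈ cj l (cj x (W b)), ⁅v, g⁆ = z := by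
  obtain ⟨z, hz, rfl⟩ := hz
  obtain ⟨v, hv, e⟩ := h.fullg_cj hx (h.QB (h.conj_Q hl hg)) (mem_cj.1 hw) (h.moves_l hc) hz
  refine ⟨l * v * l⁻¹, ⟨v, hv, rfl⟩, ?_⟩
  rw [comm_conj, e]
  rfl

theorem fix_l {g w v : G} (hg : g ∈ Q) (hw : w ∈ cj l (cj x (W b))) (hc : g * w ≠ w * g)
    (hv : v ∈ cj l (cj x (W b))) (hv' : g * v = v * g) : v ∈ cj l (cj x (Z b)) := by
  rw [mem_cj]
  refine h.fixg_cj hx (h.QB (h.conj_Q hl hg)) (mem_cj.1 hw) (h.moves_l hc) (mem_cj.1 hv) ?_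
  calc l⁻¹ * g * l * (l⁻¹ * v * l) = l⁻¹ * (g * v) * l := by group
    _ = l⁻¹ * (v * g) * l := by rw [hv']
    _ = _ := by group

/-- `Q` centralises `Z bˣˡ` -/
theorem Z_l {g z : G} (hg : g ∈ Q) (hz : z ∈ cj l (cj x (Z b))) : g * z = z * g := by
  have h1 : x⁻¹ * (l⁻¹ * g * l) * x ∈ B := h.conj_B hx (h.QB (h.conj_Q hl hg))
  have h2 := mem_centralizer_iff.1 (h.BZ b h1) _ (mem_cj.1 (mem_cj.1 hz))
  calc g * z = l * (x * (x⁻¹ * (l⁻¹ * g * l) * x * (x⁻¹ * (l⁻¹ * z * l) * x)) * x⁻¹) * l⁻¹ := by group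
    _ = l * (x * (x⁻¹ * (l⁻¹ * z * l) * x * (x⁻¹ * (l⁻¹ * g * l) * x)) * x⁻¹) * l⁻¹ := by rw [h2]
    _ = z * g := by group

theorem card_l :
    (cj l (cj x (Z b))).relIndex (cj l (cj x (W b))) = Nat.card (Z b) := by
  rw [← h.card_cj_Z x b]
  exact relIndex_map_map_of_injective _ _ (MulAut.conj l).injective

end l

/-- `[V, A c] ≤ Z c` -/
theorem comm_V_A {c : ι} {v a : G} (hv : v ∈ V) (ha : a ∈ A c) : ⁅v, a⁆ ∈ Z c := by
  obtain ⟨w, hw, u, hu, e⟩ := h.split hv c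
  have h3 : ⁅u, a⁆ = 1 := comm_eq_one.2 (mem_centralizer_iff.1 (h.A_Vc ha) u hu).symm
  rw [e, comm_mul_left (by rw [h3]; group), h3, one_mul]
  exact h.root c a (h.AB c ha) w hw

/-- **(4)** -/
theorem four [Finite ι] {x : G} (hx : x ∈ normalizer (B : Set G)) {b c : ι} (hs : side c = side b)
    (hxN : x ∈ normalizer (N (side b) : Set G)) (hQ : cj x (W b) ≤ centralizer (V : Set G)) (hZ : cj x (Z b) ≤ ZJ)
    (hp : ¬ cj x (Z b) ≤ Vc W c) : cj x (W b) ≤ V := by
  obtain ⟨l, hlQ, hlW, hlV, hlZ, hlN⟩ := h.ll c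
  rw [hs] at hlN
  set i := side b with hi
  have hWB : cj x (W b) ≤ B := by
    have := cj_mono x ((h.WV b).trans h.VB)
    rwa [cj_eq_of_mem_normalizer hx] at this
  have hWQ : cj x (W b) ≤ Q := by
    rw [h.Q_eq]
    exact le_inf hWB hQ
  have hWN : cj x (W b) ≤ N i := by
    have := cj_mono x (h.WN b)
    rwa [cj_eq_of_mem_normalizer hxN] at this
  set W₁ := cj l (cj x (W b)) with hW₁
  set Z₁ := cj l (cj x (Z b)) with hZ₁
  have hW₁Q : W₁ ≤ Q := by
    have := cj_mono l hWQ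
    rwa [cj_eq_of_mem_normalizer hlQ] at this
  have hW₁N : W₁ ≤ N i := by
    have := cj_mono l hWN
    rwa [cj_eq_of_mem_normalizer hlN] at this
  have hNc := le_cent (h.Nel i)
  have hW₁el : IsElementaryAbelian 2 W₁ := el_mono (h.Nel i) hW₁N
  set A₀ := A c ⊓ centralizer (V : Set G) with hA₀
  have hA₀Q : A₀ ≤ Q := h.A_inf_le_Q c
  -- `a ∈ A c` moving `V`
  obtain ⟨w₀, hw₀, hw₀Z⟩ := h.Z_ne_W c
  obtain ⟨a, ha, hna⟩ := h.not_cent hw₀ hw₀Z
  have haV : a ∉ centralizer (V : Set G) := fun hc => hna (mem_centralizer_iff.1 hc w₀ (h.WV c hw₀)).symm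
  have haB := h.AB c ha
  have hAab := le_cent (h.AO c).1
  -- the element `z`, `ζ = l z l⁻¹ = s u`
  obtain ⟨z, hz, hzV⟩ := SetLike.not_le_iff_exists.1 hp
  obtain ⟨zc, hzc, u, hu, ez⟩ := h.split_ZJ (hZ hz) c
  have hzc1 : zc ≠ 1 := by
    rintro rfl
    rw [one_mul] at ez
    exact hzV (ez ▸ hu)
  set s := l * zc * l⁻¹ with hs'
  have hsW : s ∈ W c := (mem_normalizer_iff.1 hlW zc).1 (h.ZW c hzc)
  have hsZ : s ∈ cj l (Z c) := ⟨zc, hzc, rfl⟩
  have hs1 : s ≠ 1 := by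
    intro e
    apply hzc1
    have : zc = l⁻¹ * s * l := by rw [hs']; group
    rw [this, e]; group
  have hconj : ∀ {p q : G}, q ∈ Vc W c → l * (p * q) * l⁻¹ = l * p * l⁻¹ * q := by
    intro p q hq
    calc l * (p * q) * l⁻¹ = l * p * l⁻¹ * (l * q) * l⁻¹ := by group
      _ = l * p * l⁻¹ * (q * l) * l⁻¹ := by rw [hlV q hq]
      _ = _ := by group
  have hζ : l * z * l⁻¹ = s * u := by rw [ez, hconj hu]
  have hζZ : s * u ∈ Z₁ := hζ ▸ ⟨z, hz, rfl⟩
  -- an element of `cj l (Z c) ∩ W c` commuting with `a` is trivial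
  have htriv : ∀ s' ∈ cj l (Z c), s' ∈ W c → a * s' = s' * a → s' = 1 := by
    intro s' h1 h2 h3
    by_cases h4 : s' ∈ Z c
    · have : s' ∈ Z c ⊓ cj l (Z c) := ⟨h4, h1⟩
      rw [hlZ] at this
      exact mem_bot.1 this
    · exact absurd (h.cent_V_of h2 h4 ha h3) haV
  have hmemZ₁ : ∀ t ∈ Z₁, ∃ s' ∈ cj l (Z c), s' ∈ W c ∧ ∃ u' ∈ Vc W c, t = s' * u' := by
    rintro _ ⟨z', hz', rfl⟩
    obtain ⟨zc', hzc', u', hu', ez'⟩ := h.split_ZJ (hZ hz') c
    refine ⟨l * zc' * l⁻¹, ⟨zc', hzc', rfl⟩, (mem_normalizer_iff.1 hlW zc').1 (h.ZW c hzc'), u', hu', ?_⟩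
    show l * z' * l⁻¹ = _
    rw [ez', hconj hu']
  have ha_s : a * s * a⁻¹ ∈ W c := by
    have h1 := h.root c a haB s hsW
    have e : a * s * a⁻¹ = (⁅s, a⁆)⁻¹ * s := by simp only [commutatorElement_def]; group
    rw [e]
    exact mul_mem (inv_mem (h.ZW c h1)) hsW
  have ha_u : a * u = u * a := (mem_centralizer_iff.1 (h.A_Vc ha) u hu).symm
  have haV' : ∀ v ∈ V, a * v * a⁻¹ ∈ V := by
    intro v hv
    have e : a * v * a⁻¹ = (⁅v, a⁆)⁻¹ * v := by simp only [commutatorElement_def]; group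
    rw [e]
    exact mul_mem (inv_mem (h.ZV c (h.comm_V_A hv ha))) hv
  have haQ : a ∈ normalizer (Q : Set G) := by
    have hV' : a ∈ normalizer (V : Set G) := by
      rw [mem_normalizer_iff_cj]
      refine Subgroup.eq_of_le_of_card_ge ?_ (by rw [card_cj])
      rintro _ ⟨v, hv, rfl⟩
      exact haV' v hv
    rw [mem_normalizer_iff_cj, h.Q_eq, cj_inf, cj_centralizer, cj_eq_of_mem_normalizer hV',
      cj_eq_of_mem_normalizer (le_normalizer haB)]
  by_cases hcase : A₀ ≤ centralizer (W₁ : Set G)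
  · -- **(b)**
    have hE₀ := (rank_cent (h.AO c) h.el h.VO ((h.idxA c).trans (h.idxV c).symm).le).1
    rw [← hA₀] at hE₀
    have hWE : W₁ ≤ A₀ ⊔ V := by
      have hc1 : A₀ ⊔ V ≤ centralizer (W₁ : Set G) := sup_le hcase (cent_symm (hW₁Q.trans h.QV))
      have h1 := hE₀.2.2 (A₀ ⊔ V ⊔ W₁) (PLocal.ElemAbSup.isElementaryAbelian_sup hE₀.1 hW₁el (cent_symm hc1))
        (sup_le hE₀.2.1 (hW₁N.trans (h.NO i)))
      rw [Subgroup.eq_of_le_of_card_ge le_sup_left h1]
      exact le_sup_right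
    have hQW : ∀ g ∈ Q, ∀ y ∈ W₁, g * y = y * g := by
      intro g hg y₀ hy₀
      by_contra hne
      obtain ⟨y, hy, ey⟩ := h.full_l hx hlQ hg hy₀ hne hζZ
      have h1 : y ∈ ((A₀ ⊔ V : Subgroup G) : Set G) := hWE hy
      rw [coe_mul_of_left_le_normalizer_right _ _
        ((inf_le_right : A₀ ≤ centralizer (V : Set G)).trans (centralizer_le_normalizer _))] at h1
      obtain ⟨a₀, ha₀, v, hv, e⟩ := Set.mem_mul.mp h1
      have hk : ⁅v⁻¹, a⁆ ∈ Z c := h.comm_V_A (inv_mem hv) ha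
      have hgk : g * ⁅v⁻¹, a⁆ = ⁅v⁻¹, a⁆ * g := (mem_centralizer_iff.1 (h.QV hg) _ (h.ZV c hk)).symm
      have hk1 : ⁅⁅v⁻¹, a⁆, g⁆ = 1 := comm_eq_one.2 hgk
      have haa₀ : a * a₀ = a₀ * a := (mem_centralizer_iff.1 (hAab ha) a₀ ha₀.1).symm
      have e1 : a * y * a⁻¹ = y * ⁅v⁻¹, a⁆ := by
        rw [← e, commutatorElement_def]
        calc a * (a₀ * v) * a⁻¹ = a * a₀ * v * a⁻¹ := by group
          _ = a₀ * a * v * a⁻¹ := by rw [haa₀]
          _ = _ := by group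
      have e2 : ⁅a * y * a⁻¹, g⁆ = s * u := by
        rw [e1, comm_mul_left (by rw [hk1]; group), hk1, ey, one_mul]
      have h3 : a⁻¹ * g * a ∈ Q := by
        have := (mem_normalizer_iff.1 (inv_mem haQ) g).1 hg
        rwa [inv_inv] at this
      obtain ⟨s', hs'l, hs'W, u', hu', e3⟩ := hmemZ₁ _ (h.root_l hx hlQ h3 hy)
      rw [comm_conj, e3] at e2
      have ha_u' : a * u' = u' * a := (mem_centralizer_iff.1 (h.A_Vc ha) u' hu').symm
      have has' : a * s' * a⁻¹ ∈ W c := by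
        have h5 := h.root c a haB s' hs'W
        have e5 : a * s' * a⁻¹ = (⁅s', a⁆)⁻¹ * s' := by simp only [commutatorElement_def]; group
        rw [e5]
        exact mul_mem (inv_mem (h.ZW c h5)) hs'W
      have e4 : a * s' * a⁻¹ * u' = s * u := by
        rw [← e2]
        calc a * s' * a⁻¹ * u' = a * s' * a⁻¹ * (u' * a) * a⁻¹ := by group
          _ = a * s' * a⁻¹ * (a * u') * a⁻¹ := by rw [ha_u']
          _ = _ := by group
      have h6 := (h.eq_of_mul_eq has' hsW hu' hu e4).1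
      have h7 : s * s'⁻¹ ∈ Z c := by
        have e7 : s * s'⁻¹ = (⁅s', a⁆)⁻¹ := by rw [← h6, commutatorElement_def]; group
        rw [e7]
        exact inv_mem (h.root c a haB s' hs'W)
      have h8 : s * s'⁻¹ ∈ Z c ⊓ cj l (Z c) := mem_inf.2 ⟨h7, mul_mem hsZ (inv_mem hs'l)⟩
      rw [hlZ] at h8
      have h9 : s = s' := mul_inv_eq_one.1 (mem_bot.1 h8)
      apply hs1
      apply htriv s hsZ hsW
      rw [← h9] at h6
      calc a * s = a * s * a⁻¹ * a := by group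
        _ = s * a := by rw [h6]
    intro n hn
    refine h.three (h.NO i (hWN hn)) (hWQ hn) ((h.Nel i).2 n (hWN hn)) fun g hg => ?_
    have h1 := hQW (l * g * l⁻¹) ((mem_normalizer_iff.1 hlQ g).1 hg) (l * n * l⁻¹) ⟨n, hn, rfl⟩
    calc g * n = l⁻¹ * (l * g * l⁻¹ * (l * n * l⁻¹)) * l := by group
      _ = l⁻¹ * (l * n * l⁻¹ * (l * g * l⁻¹)) * l := by rw [h1]
      _ = n * g := by group
  · -- **(a)**
    exfalso
    obtain ⟨e, he, heW⟩ := SetLike.not_le_iff_exists.1 hcase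
    have h0 : ∃ y₀ ∈ W₁, e * y₀ ≠ y₀ * e := by
      by_contra hcon
      push Not at hcon
      exact heW (mem_centralizer_iff.2 fun y hy => (hcon y hy).symm)
    obtain ⟨y₀, hy₀, hne⟩ := h0
    have heQ := hA₀Q he
    obtain ⟨y, hy, ey⟩ := h.full_l hx hlQ heQ hy₀ hne hζZ
    have hae : a * e = e * a := (mem_centralizer_iff.1 (hAab ha) e he.1).symm
    have hW₂N : cj a W₁ ≤ N i := by
      have := cj_mono a hW₁N
      rwa [cj_eq_of_mem_normalizer (h.BN i haB)] at this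
    have hW₂Q : cj a W₁ ≤ Q := by
      have := cj_mono a hW₁Q
      rwa [cj_eq_of_mem_normalizer haQ] at this
    have haea : a⁻¹ * e * a = e := by rw [mul_assoc, ← hae]; group
    have e2 : ⁅a * y * a⁻¹, e⁆ = a * s * a⁻¹ * u := by
      rw [comm_conj, haea, ey]
      calc a * (s * u) * a⁻¹ = a * s * a⁻¹ * (a * u) * a⁻¹ := by group
        _ = a * s * a⁻¹ * (u * a) * a⁻¹ := by rw [ha_u]
        _ = _ := by group
    have hsV : s ∈ V := h.WV c hsW
    have hasV : a * s * a⁻¹ ∈ V := h.WV c ha_s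
    have huV : u ∈ V := h.VcV c hu
    have hyQ := hW₁Q hy
    have e3 : ⁅y * (a * y * a⁻¹), e⁆ = a * s * a⁻¹ * s := by
      rw [comm_mul_left (by
        rw [e2]
        exact mem_centralizer_iff.1 (h.QV hyQ) _ (mul_mem hasV huV)), e2, ey]
      have hu2 : u * u = 1 := by rw [← pow_two]; exact h.el.2 u huV
      calc a * s * a⁻¹ * u * (s * u) = a * s * a⁻¹ * (u * s) * u := by group
        _ = a * s * a⁻¹ * (s * u) * u := by rw [h.V_comm huV hsV]
        _ = a * s * a⁻¹ * s * (u * u) := by group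
        _ = _ := by rw [hu2, mul_one]
    set t := a * s * a⁻¹ * s with ht
    have hs2 : s * s = 1 := by rw [← pow_two]; exact h.el.2 s hsV
    have htZ : t ∈ Z c := by
      have e4 : t = (⁅s, a⁆)⁻¹ * (s * s) := by rw [ht, commutatorElement_def]; group
      rw [e4, hs2, mul_one]
      exact inv_mem (h.root c a haB s hsW)
    have ht1 : t ≠ 1 := by
      intro e4
      apply hs1
      apply htriv s hsZ hsW
      have h5 : a * s * a⁻¹ = s := by
        have h6 : a * s * a⁻¹ = s⁻¹ := eq_inv_of_mul_eq_one_left e4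
        rw [h6]
        exact inv_eq_of_mul_eq_one_left hs2
      calc a * s = a * s * a⁻¹ * a := by group
        _ = s * a := by rw [h5]
    have htZ₁ : t ∉ Z₁ := by
      intro h1
      obtain ⟨s', hs'l, hs'W, u', hu', e4⟩ := hmemZ₁ t h1
      have h5 := (h.eq_of_mul_eq (h.ZW c htZ) hs'W (one_mem _) hu' (by rw [mul_one]; exact e4)).1
      have h6 : t ∈ Z c ⊓ cj l (Z c) := ⟨htZ, h5 ▸ hs'l⟩
      rw [hlZ] at h6
      exact ht1 (mem_bot.1 h6)
    -- the group `X`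
    set X := W₁ ⊔ cj a W₁ ⊔ V with hX
    have hWWN : W₁ ⊔ cj a W₁ ≤ N i := sup_le hW₁N hW₂N
    have hXel : IsElementaryAbelian 2 X := PLocal.ElemAbSup.isElementaryAbelian_sup (el_mono (h.Nel i) hWWN) h.el
      (cent_symm (sup_le (hW₁Q.trans h.QV) (hW₂Q.trans h.QV)))
    have hXO : X ≤ O := sup_le (hWWN.trans (h.NO i)) h.VO
    have hXc := le_cent hXel
    have hVX : V ≤ X := le_sup_right
    have hW₁X : W₁ ≤ X := le_sup_left.trans le_sup_left
    have hr := rank_le (h.AO c) hXel hXO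
    -- right side
    set A₁ := A₀ ⊓ centralizer (W₁ : Set G) with hA₁
    have hA₁X : A₁ ≤ centralizer (X : Set G) := by
      apply cent_symm
      refine sup_le (sup_le (cent_symm inf_le_right) ?_) (cent_symm (inf_le_left.trans inf_le_right))
      rintro _ ⟨y, hy, rfl⟩
      rw [mem_centralizer_iff]
      intro g hg
      have h1 := mem_centralizer_iff.1 hg.2 y hy
      have h2 : a * g = g * a := (mem_centralizer_iff.1 (hAab ha) g hg.1.1).symm
      show g * (a * y * a⁻¹) = a * y * a⁻¹ * g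
      have h3 : g * a⁻¹ = a⁻¹ * g := by
        calc g * a⁻¹ = a⁻¹ * (a * g) * a⁻¹ := by group
          _ = a⁻¹ * (g * a) * a⁻¹ := by rw [h2]
          _ = _ := by group
      calc g * (a * y * a⁻¹) = g * a * y * a⁻¹ := by group
        _ = a * (g * y) * a⁻¹ := by rw [← h2]; group
        _ = a * y * (g * a⁻¹) := by rw [← h1]; group
        _ = _ := by rw [h3]; group
    have r1 : (centralizer (X : Set G)).relIndex (A c) ≤ A₁.relIndex (A c) :=
      relIndex_le_of_le_left hA₁X index_ne_zero_of_finite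
    have r2 := relIndex_mul_relIndex A₁ A₀ (A c) inf_le_left inf_le_left
    have r3 : A₀.relIndex (A c) = Nat.card (Z c) := by rw [hA₀, inf_relIndex_left, h.idxA c]
    have r4 : A₁.relIndex A₀ ≤ Nat.card (Z b) := by
      have h1 : A₁.relIndex A₀ ≤ (centralizer ({y₀} : Set G)).relIndex A₀ := by
        rw [← inf_relIndex_right (centralizer ({y₀} : Set G))]
        refine relIndex_le_of_le_left ?_ index_ne_zero_of_finite
        rintro g ⟨h2, h3⟩
        refine ⟨h3, mem_centralizer_iff.2 fun v hv => ?_⟩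
        by_contra hcon
        have hgy : g * y₀ = y₀ * g := mem_centralizer_singleton_iff.1 h2
        have h4 := h.fix_l hx hlQ (hA₀Q h3) hv (fun e => hcon e.symm) hy₀ hgy
        exact hne (h.Z_l hx hlQ heQ h4)
      refine h1.trans ((relIndex_cent_le (Z := Z₁) fun g hg => h.root_l hx hlQ (hA₀Q hg) hy₀).trans ?_)
      rw [hZ₁, card_cj, card_cj]
    have hR : (centralizer (X : Set G)).relIndex (A c) ≤ Nat.card (Z b) * Nat.card (Z c) := by
      refine r1.trans ?_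
      rw [← r2, r3]
      exact Nat.mul_le_mul_right _ r4
    -- left side
    set P := X ⊓ centralizer (A₀ : Set G) with hP
    set R := X ⊓ centralizer (A c : Set G) with hRdef
    have hRP : R ≤ P := inf_le_inf_left _ (centralizer_le inf_le_left)
    have l1 := relIndex_mul_relIndex R P X hRP inf_le_left
    have l2 : R.relIndex X = (centralizer (A c : Set G)).relIndex X := by rw [hRdef, inf_relIndex_left]
    have hVP : V ≤ P := le_inf hVX (cent_symm inf_le_right)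
    have l3 : Nat.card (Z c) ≤ R.relIndex P := by
      have h1 : R.relIndex P = (centralizer (A c : Set G)).relIndex P := by
        rw [← inf_relIndex_right R, ← inf_relIndex_right (centralizer (A c : Set G))]
        congr 1
        exact le_antisymm (inf_le_inf_right _ inf_le_right)
          (le_inf (le_inf (inf_le_right.trans inf_le_left) inf_le_left) inf_le_right)
      rw [h1, ← h.idxV c]
      exact relIndex_le_of_le_right hVP index_ne_zero_of_finite
    have l4 := relIndex_mul_relIndex P (W₁ ⊔ P) X le_sup_right (sup_le hW₁X inf_le_left)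
    have l5 : Nat.card (Z b) ≤ P.relIndex (W₁ ⊔ P) := by
      rw [relIndex_sup ((hW₁X.trans hXc).trans (centralizer_le inf_le_left)), ← h.card_l hx hlQ,
        ← inf_relIndex_right P]
      refine relIndex_le_of_le_left ?_ index_ne_zero_of_finite
      rintro v ⟨h1, h2⟩
      exact h.fix_l hx hlQ heQ hy₀ hne h2 (mem_centralizer_iff.1 h1.2 e he)
    have hy'X : y * (a * y * a⁻¹) ∈ X :=
      mul_mem (hW₁X hy) ((le_sup_right.trans le_sup_left : cj a W₁ ≤ X) ⟨y, hy, rfl⟩)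
    have hy'n : y * (a * y * a⁻¹) ∉ W₁ ⊔ P := by
      intro h1
      have h2 : y * (a * y * a⁻¹) ∈ ((W₁ ⊔ P : Subgroup G) : Set G) := h1
      rw [coe_mul_of_left_le_normalizer_right _ _ ((((hW₁X.trans hXc).trans
        (centralizer_le inf_le_left))).trans (centralizer_le_normalizer _))] at h2
      obtain ⟨v, hv, p, hp', e4⟩ := Set.mem_mul.mp h2
      have h5 : ⁅p, e⁆ = 1 := comm_eq_one.2 (mem_centralizer_iff.1 hp'.2 e he)
      apply htZ₁
      rw [← e3, ← e4, comm_mul_left (by rw [h5]; group), h5, one_mul]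
      exact h.root_l hx hlQ heQ hv
    have l6 : 2 ≤ (W₁ ⊔ P).relIndex X := by
      have h1 : (W₁ ⊔ P).relIndex X ≠ 1 := fun e4 => hy'n (relIndex_eq_one.1 e4 hy'X)
      have h2 : (W₁ ⊔ P).relIndex X ≠ 0 := index_ne_zero_of_finite
      omega
    have hL : Nat.card (Z c) * (Nat.card (Z b) * 2) ≤ Nat.card (Z b) * Nat.card (Z c) := by
      refine le_trans ?_ (hr.trans hR)
      rw [← l2, ← l1, ← l4]
      exact Nat.mul_le_mul l3 (Nat.mul_le_mul l5 l6)
    have p1 : 0 < Nat.card (Z c) := Nat.card_pos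
    have p2 : 0 < Nat.card (Z b) := Nat.card_pos
    nlinarith [Nat.mul_pos p1 p2]

/-! ### `(5)` -/

theorem eq_one_of_sup {s : Finset ι} {v : G} (hv : v ∈ s.sup W) (hc : ∀ e ∈ s, v ∈ Vc W e) : v = 1 := by
  classical
  induction s using Finset.induction_on with
  | empty =>
    rw [Finset.sup_empty] at hv
    exact mem_bot.1 hv
  | insert d s hd ih =>
    rw [Finset.sup_insert] at hv
    have hsV : s.sup W ≤ V := Finset.sup_le fun c _ => h.WV c
    have h1 : v ∈ ((W d ⊔ s.sup W : Subgroup G) : Set G) := hv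
    rw [coe_mul_of_left_le_normalizer_right _ _ (((h.WV d).trans ((le_cent h.el).trans
      (centralizer_le hsV))).trans (centralizer_le_normalizer _))] at h1
    obtain ⟨w, hw, v', hv', e⟩ := Set.mem_mul.mp h1
    have hsc : s.sup W ≤ Vc W d := Finset.sup_le fun c hcs => le_Vc (fun e => hd (e ▸ hcs))
    have h2 : w = 1 := by
      refine h.eq_one_of hw ?_
      have h3 : w = v * v'⁻¹ := by rw [← e]; group
      rw [h3]
      exact mul_mem (hc d (Finset.mem_insert_self _ _)) (inv_mem (hsc hv'))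
    have e' : v = v' := by
      rw [← e, h2]
      exact one_mul v'
    refine ih (by rw [e']; exact hv') fun c hcs => hc c (Finset.mem_insert_of_mem hcs)

/-- the dichotomy for one block -/
theorem good_or [Finite ι] {x : G} (hx : x ∈ normalizer (B : Set G)) (hxJ : cj x ZJ ≤ ZJ)
    (hxN : ∀ i, x ∈ normalizer (N i : Set G)) (c : ι) :
    (∃ d, side d = side c ∧ cj x (Z c) = Z d) ∨ ∀ e, side e = side c → cj x (Z c) ≤ Vc W e := by
  have hfin : (∃ d, cj x (Z c) = Z d) →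
      (∃ d, side d = side c ∧ cj x (Z c) = Z d) ∨ ∀ e, side e = side c → cj x (Z c) ≤ Vc W e := by
    rintro ⟨d, hd⟩
    by_cases hs : side d = side c
    · exact Or.inl ⟨d, hs, hd⟩
    · right
      intro e he
      rw [hd]
      refine (h.ZW d).trans (le_Vc ?_)
      rintro rfl
      exact hs he
  by_cases h1 : cj x (W c) ≤ centralizer (V : Set G)
  · by_cases h2 : ∀ e, side e = side c → cj x (Z c) ≤ Vc W e
    · exact Or.inr h2
    · push Not at h2
      obtain ⟨e, he, hn⟩ := h2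
      have hZJ : cj x (Z c) ≤ ZJ := by
        refine le_trans (cj_mono x ?_) hxJ
        rw [h.ZJ_eq]
        exact le_iSup Z c
      exact hfin (h.two hx (h.four hx he (hxN _) h1 hZJ hn))
  · exact hfin (h.one hx h1)

/-- the product of the centres on one side -/
def ZS {ι : Type*} (side : ι → Fin 2) (Z : ι → Subgroup G) (i : Fin 2) : Subgroup G :=
  ⨆ c : {c : ι // side c = i}, Z c

/-- **LEMMA PERM.** -/
theorem perm [Finite ι] {x : G} (hx : x ∈ normalizer (B : Set G)) (hxJ : cj x ZJ ≤ ZJ)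
    (hxN : ∀ i, x ∈ normalizer (N i : Set G)) (b : ι)
    (hz : ∃ z ∈ ZS side Z (side b), x * z * x⁻¹ = z ∧ ∀ c, side c = side b → z ∉ Vc W c) :
    ∃ c, side c = side b ∧ cj x (Z b) = Z c := by
  classical
  have := Fintype.ofFinite ι
  by_contra hbad
  obtain ⟨z, hzS, hxz, hzc⟩ := hz
  set i := side b with hi
  let Good : ι → Prop := fun c => ∃ d, side d = side c ∧ cj x (Z c) = Z d
  set Gd : Subgroup G := ⨆ c : {c : ι // side c = i ∧ Good c}, Z c with hGd
  set Bd : Subgroup G := ⨆ c : {c : ι // side c = i ∧ ¬ Good c}, Z c with hBd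
  have hle : ZS side Z i ≤ Gd ⊔ Bd := by
    refine iSup_le fun c => ?_
    by_cases hg : Good c
    · exact le_sup_of_le_left (le_iSup (fun c : {c : ι // side c = i ∧ Good c} => Z c) ⟨c, c.2, hg⟩)
    · exact le_sup_of_le_right (le_iSup (fun c : {c : ι // side c = i ∧ ¬ Good c} => Z c) ⟨c, c.2, hg⟩)
  have hGV : Gd ≤ V := iSup_le fun c => h.ZV c
  have hBV : Bd ≤ V := iSup_le fun c => h.ZV c
  have h1 : z ∈ ((Gd ⊔ Bd : Subgroup G) : Set G) := hle hzS
  rw [coe_mul_of_left_le_normalizer_right _ _ ((hGV.trans ((le_cent h.el).trans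
    (centralizer_le hBV))).trans (centralizer_le_normalizer _))] at h1
  obtain ⟨g, hg, d, hd, e⟩ := Set.mem_mul.mp h1
  have hGx : cj x Gd ≤ ZS side Z i := by
    rw [cj_le_iff]
    refine iSup_le fun c => ?_
    rw [← cj_le_iff]
    obtain ⟨d, hd, e⟩ := c.2.2
    rw [e]
    exact le_iSup (fun c : {c : ι // side c = i} => Z c) ⟨d, hd.trans c.2.1⟩
  have hBx : ∀ e, side e = i → cj x Bd ≤ Vc W e := by
    intro e he
    rw [cj_le_iff]
    refine iSup_le fun c => ?_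
    rw [← cj_le_iff]
    rcases h.good_or hx hxJ hxN c with h2 | h2
    · exact absurd h2 c.2.2
    · exact h2 e (he.trans c.2.1.symm)
  have hxg : x * g * x⁻¹ ∈ ZS side Z i := hGx ⟨g, hg, rfl⟩
  have hxd : x * d * x⁻¹ ∈ cj x Bd := ⟨d, hd, rfl⟩
  have h3 : x * d * x⁻¹ = (x * g * x⁻¹)⁻¹ * z := by
    rw [← hxz, ← e]; group
  have h4 : x * d * x⁻¹ ∈ ZS side Z i := by
    rw [h3]
    exact mul_mem (inv_mem hxg) hzS
  have h5 : x * d * x⁻¹ = 1 := by
    refine h.eq_one_of_sup (s := Finset.univ.filter fun c => side c = i) ?_ ?_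
    · refine (iSup_le fun c => ?_ : ZS side Z i ≤ (Finset.univ.filter fun c => side c = i).sup W) h4
      exact (h.ZW c).trans (Finset.le_sup (f := W) (Finset.mem_filter.2 ⟨Finset.mem_univ _, c.2⟩))
    · intro e he
      exact hBx e (Finset.mem_filter.1 he).2 hxd
  have h6 : d = 1 := by
    have : d = x⁻¹ * (x * d * x⁻¹) * x := by group
    rw [this, h5]; group
  rw [h6, mul_one] at e
  apply hzc b rfl
  rw [← e]
  refine (iSup_le fun c => ?_ : Gd ≤ Vc W b) hg
  refine (h.ZW c).trans (le_Vc ?_)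
  intro hcb
  have h7 : Good b := hcb ▸ c.2.2
  exact hbad h7

end PIn

end Cfsg.Agent.Omega.RW.Perm

end
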