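import Cfsg.Agent.Mrg.Omega.NO3S.EMany.Four
import Cfsg.Agent.Mrg.Omega.OM.Lev.Main
import Cfsg.Agent.Mrg.Omega.TC.UniLev
import Mathlib
import Cfsg.Agent.Mrg.Omega.ML.MinIrr
import Cfsg.Agent.Mrg.Omega.EK3.Star
import Cfsg.Agent.Mrg.Omega.EK3.Rank

section


/-!
# UNI+ in the form `UniTwo` for `q > 2` under (TI) (row (8), bb #22703 (BLK), #23081 (f1))

* `UniP B ZJ L W Z C q` : the output of UNI+ for `q > 2`;
* `uniTwo_of` : `Bg`, `2 < q`, (TI), `UniP` give `UniTwo B ZJ L W`: `V' = W i` and `L' ≤ L i C_G(W i Z_J)`;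
* `uniP_neg` : `UniP` at stage `-1`;  `uniTwo_neg`.
-/

set_option autoImplicit false
set_option linter.unusedVariables false
set_option linter.unusedSectionVars false

namespace Cfsg.Agent.Omega.EK3.Q

open Subgroup Cfsg Cfsg.Agent.ZN.ChoiceBase
open Cfsg.Agent.ZN (jj zj bau zc zl o2)
open Cfsg.Agent.Omega
open Cfsg.Agent.Omega.OM
open Cfsg.Agent.Omega.OM.Uni (FB Fr)
open Cfsg.Agent.Omega.OM.UniPlus (NB)
open Cfsg.Agent.Omega.NO3S.EThree.Frame
open Cfsg.Agent.Omega.NO3S.EMany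
open Cfsg.Agent.Omega.Node.MultiOf (UniTwo FBl)

universe u

variable {G : Type u} [Group G]

/-- The output of UNI+ for `q > 2`. -/
def UniP (B ZJ : Subgroup G) {ι : Type} (W Z C : ι → Subgroup G) (q : ℕ) : Prop :=
  ∀ (L' V' Z' : Subgroup G) (q' : ℕ), FB B L' V' Z' q' →
    ∃ i, Z' = Z i ∧ NB B L' V' (Z i) q ∧ V' ≤ W i ⊔ ZJ ∧ ∀ z ∈ ZJ, z ∈ C i → ∀ l ∈ L', l * z = z * l

variable [Finite G] {S : Sylow 2 G} {P : Subgroup G} {B ZJ : Subgroup G}

theorem TI_eq {Z : Subgroup G} (ti : TI Z) {x y v : G} (hx : v ∈ cj x Z) (hy : v ∈ cj y Z) (hv : v ≠ 1) :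
    cj x Z = cj y Z := by
  have h1 : cj (y⁻¹ * x) Z = Z := by
    refine ti _ fun hbot => hv ?_
    have h2 : y⁻¹ * v * y ∈ cj (y⁻¹ * x) Z ⊓ Z := by
      refine mem_inf.2 ⟨?_, mem_cj.1 hy⟩
      rw [← cj_cj, mem_cj, inv_inv]
      have e : y * (y⁻¹ * v * y) * y⁻¹ = v := by group
      rw [e]
      exact hx
    rw [hbot, mem_bot] at h2
    calc v = y * (y⁻¹ * v * y) * y⁻¹ := by group
      _ = 1 := by rw [h2]; group
  have h2 := congrArg (cj y) h1
  rwa [cj_cj, mul_inv_cancel_left] at h2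

/-- **(BLK)**: UNI+ in the form `UniTwo` for `q > 2` under (TI). -/
theorem uniTwo_of {k : ℕ} {L W Z C : Fin k → Subgroup G} {q : ℕ} (h : Bg S P B ZJ L W Z C q) (hq : 2 < q)
    (ti : ∀ i, TI (Z i)) (hu : UniP B ZJ W Z C q) : UniTwo B ZJ L W := by
  rintro L' V' ⟨⟨Z', q', hF⟩, -⟩
  obtain ⟨i, rfl, hN, hV, hcen⟩ := hu L' V' Z' q' hF
  have hVW := FourDQ.V_eq h hq hN hV hcen
  subst hVW
  refine ⟨i, rfl, ?_⟩
  have hstar := UniPlus.star_main h.wc h.bau_two (FourQ.nb h i) hN rfl rfl rfl (fun y hy => ?_)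
  · rw [h.fr.zcB] at hstar
    exact hstar.2.2
  · obtain ⟨z, hz, hz1⟩ : ∃ z ∈ Z i, z ≠ 1 := by
      by_contra hcon
      push Not at hcon
      exact h.Z_ne i ((eq_bot_iff_forall _).2 hcon)
    have hv : y * z * y⁻¹ ∈ W i := hN.nV y hy z (hN.ZV hz)
    obtain ⟨l, hl, e⟩ := AltQ.trL (FourQ.nb h i) (FourQ.rt h i) hv (fun e => hz1 (conj_eq_one_iff.1 e)) hz hz1
    have h1 : cj y (Z i) = cj l (Z i) := TI_eq (ti i) (v := y * z * y⁻¹) ⟨z, hz, rfl⟩
      ⟨z, hz, e⟩ fun e => hz1 (conj_eq_one_iff.1 e)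
    refine ⟨l, hl, fun v hv => ⟨v, h1 ▸ hv, 1, fun l _ => by simp, by simp⟩⟩

/-- `UniP` at stage `-1`. -/
theorem uniP_neg {ι : Type} [Finite ι] {L W Z C A : ι → Subgroup G} {q m : ℕ} (h : Bs S P L W Z C A q m)
    (hq : 2 < q) : UniP (bau (S : Subgroup G)) (zj (S : Subgroup G)) W Z C q := by
  intro L' V' Z' q' h'
  obtain ⟨rfl, n, rfl, hN, h1⟩ := UniPlus.uniPlus' h.hyp.ctx.char2 h.fr h.bau_two (UniPlus.wc_bau S)
    (fun g hg w hw v hv => by
      rw [(h.norm hg).1] at hw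
      exact h.fr.Vc hw hv) h.two h'
  rcases h1 with ⟨h0, h2, -⟩ | ⟨hq2, -⟩
  · exact ⟨n, rfl, hN, h0, fun z hz hzC => (h2 z hz).1 hzC⟩
  · omega

theorem uniTwo_neg {k : ℕ} {L W Z C A : Fin k → Subgroup G} {q m : ℕ} (h : Bs S P L W Z C A q m)
    (hs : 2 < q → ∀ i, Scal (S : Subgroup G) P W Z C i) (hq : 2 < q) (ti : ∀ i, TI (Z i)) :
    UniTwo (bau (S : Subgroup G)) (zj (S : Subgroup G)) L W :=
  uniTwo_of (Bg.of_bs h hs) hq ti (uniP_neg h hq)

end Cfsg.Agent.Omega.EK3.Q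

end

section


/-!
# The frame of row (8), `EOf (3 ≤ k ∧ 4 ≤ q)` (TEXT K3Q, bb #22703): `Y_j = C_G(Z_l : l ≠ j)`

`YY Z j = C_G(Z_l : l ≠ j)`, `D = C_G(Z_J)`, `NN Z j = ⟨Z_j^{Y_j}⟩`, `T` a Sylow 2-subgroup of `Y_j` over `B`.

* `FrQ` : the frame: `Bg`, `LB`, (TI), `UniTwo`, `BlkS`, `4 ≤ q`, `3 ≤ k`;
* `FrQ.D_le`, `FrQ.L_le`, `FrQ.stab` : `C_{Y_j}(Z_j) = D`;  `FrQ.norm_B`, `FrQ.norm_ZJ` : `N(B)`, `N(Z_J)` in `Y_j`;
* `FrQ.exists_T`, `FrQ.T_norm`, `FrQ.T_W`, `FrQ.exists_m` : Sylow groups of `Y_j`, the vector `m ∈ C_{Z_j}(T)`;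
* `FrQ.char2`, `FrQ.par` : **the minimal parabolics over `T` in `Y_j`**;  `FrQ.Y_le` : `Y_j = ⟨D, L_j, N_{Y_j}(B)⟩`;
* `FrQ.W_le_N`, `FrQ.NN_le_zc`, `FrQ.NN_comm`, `FrQ.NN_sq`, `FrQ.Q_eq` : `O₂(Y_j) = O₂(D) ∩ C(N_j)`.
-/

set_option autoImplicit false
set_option linter.unusedVariables false
set_option linter.unusedSectionVars false

namespace Cfsg.Agent.Omega.EK3.QI

open Subgroup Cfsg Cfsg.Agent.ZN.ChoiceBase Cfsg.Agent.Omega.EK3.Q
open Cfsg.Agent.ZN (jj zj bau zc zl o2)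
open Cfsg.Agent.ZN.ChoiceSit (Syl exists_syl syl_conj isPGroup_o2 le_o2 le_normalizer_o2 o2_le_syl syl_not_dvd)
open Cfsg.Agent.MinSimple.MinParabolic (IsMinPar)
open Cfsg.Agent.Omega
open Cfsg.Agent.Omega.OM
open Cfsg.Agent.Omega.OM.Uni (FB Fr)
open Cfsg.Agent.Omega.OM.UniPlus (NB)
open Cfsg.Agent.Omega.NO3S.EThree.Frame
open Cfsg.Agent.Omega.NO3S.EMany
open Cfsg.Agent.Omega.Node.MultiOf (UniTwo FBl)
open Cfsg.Agent.Omega.TC.OfMul (BlkS)

universe u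

variable {G : Type u} [Group G]

/-- `C_G(Z_l : l ≠ j)` -/
def YY {k : ℕ} (Z : Fin k → Subgroup G) (j : Fin k) : Subgroup G := ⨅ l : {l : Fin k // l ≠ j}, centralizer (Z l : Set G)

theorem mem_YY {k : ℕ} {Z : Fin k → Subgroup G} {j : Fin k} {x : G} :
    x ∈ YY Z j ↔ ∀ l, l ≠ j → ∀ z ∈ Z l, x * z = z * x := by
  unfold YY
  rw [mem_iInf]
  constructor
  · exact fun h l hl z hz => (mem_centralizer_iff.1 (h ⟨l, hl⟩) z hz).symm
  · exact fun h l => mem_centralizer_iff.2 fun z hz => (h l l.2 z hz).symm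

theorem YY_le {k : ℕ} {Z : Fin k → Subgroup G} {j l : Fin k} (hl : l ≠ j) : YY Z j ≤ centralizer (Z l : Set G) :=
  fun _ hx => mem_centralizer_iff.2 fun z hz => (mem_YY.1 hx l hl z hz).symm

theorem YY_le_N {k : ℕ} {Z : Fin k → Subgroup G} {j l : Fin k} (hl : l ≠ j) : YY Z j ≤ normalizer (Z l : Set G) :=
  (YY_le hl).trans (centralizer_le_normalizer _)

/-- `⟨Z_j^{Y_j}⟩` -/
def NN {k : ℕ} (Z : Fin k → Subgroup G) (j : Fin k) : Subgroup G := cls (Z j) (YY Z j)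

/-- **The frame of row (8).** -/
structure FrQ [Finite G] (S : Sylow 2 G) (P K B ZJ : Subgroup G) {k : ℕ} (L W Z C : Fin k → Subgroup G) (q : ℕ) :
    Prop where
  bg : Bg S P B ZJ L W Z C q
  lb : LevD.LB S K B ZJ
  ti : ∀ i, TI (Z i)
  uni : UniTwo B ZJ L W
  blk : ∀ T : Subgroup G, IsPGroup 2 T → B ≤ T → BlkS K B T
  q4 : 4 ≤ q
  three : 3 ≤ k

namespace FrQ

variable [Finite G] {S : Sylow 2 G} {P K B ZJ : Subgroup G} {k : ℕ} {L W Z C : Fin k → Subgroup G} {q : ℕ}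
  (h : FrQ S P K B ZJ L W Z C q)
include h

theorem D_le (j : Fin k) : centralizer (ZJ : Set G) ≤ YY Z j := fun x hx =>
  mem_YY.2 fun l _ z hz => (mem_centralizer_iff.1 hx z (h.bg.fr.Z_le l hz)).symm

theorem L_le (j : Fin k) : L j ≤ YY Z j := fun x hx => mem_YY.2 fun l hl z hz =>
  h.bg.fr.LC j x hx z (h.bg.fr.Z_le l hz) (h.bg.fr.WjC j l hl.symm ((h.bg.fr.blk l).ZV hz))

/-- `Z_J` is generated by the `Z_l` -/
theorem ZJ_le : ZJ ≤ ⨆ l, Z l := by
  have hk := h.three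
  let i : Fin k := ⟨0, by omega⟩
  intro z hz
  obtain ⟨w, hw, c, hc, hcJ, rfl⟩ := h.bg.fr.split_ZJ i hz
  refine mul_mem ((le_iSup Z i) hw) ?_
  have h1 := h.bg.ZC_le i (mem_inf.2 ⟨hcJ, hc⟩)
  exact (iSup_le fun l : {l : Fin k // l ≠ i} => le_iSup Z (l : Fin k)) h1

theorem stab (j : Fin k) : YY Z j ⊓ centralizer (Z j : Set G) = centralizer (ZJ : Set G) := by
  apply le_antisymm
  · rintro x ⟨hx, hxj⟩
    have h1 : (⨆ l, Z l) ≤ centralizer ({x} : Set G) := iSup_le fun l z hz => by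
      rw [mem_centralizer_singleton_iff]
      by_cases hl : l = j
      · subst hl
        exact mem_centralizer_iff.1 hxj z hz
      · exact (mem_YY.1 hx l hl z hz).symm
    refine mem_centralizer_iff.2 fun z hz => ?_
    exact mem_centralizer_singleton_iff.1 (h1 (h.ZJ_le hz))
  · exact le_inf (h.D_le j) (centralizer_le (h.bg.fr.Z_le j))

/-- `N_{Y_j}(B)` normalises all `Z l`, `W l` -/
theorem norm_B (j : Fin k) {n : G} (hn : n ∈ YY Z j) (hB : n ∈ normalizer (B : Set G)) (l : Fin k) :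
    n ∈ normalizer (Z l : Set G) ∧ n ∈ normalizer (W l : Set G) := by
  have h1 : cj n (Z l) = Z l := by
    by_cases hl : l = j
    · subst hl
      obtain ⟨m, hm, -⟩ := (h.bg.norm hB).2 l
      by_cases hml : m = l
      · rw [hm, hml]
      · exfalso
        have h2 : cj n (Z m) = Z m := mem_normalizer_iff_cj.1 (YY_le_N hml hn)
        have h3 := hm.trans h2.symm
        have h4 := congrArg (cj n⁻¹) h3
        rw [cj_inv_cj, cj_inv_cj] at h4
        exact hml (h.bg.Z_inj h4).symm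
    · exact mem_normalizer_iff_cj.1 (YY_le_N hl hn)
  exact ⟨mem_normalizer_iff_cj.2 h1, mem_normalizer_iff_cj.2 (h.bg.cj_W hB h1)⟩

/-- `N_{Y_j}(Z_J) = D N_{Y_j}(B)` -/
theorem norm_ZJ (j : Fin k) {y : G} (hy : y ∈ YY Z j) (hJ : y ∈ normalizer (ZJ : Set G)) :
    ∃ d ∈ centralizer (ZJ : Set G), ∃ n ∈ YY Z j, n ∈ normalizer (B : Set G) ∧ y = d * n := by
  obtain ⟨d, hd, hdy⟩ := FourQ.exists_frattini h.bg hJ
  exact ⟨d⁻¹, inv_mem hd, d * y, mul_mem (h.D_le j hd) hy, hdy, by group⟩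

theorem norm_Z (j : Fin k) {y : G} (hy : y ∈ YY Z j) (hJ : y ∈ normalizer (ZJ : Set G)) : y ∈ normalizer (Z j : Set G) := by
  obtain ⟨d, hd, n, hn, hnB, rfl⟩ := h.norm_ZJ j hy hJ
  refine mul_mem ?_ (h.norm_B j hn hnB j).1
  exact centralizer_le_normalizer _ (centralizer_le (h.bg.fr.Z_le j) hd)

/-- an element of `Y_j` normalising `Z_j` normalises `Z_J` -/
theorem norm_ZJ' (j : Fin k) {y : G} (hy : y ∈ YY Z j) (hj : y ∈ normalizer (Z j : Set G)) :
    y ∈ normalizer (ZJ : Set G) := by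
  have h1 : ZJ = ⨆ l, Z l := le_antisymm h.ZJ_le (iSup_le h.bg.fr.Z_le)
  rw [mem_normalizer_iff_cj, h1]
  have h2 : cj y (⨆ l, Z l) = ⨆ l, cj y (Z l) := Subgroup.map_iSup _ _
  rw [h2]
  congr 1
  funext l
  by_cases hl : l = j
  · rw [hl]; exact mem_normalizer_iff_cj.1 hj
  · exact mem_normalizer_iff_cj.1 (YY_le_N hl hy)

/-! ### Sylow groups -/

theorem B_le (j : Fin k) : B ≤ YY Z j := fun b hb => mem_YY.2 fun l _ z hz => (h.bg.fr.blk l).cZ b hb z hz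

theorem exists_T (j : Fin k) : ∃ T, Syl T (YY Z j) ∧ B ≤ T := exists_syl h.bg.bau_two (h.B_le j)

theorem char2 (j : Fin k) : YY Z j ⊓ centralizer (o2 (YY Z j) : Set G) ≤ o2 (YY Z j) := by
  have hk := h.three
  obtain ⟨i, hi⟩ := h.bg.two j
  -- `A = ∏_{l ≠ j} Z_l`
  set A : Subgroup G := ⨆ l : {l : Fin k // l ≠ j}, Z l with hA
  have hAJ : A ≤ ZJ := iSup_le fun l => h.bg.fr.Z_le l
  have hA2 : IsPGroup 2 A := h.bg.bau_two.to_le (hAJ.trans (h.bg.fr.ZJV.trans h.bg.fr.VB))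
  have hA1 : A ≠ ⊥ := fun e => h.bg.Z_ne i (le_bot_iff.1 (e ▸ le_iSup (fun l : {l : Fin k // l ≠ j} => Z l) ⟨i, hi⟩))
  have hY : YY Z j = centralizer (A : Set G) := by
    ext x
    rw [mem_YY, mem_centralizer_iff]
    constructor
    · intro hx z hz
      have h1 : A ≤ centralizer ({x} : Set G) := iSup_le fun l z hz => by
        rw [mem_centralizer_singleton_iff]
        exact (hx l l.2 z hz).symm
      exact mem_centralizer_singleton_iff.1 (h1 hz)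
    · exact fun hx l hl z hz => (hx z ((le_iSup (fun l : {l : Fin k // l ≠ j} => Z l) ⟨l, hl⟩) hz)).symm
  rw [hY]
  exact Swap.char2_cent h.bg.hyp.ctx.char2 hA2 hA1

section T

variable {j : Fin k} {T : Subgroup G} (hT : Syl T (YY Z j)) (hBT : B ≤ T)
include hT hBT

theorem T_norm_B : T ≤ normalizer (B : Set G) := h.bg.le_norm_B hT.2.1 hBT

theorem T_Z (l : Fin k) : T ≤ normalizer (Z l : Set G) := fun _ ht => (h.norm_B j (hT.1 ht) (h.T_norm_B hT hBT ht) l).1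

theorem T_W (l : Fin k) : T ≤ normalizer (W l : Set G) := fun _ ht => (h.norm_B j (hT.1 ht) (h.T_norm_B hT hBT ht) l).2

omit hBT in
/-- a 2-subgroup over `T` of a subgroup of `Y_j` -/
theorem syl_of {R : Subgroup G} (hTR : T ≤ R) (hR : R ≤ YY Z j) : Syl T R :=
  ⟨hTR, hT.2.1, fun Q hQ h2 hle => hT.2.2 Q (hQ.trans hR) h2 hle⟩

/-- the vector `m` -/
theorem exists_m : ∃ m ∈ Z j, m ≠ 1 ∧ T ≤ centralizer ({m} : Set G) := by
  obtain ⟨m, hm, hm1, hf⟩ := Four.exists_fix hT.2.1 (h.bg.Z_two j) (h.bg.Z_ne j)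
    fun x hx v hv => (mem_normalizer_iff.1 (h.T_Z hT hBT j hx) v).1 hv
  refine ⟨m, hm, hm1, fun t ht => ?_⟩
  rw [mem_centralizer_singleton_iff]
  exact mul_inv_eq_iff_eq_mul.1 (hf t ht)

omit hT hBT in
/-- (TI) -/
theorem cent_m {m : G} (hm : m ∈ Z j) (hm1 : m ≠ 1) : centralizer ({m} : Set G) ≤ normalizer (Z j : Set G) := by
  intro x hx
  rw [mem_normalizer_iff_cj]
  refine h.ti j x fun hbot => hm1 ?_
  have h1 : m ∈ cj x (Z j) ⊓ Z j := by
    refine mem_inf.2 ⟨⟨m, hm, ?_⟩, hm⟩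
    have := mem_centralizer_singleton_iff.1 hx
    show x * m * x⁻¹ = m
    rw [this]; group
  rwa [hbot, mem_bot] at h1

omit h in
theorem zc_of {m : G} (hmT : m ∈ T) (hm2 : m ^ 2 = 1) (hc : T ≤ centralizer ({m} : Set G)) : m ∈ zc T :=
  mem_zc.2 ⟨hmT, hm2, fun x hx => mem_centralizer_singleton_iff.1 (hc hx)⟩

omit hT in
theorem m_zc {m : G} (hm : m ∈ Z j) (hc : T ≤ centralizer ({m} : Set G)) : m ∈ zc T :=
  mem_zc.2 ⟨hBT ((h.bg.fr.blk j).VB ((h.bg.fr.blk j).ZV hm)), h.bg.fr.Vsq (h.bg.fr.ZV j hm),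
    fun x hx => mem_centralizer_singleton_iff.1 (hc hx)⟩

/-- **The minimal parabolics over `T` in `Y_j`.** -/
theorem par {R : Subgroup G} (hR : IsMinPar T R) (hRY : R ≤ YY Z j) :
    R ≤ normalizer (Z j : Set G) ∨ ∃ L' : Subgroup G, L' ≤ R ∧ R ≤ L' ⊔ T ∧ NB B L' (W j) (Z j) q ∧
      L' ≤ L j ⊔ centralizer ((W j ⊔ ZJ : Subgroup G) : Set G) := by
  have hTR := h.syl_of hT hR.le hRY
  by_cases hK : K ≤ o2 R
  · left
    have h1 : R ≤ normalizer (ZJ : Set G) :=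
      (le_normalizer_o2 R).trans (h.lb.nrm _ (isPGroup_o2 R) hK)
    exact fun r hr => h.norm_Z j (hRY hr) (h1 hr)
  obtain ⟨m, hm, hm1, hmT⟩ := h.exists_m hT hBT
  by_cases hZ : R ≤ centralizer (zc T : Set G)
  · left
    refine (hZ.trans (centralizer_le ?_)).trans (h.cent_m hm hm1)
    exact Set.singleton_subset_iff.2 (h.m_zc hBT hm hmT)
  right
  have hc : R ⊓ centralizer (o2 R : Set G) ≤ o2 R :=
    MinSimple.Basic.char2_of_le (h.char2 j) ((o2_le_syl hT).trans hR.le) hRY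
  obtain ⟨L', V', hbl, h1, h2⟩ := h.blk T hT.2.1 hBT R hR hTR hc hK hZ
  obtain ⟨i, rfl, hle⟩ := h.uni L' _ hbl
  obtain ⟨⟨Z', q', hF⟩, -⟩ := hbl
  have hZ' : Z' = Z i := by
    ext x
    rw [hF.toMd.mem_Z_iff, (h.bg.fr.blk i).toMd.mem_Z_iff]
  subst hZ'
  have hq' : q' = q := by
    have h3 := hF.card
    rw [(h.bg.fr.blk i).card, h.bg.fr.cardZ] at h3
    have h4 := h.q4
    exact (Nat.eq_of_mul_eq_mul_left (by omega) h3).symm
  subst hq'
  have hN : NB B L' (W i) (Z i) q' := ⟨hF, h.bg.fr.cardZ i⟩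
  have hij : i = j := by
    by_contra hij
    obtain ⟨l, hl, hne⟩ := AltQ.exists_ne hN
    exact hne (mem_normalizer_iff_cj.1 (YY_le_N hij (hRY (h1 hl))))
  subst hij
  exact ⟨L', h1, h2, hN, hle⟩

/-- `Y_j = ⟨D, L_j, N_{Y_j}(B)⟩` -/
theorem Y_le' : YY Z j ≤ centralizer (ZJ : Set G) ⊔ L j ⊔ (YY Z j ⊓ normalizer (B : Set G)) := by
  have hTB := h.T_norm_B hT hBT
  refine MinSimple.MinParabolic.le_of_forall hT.1 ?_ fun R hR hRY => ?_
  · rintro n ⟨hn, hnT⟩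
    refine mem_sup_right (mem_inf.2 ⟨hn, ?_⟩)
    rw [mem_normalizer_iff_cj]
    refine h.bg.wc T hT.2.1 hBT n ?_
    rw [← mem_normalizer_iff_cj.1 hnT]
    exact cj_mono n hBT
  · rcases h.par hT hBT hR hRY with h1 | ⟨L', h1, h2, -, h3⟩
    · intro y hy
      obtain ⟨d, hd, n, hn, hnB, rfl⟩ := h.norm_ZJ j (hRY hy) (h.norm_ZJ' j (hRY hy) (h1 hy))
      exact mul_mem (mem_sup_left (mem_sup_left hd)) (mem_sup_right (mem_inf.2 ⟨hn, hnB⟩))
    · refine h2.trans (sup_le (h3.trans ?_) ?_)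
      · refine sup_le (le_sup_of_le_left le_sup_right) (le_sup_of_le_left (le_sup_of_le_left ?_))
        exact centralizer_le (by exact_mod_cast (le_sup_right : ZJ ≤ W j ⊔ ZJ))
      · exact le_sup_of_le_right (le_inf hT.1 hTB)

end T

theorem Y_le (j : Fin k) : YY Z j ≤ centralizer (ZJ : Set G) ⊔ L j ⊔ (YY Z j ⊓ normalizer (B : Set G)) := by
  obtain ⟨T, hT, hBT⟩ := h.exists_T j
  exact h.Y_le' hT hBT

/-! ### `N_j` -/

theorem Z_le_N (j : Fin k) : Z j ≤ NN Z j := le_cls _ _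

theorem N_norm (j : Fin k) : YY Z j ≤ normalizer (NN Z j : Set G) := cls_self_norm _ _

theorem W_le_N (j : Fin k) : W j ≤ NN Z j := by
  obtain ⟨k, hk, hne⟩ := AltQ.exists_ne (FourQ.nb h.bg j)
  rw [← AltQ.sup_eq (FourQ.nb h.bg j) hk hne]
  exact sup_le (h.Z_le_N j) (cj_le_cls (h.L_le j hk))

theorem NN_le_zc (j : Fin k) : NN Z j ≤ zc (o2 (YY Z j)) := by
  obtain ⟨T, hT, hBT⟩ := h.exists_T j
  obtain ⟨m, hm, hm1, hmT⟩ := h.exists_m hT hBT
  have h1 := MinSimple.VModule.zl_le_zc hT.1 hT.2.1 (syl_not_dvd hT) (h.char2 j)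
  have h2 : m ∈ zl T (YY Z j) := MinSimple.VModule.zc_le_zl _ _ (h.m_zc hBT hm hmT)
  refine cls_min ?_ ((le_normalizer_o2 _).trans (MinSimple.VModule.normalizer_le_normalizer_zc _))
  refine le_trans (fun z hz => ?_) h1
  by_cases hz1 : z = 1
  · rw [hz1]; exact one_mem _
  obtain ⟨l, hl, e⟩ := AltQ.trL (FourQ.nb h.bg j) (FourQ.rt h.bg j) ((h.bg.fr.blk j).ZV hz) hz1 hm hm1
  rw [← e]
  exact (mem_normalizer_iff.1 (MinSimple.VModule.le_normalizer_zl T (YY Z j) (h.L_le j hl)) m).1 h2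

theorem NN_sq (j : Fin k) {x : G} (hx : x ∈ NN Z j) : x ^ 2 = 1 := (mem_zc.1 (h.NN_le_zc j hx)).2.1

theorem NN_comm (j : Fin k) : NN Z j ≤ centralizer (NN Z j : Set G) := fun x hx =>
  mem_centralizer_iff.2 fun y hy =>
    ((mem_zc.1 (h.NN_le_zc j hx)).2.2 y (mem_zc.1 (h.NN_le_zc j hy)).1)

theorem NN_le_o2 (j : Fin k) : NN Z j ≤ o2 (YY Z j) := fun x hx => (mem_zc.1 (h.NN_le_zc j hx)).1

theorem o2_cent_N (j : Fin k) : o2 (YY Z j) ≤ centralizer (NN Z j : Set G) := fun x hx =>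
  mem_centralizer_iff.2 fun y hy => ((mem_zc.1 (h.NN_le_zc j hy)).2.2 x hx).symm

theorem o2_le_D (j : Fin k) : o2 (YY Z j) ≤ centralizer (ZJ : Set G) := by
  rw [← h.stab j]
  exact le_inf (MinSimple.VModule.o2_le _) ((h.o2_cent_N j).trans (centralizer_le (h.Z_le_N j)))

/-- `O₂(Y_j) = O₂(D) ∩ C(N_j)` -/
theorem Q_eq (j : Fin k) : o2 (YY Z j) = o2 (centralizer (ZJ : Set G)) ⊓ centralizer (NN Z j : Set G) := by
  apply le_antisymm
  · refine le_inf (le_o2 (isPGroup_o2 _) (h.o2_le_D j) ?_) (h.o2_cent_N j)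
    exact (h.D_le j).trans (le_normalizer_o2 _)
  · -- `C := C_{Y_j}(N_j) ≤ D`
    set C' : Subgroup G := YY Z j ⊓ centralizer (NN Z j : Set G) with hC'
    have hCD : C' ≤ centralizer (ZJ : Set G) := by
      rw [← h.stab j]
      exact inf_le_inf_left _ (centralizer_le (h.Z_le_N j))
    have hCn : YY Z j ≤ normalizer (C' : Set G) := by
      intro y hy
      rw [mem_normalizer_iff_cj, hC', cj_inf, cj_eq_of_mem_normalizer (Subgroup.le_normalizer hy), cj_centralizer,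
        cj_eq_of_mem_normalizer (h.N_norm j hy)]
    have h1 : o2 (centralizer (ZJ : Set G)) ⊓ centralizer (NN Z j : Set G) ≤ o2 C' := by
      refine le_o2 ((isPGroup_o2 _).to_le inf_le_left) (inf_le_inf_right _ ((MinSimple.VModule.o2_le _).trans (h.D_le j))) ?_
      intro c hc
      rw [mem_normalizer_iff_cj, cj_inf, cj_eq_of_mem_normalizer (le_normalizer_o2 _ (hCD hc)), cj_centralizer,
        cj_eq_of_mem_normalizer (h.N_norm j hc.1)]
    refine h1.trans (le_o2 (isPGroup_o2 _) ((MinSimple.VModule.o2_le _).trans inf_le_left) ?_)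
    intro y hy
    rw [mem_normalizer_iff_cj, ← pCore_cj, cj_eq_of_mem_normalizer (hCn hy)]

end FrQ

end Cfsg.Agent.Omega.EK3.QI

end

section


/-!
# THEOREM K3 (helper474, #22123), step (5): classes

`YY z j = C_G(z_l : l ≠ j)`. If `J_i` is normal in `Y_i`, centralises `N_i = ⟨z_i^(Y_i)⟩`, moves `N_j` whenever
`J_i ≠ J_j`, and (`J_i ≠ J_j`) `L_i` normalises `N_j`, then the class of `i₀` gives a subgroup `U ∋ z_{i₀}` normalised by
all `Y_j`, contained in every subgroup which contains all `z_i` and is normalised by `C_G(z_l : J_l ≠ J_{i₀})`.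
-/

set_option autoImplicit false
set_option linter.unusedSectionVars false

namespace Cfsg.Agent.Omega.EK3.Cla

open Subgroup

universe u v

variable {G : Type u} [Group G] {ι : Type v}

theorem norm_of {C U : Subgroup G} (h : ∀ c ∈ C, ∀ a ∈ U, c * a * c⁻¹ ∈ U) : C ≤ normalizer (U : Set G) := by
  intro c hc
  rw [mem_normalizer_iff]
  intro a
  refine ⟨fun ha => h c hc a ha, fun ha => ?_⟩
  have := h c⁻¹ (inv_mem hc) _ ha
  have e : c⁻¹ * (c * a * c⁻¹) * c⁻¹⁻¹ = a := by group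
  rwa [e] at this

theorem conj_mem {C U : Subgroup G} (h : C ≤ normalizer (U : Set G)) {c a : G} (hc : c ∈ C) (ha : a ∈ U) :
    c * a * c⁻¹ ∈ U := (mem_normalizer_iff.1 (h hc) a).1 ha

theorem norm_closure {C : Subgroup G} {s : Set G} (h : ∀ c ∈ C, ∀ a ∈ s, c * a * c⁻¹ ∈ closure s) :
    C ≤ normalizer (closure s : Set G) := by
  refine norm_of fun c hc a ha => ?_
  induction ha using closure_induction with
  | mem x hx => exact h c hc x hx
  | one => simp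
  | mul x y _ _ hx hy =>
    have e : c * (x * y) * c⁻¹ = (c * x * c⁻¹) * (c * y * c⁻¹) := by group
    rw [e]; exact mul_mem hx hy
  | inv x _ hx =>
    have e : c * x⁻¹ * c⁻¹ = (c * x * c⁻¹)⁻¹ := by group
    rw [e]; exact inv_mem hx

/-- `⟨J^H⟩` -/
def cl (H J : Subgroup G) : Subgroup G := closure {x | ∃ g ∈ H, ∃ y ∈ J, x = g * y * g⁻¹}

theorem le_cl (H J : Subgroup G) : J ≤ cl H J := fun y hy => subset_closure ⟨1, one_mem _, y, hy, by simp⟩

theorem conj_mem_cl {H J : Subgroup G} {g y : G} (hg : g ∈ H) (hy : y ∈ J) : g * y * g⁻¹ ∈ cl H J :=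
  subset_closure ⟨g, hg, y, hy, rfl⟩

theorem norm_cl (H J : Subgroup G) : H ≤ normalizer (cl H J : Set G) := by
  refine norm_closure ?_
  rintro c hc _ ⟨g, hg, y, hy, rfl⟩
  have e : c * (g * y * g⁻¹) * c⁻¹ = (c * g) * y * (c * g)⁻¹ := by group
  rw [e]
  exact conj_mem_cl (mul_mem hc hg) hy

theorem cl_le {H J U : Subgroup G} (hJ : J ≤ U) (hH : H ≤ normalizer (U : Set G)) : cl H J ≤ U := by
  refine (closure_le _).2 ?_
  rintro _ ⟨g, hg, y, hy, rfl⟩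
  exact conj_mem hH hg (hJ hy)

theorem cl_mono {H H' J : Subgroup G} (h : H ≤ H') : cl H J ≤ cl H' J :=
  cl_le (le_cl _ _) (h.trans (norm_cl _ _))

theorem norm_centralizer {C U : Subgroup G} (h : C ≤ normalizer (U : Set G)) :
    C ≤ normalizer (centralizer (U : Set G) : Set G) := by
  refine norm_of fun c hc a ha => ?_
  rw [mem_centralizer_iff] at ha ⊢
  intro u hu
  have h1 : c⁻¹ * u * c ∈ U := by
    have := conj_mem h (inv_mem hc) hu
    rwa [inv_inv] at this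
  have h2 := ha _ h1
  calc u * (c * a * c⁻¹) = c * ((c⁻¹ * u * c) * a) * c⁻¹ := by group
    _ = c * (a * (c⁻¹ * u * c)) * c⁻¹ := by rw [h2]
    _ = c * a * c⁻¹ * u := by group

/-- `Y_j = C_G(z_l : l ≠ j)` -/
def YY (z : ι → G) (j : ι) : Subgroup G := centralizer {x | ∃ l, l ≠ j ∧ x = z l}

theorem mem_YY {z : ι → G} {j : ι} {g : G} : g ∈ YY z j ↔ ∀ l, l ≠ j → z l * g = g * z l := by
  unfold YY
  rw [mem_centralizer_iff]
  constructor
  · exact fun h l hl => h _ ⟨l, hl, rfl⟩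
  · rintro h _ ⟨l, hl, rfl⟩
    exact h l hl

/-- the situation of (5) -/
structure Cls (z : ι → G) (D : Subgroup G) (L N J : ι → Subgroup G) : Prop where
  DY : ∀ j, D ≤ YY z j
  gen : ∀ j, YY z j ≤ D ⊔ L j
  zN : ∀ j, z j ∈ N j
  nN : ∀ j, YY z j ≤ normalizer (N j : Set G)
  minN : ∀ j (U : Subgroup G), z j ∈ U → YY z j ≤ normalizer (U : Set G) → N j ≤ U
  nJ : ∀ i, YY z i ≤ normalizer (J i : Set G)
  JY : ∀ i, J i ≤ YY z i
  JN : ∀ i, J i ≤ centralizer (N i : Set G)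
  mv : ∀ i j, J i ≠ J j → ¬ J i ≤ centralizer (N j : Set G)
  kd : ∀ j (K : Subgroup G), K ≤ YY z j → YY z j ≤ normalizer (K : Set G) → ¬ K ≤ centralizer {z j} → YY z j ≤ K ⊔ D

namespace Cls

variable {z : ι → G} {D : Subgroup G} {L N J : ι → Subgroup G} (h : Cls z D L N J)
include h

theorem norm_N (hyp : ∀ i j, J i ≠ J j → L i ≤ normalizer (N j : Set G)) {i j : ι} (hij : J i ≠ J j) :
    YY z i ⊔ YY z j ≤ normalizer (N j : Set G) :=
  sup_le ((h.gen i).trans (sup_le ((h.DY j).trans (h.nN j)) (hyp i j hij))) (h.nN j)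

theorem sup_le_cent {i j : ι} : YY z i ⊔ YY z j ≤ centralizer {x | ∃ l, l ≠ i ∧ l ≠ j ∧ x = z l} := by
  refine sup_le ?_ ?_ <;> refine centralizer_le ?_
  · rintro _ ⟨l, h1, h2, rfl⟩; exact ⟨l, h1, rfl⟩
  · rintro _ ⟨l, h1, h2, rfl⟩; exact ⟨l, h2, rfl⟩

/-- `K = ⟨J_i^(Y_j)⟩` -/
theorem key (hyp : ∀ i j, J i ≠ J j → L i ≤ normalizer (N j : Set G)) {i j : ι} (hij : J i ≠ J j) :
    YY z i ≤ normalizer (cl (YY z j) (J i) : Set G) ∧ cl (YY z j) (J i) ≤ centralizer {z i} ∧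
      YY z j ≤ cl (YY z j) (J i) ⊔ D := by
  set Y := YY z i ⊔ YY z j with hY
  have hiY : YY z i ≤ Y := le_sup_left
  have hjY : YY z j ≤ Y := le_sup_right
  have hNi : Y ≤ normalizer (N i : Set G) := by
    have := h.norm_N hyp (i := j) (j := i) (Ne.symm hij)
    rwa [sup_comm] at this
  set K := cl Y (J i) with hK
  have hKN : K ≤ centralizer (N i : Set G) := cl_le (h.JN i) (norm_centralizer hNi)
  have hKz : K ≤ centralizer {z i} := hKN.trans (centralizer_le (Set.singleton_subset_iff.2 (h.zN i)))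
  have hKY : K ≤ Y := cl_le ((h.JY i).trans hiY) (by
    exact Subgroup.le_normalizer)
  have hKj : K ≤ YY z j := by
    intro k hk
    rw [mem_YY]
    intro l hl
    by_cases hli : l = i
    · rw [hli]
      exact mem_centralizer_iff.1 (hKz hk) _ rfl
    · exact mem_centralizer_iff.1 (h.sup_le_cent (hKY hk)) _ ⟨l, hli, hl, rfl⟩
  have hYK : Y ≤ normalizer (K : Set G) := norm_cl _ _
  have hmv : ¬ K ≤ centralizer {z j} := by
    intro hc
    apply h.mv i j hij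
    refine (le_cl Y (J i)).trans ?_
    rw [← hK, le_centralizer_iff]
    refine h.minN j _ ?_ (norm_centralizer (hjY.trans hYK))
    rw [mem_centralizer_iff]
    intro k hk
    exact (mem_centralizer_iff.1 (hc hk) _ rfl).symm
  have hkd := h.kd j K hKj (hjY.trans hYK) hmv
  -- `Y = Y_i K`
  have hYi : Y ≤ YY z i ⊔ K :=
    sup_le le_sup_left (hkd.trans (sup_le le_sup_right ((h.DY i).trans le_sup_left)))
  -- `K = ⟨J^K⟩`
  have hKK : K ≤ cl K (J i) := by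
    refine cl_le (le_cl _ _) ?_
    refine hYi.trans (sup_le (norm_of fun c hc a ha => ?_) (norm_cl _ _))
    induction ha using closure_induction with
    | mem x hx =>
      obtain ⟨g, hg, y, hy, rfl⟩ := hx
      have e : c * (g * y * g⁻¹) * c⁻¹ = (c * g * c⁻¹) * (c * y * c⁻¹) * (c * g * c⁻¹)⁻¹ := by group
      rw [e]
      exact conj_mem_cl (conj_mem (hiY.trans hYK) hc hg) (conj_mem (h.nJ i) hc hy)
    | one => simp
    | mul x y _ _ hx hy =>
      have e : c * (x * y) * c⁻¹ = (c * x * c⁻¹) * (c * y * c⁻¹) := by group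
      rw [e]; exact mul_mem hx hy
    | inv x _ hx =>
      have e : c * x⁻¹ * c⁻¹ = (c * x * c⁻¹)⁻¹ := by group
      rw [e]; exact inv_mem hx
  have hKe : K = cl (YY z j) (J i) := le_antisymm (hKK.trans (cl_mono hKj)) (cl_mono hjY)
  rw [← hKe]
  exact ⟨hiY.trans hYK, hKz, hkd⟩

/-- **(5)** -/
theorem exists_U (hyp : ∀ i j, J i ≠ J j → L i ≤ normalizer (N j : Set G)) (i₀ : ι) :
    ∃ U : Subgroup G, z i₀ ∈ U ∧ (∀ j, YY z j ≤ normalizer (U : Set G)) ∧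
      ∀ E : Subgroup G, (∀ i, z i ∈ E) → centralizer {x | ∃ l, J l ≠ J i₀ ∧ x = z l} ≤ normalizer (E : Set G) →
        U ≤ E := by
  set Y : Subgroup G := ⨆ i : {i // J i = J i₀}, YY z i with hY
  have hYi : ∀ i, J i = J i₀ → YY z i ≤ Y := fun i hi => le_iSup (fun i : {i // J i = J i₀} => YY z i) ⟨i, hi⟩
  refine ⟨closure {x | ∃ i, J i = J i₀ ∧ ∃ g ∈ Y, x = g * z i * g⁻¹}, subset_closure ⟨i₀, rfl, 1, one_mem _, by simp⟩,
    fun j => ?_, fun E hE hn => ?_⟩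
  · have hYU : Y ≤ normalizer (closure {x | ∃ i, J i = J i₀ ∧ ∃ g ∈ Y, x = g * z i * g⁻¹} : Set G) := by
      refine norm_closure ?_
      rintro c hc _ ⟨i, hi, g, hg, rfl⟩
      exact subset_closure ⟨i, hi, c * g, mul_mem hc hg, by group⟩
    by_cases hj : J j = J i₀
    · exact (hYi j hj).trans hYU
    have hkey := fun (i : ι) (hi : J i = J i₀) => h.key hyp (i := i) (j := j) (by rw [hi]; exact fun e => hj e.symm)
    set K := cl (YY z j) (J i₀) with hK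
    have hYK : Y ≤ normalizer (K : Set G) := by
      refine iSup_le fun i => ?_
      have := (hkey i.1 i.2).1
      rwa [i.2] at this
    have hKz : ∀ i, J i = J i₀ → K ≤ centralizer {z i} := by
      intro i hi
      have := (hkey i hi).2.1
      rwa [hi] at this
    have hkd : YY z j ≤ K ⊔ D := (hkey i₀ rfl).2.2
    refine hkd.trans (sup_le ?_ ((h.DY i₀).trans ((hYi i₀ rfl).trans hYU)))
    have hKU : K ≤ centralizer (closure {x | ∃ i, J i = J i₀ ∧ ∃ g ∈ Y, x = g * z i * g⁻¹} : Set G) := by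
      rw [le_centralizer_iff, closure_le]
      rintro _ ⟨i, hi, g, hg, rfl⟩
      rw [SetLike.mem_coe, mem_centralizer_iff]
      intro k hk
      have h1 : g⁻¹ * k * g ∈ K := by
        have := conj_mem hYK (inv_mem hg) hk
        rwa [inv_inv] at this
      have h2 := mem_centralizer_iff.1 (hKz i hi h1) _ rfl
      calc k * (g * z i * g⁻¹) = g * ((g⁻¹ * k * g) * z i) * g⁻¹ := by group
        _ = g * (z i * (g⁻¹ * k * g)) * g⁻¹ := by rw [← h2]
        _ = g * z i * g⁻¹ * k := by group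
    exact hKU.trans (centralizer_le_normalizer _)
  · refine (closure_le _).2 ?_
    rintro _ ⟨i, hi, g, hg, rfl⟩
    have hle : Y ≤ centralizer {x | ∃ l, J l ≠ J i₀ ∧ x = z l} := by
      refine iSup_le fun i => centralizer_le ?_
      rintro _ ⟨l, hl, rfl⟩
      exact ⟨l, fun e => hl (by rw [e]; exact i.2), rfl⟩
    exact conj_mem hn (hle hg) (hE i)

end Cls

end Cfsg.Agent.Omega.EK3.Cla

end

section


/-!
# Row (8) (TEXT K3Q, bb #22703): (2') and (NO) over `FrQ`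

`T` a Sylow 2-subgroup of `Y_j` over `B`, `m ∈ C_{Z_j}(T)`, `m ≠ 1`; `K ⊴ Y_j` with a 2-element moving `N_j`.

* `FrQ.gen_tr` : **(2')** `K` is transitive on `W_j - 1`: every `v ∈ W_j - 1` is `k m k⁻¹`;
* `FrQ.gen_mul` : `Y_j = K C_{Y_j}(m)`;  `FrQ.N_eq` : `N_j = ⟨m^K⟩`;
* `FrQ.gLem` : if moreover `K ≤ C(W_i)`, `i ≠ j`, then `L_i` normalises `N_j`;
* `FrQ.no` : **(NO)** for `A ≤ O₂(C_{Y_j}(m))`, `FrQ.no_D` for `A ≤ O₂(D)`;
* `FrQ.K_eq`, `FrQ.nonloc` : case (E): `⟨D, L_1, .., L_k⟩` normalises no nontrivial 2-group.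
-/

set_option autoImplicit false
set_option linter.unusedVariables false
set_option linter.unusedSectionVars false

namespace Cfsg.Agent.Omega.EK3.QI

open Subgroup Cfsg Cfsg.Agent.ZN.ChoiceBase Cfsg.Agent.Omega.EK3.Q
open Cfsg.Agent.ZN (jj zj bau zc zl o2)
open Cfsg.Agent.ZN.ChoiceSit (Syl exists_syl syl_conj isPGroup_o2 le_o2 le_normalizer_o2 o2_le_syl syl_not_dvd)
open Cfsg.Agent.MinSimple.MinParabolic (IsMinPar)
open Cfsg.Agent.Omega
open Cfsg.Agent.Omega.OM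
open Cfsg.Agent.Omega.OM.Uni (FB Fr)
open Cfsg.Agent.Omega.OM.UniPlus (NB)
open Cfsg.Agent.Omega.NO3S.EThree.Frame
open Cfsg.Agent.Omega.NO3S.EMany
open Cfsg.Agent.Omega.Node.MultiOf (UniTwo FBl KZ NLoc)
open Cfsg.Agent.Omega.ML.Final (MLK)

universe u

variable {G : Type u} [Group G]

/-- `⟨m^K⟩` -/
def ocl (m : G) (K : Subgroup G) : Subgroup G := closure {x | ∃ k ∈ K, k * m * k⁻¹ = x}

theorem mem_ocl {m k : G} {K : Subgroup G} (hk : k ∈ K) : k * m * k⁻¹ ∈ ocl m K := subset_closure ⟨k, hk, rfl⟩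

theorem ocl_le {m : G} {K X : Subgroup G} (h : ∀ k ∈ K, k * m * k⁻¹ ∈ X) : ocl m K ≤ X := by
  refine (closure_le _).2 ?_
  rintro _ ⟨k, hk, rfl⟩
  exact h k hk

theorem ocl_mono {m : G} {K K' : Subgroup G} (h : K ≤ K') : ocl m K ≤ ocl m K' := ocl_le fun _ hk => mem_ocl (h hk)

theorem ocl_norm {m : G} {K R : Subgroup G} (hR : R ≤ normalizer (K : Set G)) (hm : R ≤ centralizer ({m} : Set G)) :
    R ≤ normalizer (ocl m K : Set G) := by
  refine ML.MinFrame.le_normalizer_of fun r hr x hx => ?_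
  have h1 : ocl m K ≤ cj r⁻¹ (ocl m K) := by
    refine ocl_le fun k hk => ?_
    rw [mem_cj, inv_inv]
    have h2 := mem_centralizer_singleton_iff.1 (hm hr)
    have e : r * (k * m * k⁻¹) * r⁻¹ = (r * k * r⁻¹) * (r * m * r⁻¹) * (r * k * r⁻¹)⁻¹ := by group
    have e2 : r * m * r⁻¹ = m := by rw [h2]; group
    rw [e, e2]
    exact mem_ocl ((mem_normalizer_iff.1 (hR hr) k).1 hk)
  have h2 := h1 hx
  rw [mem_cj, inv_inv] at h2
  exact h2

namespace FrQ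

variable [Finite G] {S : Sylow 2 G} {P K₀ B ZJ : Subgroup G} {k : ℕ} {L W Z C : Fin k → Subgroup G} {q : ℕ}
  (h : FrQ S P K₀ B ZJ L W Z C q)
include h

section gen

variable {j : Fin k} {T : Subgroup G} (hT : Syl T (YY Z j)) (hBT : B ≤ T) {K : Subgroup G} (hKY : K ≤ YY Z j)
  (hKn : YY Z j ≤ normalizer (K : Set G)) (hmv : ∃ a ∈ K, (∃ n : ℕ, a ^ 2 ^ n = 1) ∧ ∃ w ∈ NN Z j, a * w ≠ w * a)
include hT hBT hKY hKn hmv

/-- some minimal parabolic over `T` in `K T` moves `Z_j` -/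
theorem exists_par : ∃ L' : Subgroup G, L' ≤ K ⊔ T ∧ NB B L' (W j) (Z j) q := by
  by_contra hcon
  -- `K ≤ N(Z_j)`
  have hKZ : K ≤ normalizer (Z j : Set G) := by
    refine le_trans (le_sup_left : K ≤ K ⊔ T) ?_
    refine MinSimple.MinParabolic.le_of_forall le_sup_right ?_ fun R hR hRX => ?_
    · rintro n ⟨hn, hnT⟩
      refine (h.norm_B j ((sup_le hKY hT.1) hn) ?_ j).1
      rw [mem_normalizer_iff_cj]
      refine h.bg.wc T hT.2.1 hBT n ?_
      rw [← mem_normalizer_iff_cj.1 hnT]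
      exact cj_mono n hBT
    · rcases h.par hT hBT hR (hRX.trans (sup_le hKY hT.1)) with h1 | ⟨L', h1, -, h2, -⟩
      · exact h1
      · exact absurd ⟨L', h1.trans hRX, h2⟩ hcon
  -- `K` normalises `W_j`
  have hLK : ∀ l ∈ L j, ∀ r ∈ K, l * r * l⁻¹ ∈ K := fun l hl r hr => (mem_normalizer_iff.1 (hKn (h.L_le j hl)) r).1 hr
  have hKW : ∀ r ∈ K, ∀ v ∈ W j, r * v * r⁻¹ ∈ W j := by
    obtain ⟨k, hk, hne⟩ := AltQ.exists_ne (FourQ.nb h.bg j)
    have h1 : K ≤ normalizer (W j : Set G) := by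
      intro a haR
      have h1 : a ∈ normalizer ((cj k (Z j) : Subgroup G) : Set G) := by
        have h2 : k⁻¹ * a * k ∈ normalizer (Z j : Set G) := hKZ ((mem_normalizer_iff''.1 (hKn (h.L_le j hk)) a).1 haR)
        rw [← cj_normalizer, mem_cj]
        exact h2
      rw [mem_normalizer_iff_cj, ← AltQ.sup_eq (FourQ.nb h.bg j) hk hne]
      rw [show cj a (Z j ⊔ cj k (Z j)) = cj a (Z j) ⊔ cj a (cj k (Z j)) from Subgroup.map_sup _ _ _,
        mem_normalizer_iff_cj.1 h1, mem_normalizer_iff_cj.1 (hKZ haR)]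
    exact fun r hr v hv => (mem_normalizer_iff.1 (h1 hr) v).1 hv
  -- 2-elements centralise `Z_j`
  have h2el : ∀ a ∈ K, (∃ n : ℕ, a ^ 2 ^ n = 1) → ∀ z ∈ Z j, a * z * a⁻¹ = z := fun a ha ⟨n, hn⟩ z hz =>
    AltQ.triv (FourQ.nb h.bg j) hLK hKW (FourQ.rt h.bg j)
      (fun r hr z hz => (mem_normalizer_iff.1 (hKZ hr) z).1 hz) ha hn ((h.bg.fr.blk j).ZV hz)
  obtain ⟨a, haK, ⟨n, hn⟩, w, hw, hne⟩ := hmv
  apply hne
  have h1 : NN Z j ≤ centralizer ({a} : Set G) := by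
    refine cls_le fun y hy => ?_
    rintro _ ⟨z, hz, rfl⟩
    rw [mem_centralizer_singleton_iff]
    have h3 : y⁻¹ * a * y ∈ K := (mem_normalizer_iff''.1 (hKn hy) a).1 haK
    have h4 : (y⁻¹ * a * y) ^ 2 ^ n = 1 := by
      have h3 : (y⁻¹ * a * y⁻¹⁻¹) ^ 2 ^ n = y⁻¹ * a ^ 2 ^ n * y⁻¹⁻¹ := conj_pow
      rw [inv_inv] at h3
      rw [h3, hn]
      group
    have h5 := h2el _ h3 ⟨n, h4⟩ z hz
    show y * z * y⁻¹ * a = a * (y * z * y⁻¹)
    calc y * z * y⁻¹ * a = y * z * (y⁻¹ * a * y) * y⁻¹ := by group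
      _ = y * (y⁻¹ * a * y * z * (y⁻¹ * a * y)⁻¹) * (y⁻¹ * a * y) * y⁻¹ := by rw [h5]
      _ = a * (y * z * y⁻¹) := by group
  exact (mem_centralizer_singleton_iff.1 (h1 hw)).symm

/-- **(2')**: `W_j - 1 ⊆ m^K`. -/
theorem gen_tr {m : G} (hm : m ∈ Z j) (hm1 : m ≠ 1) (hmT : T ≤ centralizer ({m} : Set G)) {v : G} (hv : v ∈ W j)
    (hv1 : v ≠ 1) : ∃ x ∈ K, x ∈ normalizer (W j : Set G) ∧ x * m * x⁻¹ = v := by
  obtain ⟨L', hL', hN⟩ := h.exists_par hT hBT hKY hKn hmv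
  obtain ⟨l, hl, e⟩ := AltQ.trL hN (FourQ.rt h.bg j) hv hv1 hm hm1
  -- `l = r t`
  obtain ⟨r, hr, t, ht, rfl⟩ : ∃ r ∈ K, ∃ t ∈ T, l = r * t := by
    have h1 : l⁻¹ ∈ T ⊔ K := by rw [sup_comm]; exact inv_mem (hL' hl)
    obtain ⟨t, ht, r, hr, e1⟩ := SQ1.Bau.mem_sup_norm (hT.1.trans hKn) h1
    exact ⟨r⁻¹, inv_mem hr, t⁻¹, inv_mem ht, by rw [← mul_inv_rev, ← e1, inv_inv]⟩
  refine ⟨r, hr, ?_, ?_⟩
  · have h1 : r * t ∈ normalizer (W j : Set G) :=
      ML.MinFrame.le_normalizer_of (R := L') (fun g hg x hx => hN.nV g hg x hx) hl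
    have h2 := mul_mem h1 (inv_mem (h.T_W hT hBT j ht))
    rwa [mul_inv_cancel_right] at h2
  · rw [← e]
    have h1 : t * m * t⁻¹ = m := by
      rw [mem_centralizer_singleton_iff.1 (hmT ht)]; group
    calc r * m * r⁻¹ = r * (t * m * t⁻¹) * r⁻¹ := by rw [h1]
      _ = r * t * m * (r * t)⁻¹ := by group

/-- **(2')**: `Y_j = K C_{Y_j}(m)`. -/
theorem gen_mul {m : G} (hm : m ∈ Z j) (hm1 : m ≠ 1) (hmT : T ≤ centralizer ({m} : Set G)) {y : G}
    (hy : y ∈ YY Z j) : ∃ x ∈ K, ∃ d ∈ YY Z j ⊓ centralizer ({m} : Set G), y = x * d := by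
  -- the elements `y` with `m^y ∈ m^K`
  let X : Subgroup G :=
    { carrier := {y | y ∈ YY Z j ∧ ∃ x ∈ K, y * m * y⁻¹ = x * m * x⁻¹}
      one_mem' := ⟨one_mem _, 1, one_mem _, by group⟩
      mul_mem' := by
        rintro a b ⟨ha, x, hx, ea⟩ ⟨hb, y, hy, eb⟩
        refine ⟨mul_mem ha hb, a * y * a⁻¹ * x, mul_mem ((mem_normalizer_iff.1 (hKn ha) y).1 hy) hx, ?_⟩
        calc a * b * m * (a * b)⁻¹ = a * (b * m * b⁻¹) * a⁻¹ := by group
          _ = a * y * a⁻¹ * (a * m * a⁻¹) * (a * y * a⁻¹)⁻¹ := by rw [eb]; group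
          _ = a * y * a⁻¹ * x * m * (a * y * a⁻¹ * x)⁻¹ := by rw [ea]; group
      inv_mem' := by
        rintro a ⟨ha, x, hx, ea⟩
        refine ⟨inv_mem ha, a⁻¹ * x⁻¹ * a, ?_, ?_⟩
        · exact (mem_normalizer_iff''.1 (hKn ha) _).1 (inv_mem hx)
        · have e1 : x⁻¹ * (a * m * a⁻¹) * x = m := by rw [ea]; group
          calc a⁻¹ * m * a⁻¹⁻¹ = a⁻¹ * (x⁻¹ * (a * m * a⁻¹) * x) * a := by rw [e1]; group
            _ = a⁻¹ * x⁻¹ * a * m * (a⁻¹ * x⁻¹ * a)⁻¹ := by group }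
  have hXW : ∀ y ∈ YY Z j, y * m * y⁻¹ ∈ W j → y ∈ X := by
    intro y hy hyW
    obtain ⟨x, hx, -, e⟩ := h.gen_tr hT hBT hKY hKn hmv hm hm1 hmT hyW fun e => hm1 (conj_eq_one_iff.1 e)
    exact ⟨hy, x, hx, e.symm⟩
  have hX : YY Z j ≤ X := by
    refine MinSimple.MinParabolic.le_of_forall hT.1 ?_ fun R hR hRY => ?_
    · rintro n ⟨hn, hnT⟩
      have hnB : n ∈ normalizer (B : Set G) := by
        rw [mem_normalizer_iff_cj]
        refine h.bg.wc T hT.2.1 hBT n ?_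
        rw [← mem_normalizer_iff_cj.1 hnT]
        exact cj_mono n hBT
      exact hXW n hn ((h.bg.fr.blk j).ZV ((mem_normalizer_iff.1 (h.norm_B j hn hnB j).1 m).1 hm))
    · rcases h.par hT hBT hR hRY with h1 | ⟨L', h1, h2, h3, -⟩
      · exact fun r hr => hXW r (hRY hr) ((h.bg.fr.blk j).ZV ((mem_normalizer_iff.1 (h1 hr) m).1 hm))
      · refine h2.trans (sup_le (fun l hl => hXW l (hRY (h1 hl)) (h3.nV l hl m (h3.ZV hm))) fun t ht => ?_)
        exact hXW t (hT.1 ht) ((h.bg.fr.blk j).ZV ((mem_normalizer_iff.1 (h.T_Z hT hBT j ht) m).1 hm))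
  obtain ⟨-, x, hx, e⟩ := hX hy
  refine ⟨x, hx, x⁻¹ * y, mem_inf.2 ⟨mul_mem (inv_mem (hKY hx)) hy, ?_⟩, by group⟩
  rw [mem_centralizer_singleton_iff]
  have e2 : x⁻¹ * y * m * (x⁻¹ * y)⁻¹ = m := by
    calc x⁻¹ * y * m * (x⁻¹ * y)⁻¹ = x⁻¹ * (y * m * y⁻¹) * x := by group
      _ = m := by rw [e]; group
  exact mul_inv_eq_iff_eq_mul.1 e2

/-- **(2')**: `N_j = ⟨m^K⟩`. -/
theorem N_eq {m : G} (hm : m ∈ Z j) (hm1 : m ≠ 1) (hmT : T ≤ centralizer ({m} : Set G)) : NN Z j = ocl m K := by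
  apply le_antisymm
  · refine cls_le fun y hy => ?_
    rintro _ ⟨z, hz, rfl⟩
    show y * z * y⁻¹ ∈ ocl m K
    by_cases hz1 : z = 1
    · rw [hz1]; simp
    obtain ⟨x, hx, -, e⟩ := h.gen_tr hT hBT hKY hKn hmv hm hm1 hmT ((h.bg.fr.blk j).ZV hz) hz1
    obtain ⟨x', hx', d, hd, e'⟩ := h.gen_mul hT hBT hKY hKn hmv hm hm1 hmT (mul_mem hy (hKY hx))
    have h1 : d * m * d⁻¹ = m := by rw [mem_centralizer_singleton_iff.1 hd.2]; group
    have e2 : y * z * y⁻¹ = x' * m * x'⁻¹ := by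
      calc y * z * y⁻¹ = (y * x) * m * (y * x)⁻¹ := by rw [← e]; group
        _ = x' * (d * m * d⁻¹) * x'⁻¹ := by rw [e']; group
        _ = x' * m * x'⁻¹ := by rw [h1]
    rw [e2]
    exact mem_ocl hx'
  · refine ocl_le fun x hx => ?_
    exact (mem_normalizer_iff.1 (h.N_norm j (hKY hx)) m).1 (h.Z_le_N j hm)

/-- `N_j = ⟨m^C⟩` for `K ≤ C ≤ Y_j`. -/
theorem N_eq' {m : G} (hm : m ∈ Z j) (hm1 : m ≠ 1) (hmT : T ≤ centralizer ({m} : Set G)) {C' : Subgroup G}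
    (hKC : K ≤ C') (hCY : C' ≤ YY Z j) : NN Z j = ocl m C' := by
  apply le_antisymm
  · rw [h.N_eq hT hBT hKY hKn hmv hm hm1 hmT]
    exact ocl_mono hKC
  · refine ocl_le fun x hx => ?_
    exact (mem_normalizer_iff.1 (h.N_norm j (hCY hx)) m).1 (h.Z_le_N j hm)

/-- `N_j = ⟨Z_j^K⟩` -/
theorem N_eq_cls : NN Z j = cls (Z j) K := by
  obtain ⟨m, hm, hm1, hmT⟩ := h.exists_m hT hBT
  apply le_antisymm
  · rw [h.N_eq hT hBT hKY hKn hmv hm hm1 hmT]
    exact ocl_le fun x hx => cj_le_cls hx ⟨m, hm, rfl⟩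
  · exact cls_le fun y hy => cj_le_cls (hKY hy)

/-- **LEMMA G'**: `K ≤ C(W_i)`, `i ≠ j`: `L_i` normalises `N_j`; more generally every `X ≤ N(W_i)` which centralises
`m` and the `Z_l`, `l ≠ i, j`. -/
theorem gLem {i : Fin k} (hij : i ≠ j) (hKW : K ≤ centralizer (W i : Set G)) {X : Subgroup G}
    (hXW : X ≤ normalizer (W i : Set G)) (hXZ : ∀ l, l ≠ i → l ≠ j → X ≤ centralizer (Z l : Set G))
    {m : G} (hm : m ∈ Z j) (hm1 : m ≠ 1) (hmT : T ≤ centralizer ({m} : Set G)) (hXm : X ≤ centralizer ({m} : Set G)) :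
    X ≤ normalizer (NN Z j : Set G) := by
  rw [h.N_eq' hT hBT hKY hKn hmv hm hm1 hmT (C' := YY Z j ⊓ centralizer (W i : Set G)) (le_inf hKY hKW) inf_le_left]
  refine ocl_norm ?_ hXm
  have hC : YY Z j ⊓ centralizer (W i : Set G) =
      (⨅ l : {l : Fin k // l ≠ i ∧ l ≠ j}, centralizer (Z l : Set G)) ⊓ centralizer (W i : Set G) := by
    ext x
    rw [mem_inf, mem_inf, mem_YY, mem_iInf]
    constructor
    · rintro ⟨h1, h2⟩
      exact ⟨fun l => mem_centralizer_iff.2 fun z hz => (h1 l l.2.2 z hz).symm, h2⟩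
    · rintro ⟨h1, h2⟩
      refine ⟨fun l hl z hz => ?_, h2⟩
      by_cases hli : l = i
      · subst hli
        exact (mem_centralizer_iff.1 h2 z ((h.bg.fr.blk l).ZV hz)).symm
      · exact (mem_centralizer_iff.1 (h1 ⟨l, hli, hl⟩) z hz).symm
  rw [hC]
  intro x hx
  rw [mem_normalizer_iff_cj, cj_inf, cj_centralizer, mem_normalizer_iff_cj.1 (hXW hx)]
  congr 1
  have h3 : ∀ l : {l : Fin k // l ≠ i ∧ l ≠ j}, cj x (centralizer (Z l : Set G)) = centralizer (Z l : Set G) := by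
    intro l
    rw [cj_centralizer, mem_normalizer_iff_cj.1 (centralizer_le_normalizer _ (hXZ l l.2.1 l.2.2 hx))]
  have hk := h.three
  have h5 : ∀ y : G, (∀ l : {l : Fin k // l ≠ i ∧ l ≠ j}, cj y (centralizer (Z l : Set G)) = centralizer (Z l : Set G)) →
      cj y (⨅ l : {l : Fin k // l ≠ i ∧ l ≠ j}, centralizer (Z l : Set G)) ≤
        ⨅ l : {l : Fin k // l ≠ i ∧ l ≠ j}, centralizer (Z l : Set G) := fun y hy => le_iInf fun l => by
    rw [← hy l]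
    exact cj_mono y (iInf_le _ l)
  apply le_antisymm (h5 x h3)
  have h6 := h5 x⁻¹ fun l => by
    conv_lhs => rw [← h3 l]
    rw [cj_inv_cj]
  have h7 := cj_mono x h6
  rwa [cj_cj, mul_inv_cancel, cj_one] at h7

theorem gLem_L {i : Fin k} (hij : i ≠ j) (hKW : K ≤ centralizer (W i : Set G)) : L i ≤ normalizer (NN Z j : Set G) := by
  obtain ⟨m, hm, hm1, hmT⟩ := h.exists_m hT hBT
  refine h.gLem hT hBT hKY hKn hmv hij hKW ?_ (fun l hl _ => (h.L_le i).trans (YY_le hl)) hm hm1 hmT ?_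
  · exact ML.MinFrame.le_normalizer_of fun g hg x hx => (FourQ.nb h.bg i).nV g hg x hx
  · exact (h.L_le i).trans ((YY_le hij.symm).trans (centralizer_le (Set.singleton_subset_iff.2 hm)))

end gen

/-! ### (NO) -/

/-- `O₂(D) ≤ O₂(C_{Y_j}(m))` -/
theorem o2D_le {j : Fin k} {m : G} (hm : m ∈ Z j) (hm1 : m ≠ 1) :
    o2 (centralizer (ZJ : Set G)) ≤ o2 (YY Z j ⊓ centralizer ({m} : Set G)) := by
  refine le_o2 (isPGroup_o2 _) ((MinSimple.VModule.o2_le _).trans (le_inf (h.D_le j)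
    (centralizer_le (Set.singleton_subset_iff.2 (h.bg.fr.Z_le j hm))))) ?_
  rintro x ⟨hx, hxm⟩
  have h1 : x ∈ normalizer ((centralizer (ZJ : Set G) : Subgroup G) : Set G) := by
    rw [mem_normalizer_iff_cj, cj_centralizer, mem_normalizer_iff_cj.1 (h.norm_ZJ' j hx (h.cent_m hm hm1 hxm))]
  rw [mem_normalizer_iff_cj, ← pCore_cj, mem_normalizer_iff_cj.1 h1]

/-- **(NO)** -/
theorem no (hML : MLK.{u, u}) {j : Fin k} {T : Subgroup G} (hT : Syl T (YY Z j)) (hBT : B ≤ T) {m : G} (hm : m ∈ Z j)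
    (hm1 : m ≠ 1) (hmT : T ≤ centralizer ({m} : Set G)) (hK : IsKGroup (YY Z j)) {A : Subgroup G}
    (hA : A ≤ o2 (YY Z j ⊓ centralizer ({m} : Set G))) (hA2 : ∀ a ∈ A, a ^ 2 = 1) :
    (centralizer (NN Z j : Set G)).relIndex A ≤ (centralizer (A : Set G)).relIndex (NN Z j) := by
  have hmain : (A ⊓ centralizer (NN Z j : Set G)).relIndex A ≤
      (NN Z j ⊓ centralizer (A : Set G)).relIndex (NN Z j) := by
    refine hML.grp (C := YY Z j) (W := NN Z j) (Y := ⊥) (T := T)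
      (Q := o2 (YY Z j ⊓ centralizer ({m} : Set G))) (A := A) (w := m) hK
      { nW := h.N_norm j
        nY := fun x _ => by
          rw [mem_normalizer_iff]
          intro y
          rw [mem_bot, mem_bot, conj_eq_one_iff]
        YW := bot_le
        WY := fun x _ => by
          rw [mem_normalizer_iff]
          intro y
          rw [mem_bot, mem_bot, conj_eq_one_iff]
        sq := fun x hx => by
          rw [mem_bot, ← pow_two]
          exact h.NN_sq j hx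
        mem := h.Z_le_N j hm
        gen := fun U hmU _ hU => by
          refine cls_min (fun z hz => ?_) hU
          by_cases hz1 : z = 1
          · rw [hz1]; exact one_mem _
          obtain ⟨l, hl, e⟩ := AltQ.trL (FourQ.nb h.bg j) (FourQ.rt h.bg j) ((h.bg.fr.blk j).ZV hz) hz1 hm hm1
          rw [← e]
          exact (mem_normalizer_iff.1 (hU (h.L_le j hl)) m).1 hmU
        TC := hT.1
        two := hT.2.1
        odd := syl_not_dvd hT
        fixT := fun t ht => by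
          rw [mem_bot, mem_centralizer_singleton_iff.1 (hmT ht)]; group
        QC := (MinSimple.VModule.o2_le _).trans inf_le_left
        Q2 := isPGroup_o2 _
        fixQ := fun x hx => by
          rw [mem_bot, mem_centralizer_singleton_iff.1 (MinSimple.VModule.o2_le _ hx).2]; group
        nrmQ := fun g hg hgm x hx => by
          rw [mem_bot, mul_inv_eq_one] at hgm
          have h1 : g ∈ YY Z j ⊓ centralizer ({m} : Set G) := by
            refine mem_inf.2 ⟨hg, ?_⟩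
            rw [mem_centralizer_singleton_iff]
            exact mul_inv_eq_iff_eq_mul.1 hgm
          exact (mem_normalizer_iff.1 (le_normalizer_o2 _ h1) x).1 hx
        AQ := hA
        Asq := fun a ha x hx => by
          have h1 := hA2 a ha
          rw [mem_bot]
          calc a * (a * x * a⁻¹) * a⁻¹ * x⁻¹ = a ^ 2 * x * (a ^ 2)⁻¹ * x⁻¹ := by rw [pow_two]; group
            _ = 1 := by rw [h1]; group } ?_ ?_
    · intro a
      rw [mem_inf]
      refine and_congr_right fun ha => ?_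
      rw [mem_centralizer_iff]
      refine forall₂_congr fun x hx => ?_
      rw [mem_bot, mul_inv_eq_one, mul_inv_eq_iff_eq_mul, eq_comm]
    · intro x
      rw [mem_inf]
      refine and_congr_right fun hx => ?_
      rw [mem_centralizer_iff]
      refine forall₂_congr fun a ha => ?_
      rw [mem_bot, mul_inv_eq_one, mul_inv_eq_iff_eq_mul]
  rwa [inf_relIndex_left, inf_relIndex_left] at hmain

/-- **(NO)** for `A ≤ O₂(D)` -/
theorem no_D (hML : MLK.{u, u}) {j : Fin k} (hK : IsKGroup (YY Z j)) {A : Subgroup G}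
    (hA : A ≤ o2 (centralizer (ZJ : Set G))) (hA2 : ∀ a ∈ A, a ^ 2 = 1) :
    (centralizer (NN Z j : Set G)).relIndex A ≤ (centralizer (A : Set G)).relIndex (NN Z j) := by
  obtain ⟨T, hT, hBT⟩ := h.exists_T j
  obtain ⟨m, hm, hm1, hmT⟩ := h.exists_m hT hBT
  exact h.no hML hT hBT hm hm1 hmT hK (hA.trans (h.o2D_le hm hm1)) hA2

/-! ### (E) -/

theorem K_eq : KZ B ZJ = centralizer (ZJ : Set G) ⊔ ⨆ i, L i := by
  apply le_antisymm
  · refine sup_le le_sup_left (iSup_le ?_)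
    rintro ⟨⟨L', V'⟩, hb⟩
    obtain ⟨i, -, hle⟩ := h.uni L' V' hb
    refine hle.trans (sup_le (le_sup_of_le_right (le_iSup L i)) (le_sup_of_le_left (centralizer_le ?_)))
    exact_mod_cast (le_sup_right : ZJ ≤ W i ⊔ ZJ)
  · refine sup_le le_sup_left (iSup_le fun i => ?_)
    exact LevD.blk_le_K0 (V := W i) ⟨⟨_, _, h.bg.fr.blk i⟩, h.bg.block i⟩

/-- **(E)** -/
theorem nonloc (hE : NLoc (KZ B ZJ)) {R : Subgroup G} (hR : IsPGroup 2 R)
    (hD : centralizer (ZJ : Set G) ≤ normalizer (R : Set G)) (hL : ∀ i, L i ≤ normalizer (R : Set G)) : R = ⊥ := by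
  rw [h.K_eq] at hE
  exact hE R hR (sup_le hD (iSup_le hL))

end FrQ

end Cfsg.Agent.Omega.EK3.QI

end

section


/-!
# EK3: one minimal offender, conjugated by `x ∈ L i`, is low for `z j` and for `V i` (bb #23133 (s1)-(s4); helper712)

Over `Star.SIn`, with `E i j ≤ ⟨ZJ ^ ⟨Y i, Y j⟩⟩`:

* `Out` : the output;
* **`SIn.exists_out`** : for some `i ≠ j` there is a minimal offender `F ≤ O` of `E i j` which centralises `N i`, moves `N j`,
  `[E i j, F] ≤ N j`, `C_F(N j)` centralises `E i j`, `F` is exact on `N j` and on `E i j`, `F ≤ O₂(C_{Y j}(V i))`.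

No GAUSS, no LEMMA FIX, no `V i ≤ N j ZJ`.
-/

set_option autoImplicit false
set_option linter.unusedSectionVars false
set_option linter.unusedVariables false

namespace Cfsg.Agent.Omega.EK3.Star

open Subgroup Cfsg Cfsg.Agent.ZN.ChoiceBase Cfsg.Agent.ZN.ChoiceSit
open Cfsg.Agent.ZN (zc zl o2)
open Cfsg.Agent.Omega.NO3S.EThree
open Cfsg.Agent.MinSimple.VModule (o2_isPGroup le_o2 o2_le)
open scoped commutatorElement

universe u

variable {G : Type u} [Group G] {ι : Type*}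

/-- **The output of (s1)-(s4).** -/
structure Out (D O : Subgroup G) (L Y N V : ι → Subgroup G) (E : Subgroup G) (i j : ι) (F : Subgroup G) : Prop where
  FO : F ≤ O
  el : IsElementaryAbelian 2 F
  ci : F ≤ centralizer (N i : Set G)
  mv : ¬ F ≤ centralizer (N j : Set G)
  /-- `[E, F] ≤ N j` -/
  comm : ∀ e ∈ E, ∀ f ∈ F, ⁅e, f⁆ ∈ N j
  /-- `E = N j C_E(F)` -/
  sup : E ≤ N j ⊔ (E ⊓ centralizer (F : Set G))
  /-- `C_F(N j) ≤ C(E)` -/
  cent : F ⊓ centralizer (N j : Set G) ≤ centralizer (E : Set G)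
  /-- exact on `E` -/
  exE : (centralizer (E : Set G)).relIndex F = (centralizer (F : Set G)).relIndex E
  /-- exact on `N j` -/
  exN : (centralizer (N j : Set G)).relIndex F = (centralizer (F : Set G)).relIndex (N j)
  eqEN : (centralizer (F : Set G)).relIndex E = (centralizer (F : Set G)).relIndex (N j)
  /-- `F` is a conjugate of a group which centralises `N j`, by an element of `L i` -/
  ex : ∃ F₀ : Subgroup G, F₀ ≤ O ∧ F₀ ≤ centralizer (N i : Set G) ∧ F₀ ≤ centralizer (N j : Set G) ∧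
    ∃ x ∈ L i, F = cj x F₀

namespace SIn

variable {D O ZJ : Subgroup G} {L Y N V : ι → Subgroup G} {E : ι → ι → Subgroup G}
  (h : SIn D O ZJ L Y N V E)
include h

theorem YiE {i j : ι} (hij : i ≠ j) : Y i ≤ normalizer (E i j : Set G) := by
  rw [h.Esymm i j hij]
  exact h.EY j i hij.symm

theorem NiE {i j : ι} (hij : i ≠ j) : N i ≤ E i j := by
  rw [h.Esymm i j hij]
  exact h.NE j i hij.symm

variable [Finite G]

/-- the minimal offender -/
theorem exists_F [Finite ι] (hDZ : D ≤ centralizer (ZJ : Set G))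
    (gen : ∀ i j, i ≠ j → E i j ≤ ⨆ y : (Y i ⊔ Y j : Subgroup G), cj (y : G) ZJ) :
    ∃ i j, i ≠ j ∧ ∃ F₀ : Subgroup G, IsElementaryAbelian 2 F₀ ∧ MinOff (E i j) F₀ ∧ F₀ ≤ O ∧
      F₀ ≤ centralizer (N i : Set G) ∧ F₀ ≤ centralizer (N j : Set G) ∧ ∃ x ∈ L i,
        ¬ cj x F₀ ≤ centralizer (N j : Set G) := by
  classical
  obtain ⟨i, j, hij, A, hA, hAl, x, hx, hn⟩ := h.exists_move
  -- `A` offends `E i j`
  have hAE : ¬ A ≤ centralizer (E i j : Set G) := by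
    intro hc
    apply hn
    have h1 := cj_mono x hc
    rw [cj_centralizer, cj_eq_of_mem_normalizer (h.YiE hij (h.LY i hx))] at h1
    exact h1.trans (centralizer_le (h.NE i j hij))
  have hAn : A ≤ normalizer (E i j : Set G) := ((hA.2.1.trans h.OD).trans (h.DY j)).trans (h.EY i j hij)
  obtain ⟨F, hFA, hF⟩ := (Lever.offd_of_AA (h.Eel i j hij) (h.EO i j hij) hA hAn hAE).exists_min
  let 𝓔 : Set (Subgroup G) := {F | IsElementaryAbelian 2 F ∧ MinOff (E i j) F ∧ F ≤ O ∧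
    F ≤ centralizer (N i : Set G) ∧ F ≤ centralizer (N j : Set G)}
  have hFE : F ∈ 𝓔 := ⟨el_mono hA.1 hFA, hF, hFA.trans hA.2.1, hFA.trans (hAl i), hFA.trans (hAl j)⟩
  by_contra hcon
  push Not at hcon
  -- `𝓔` is invariant
  have hYi : ∀ y ∈ Y i, ∀ F ∈ 𝓔, IsElementaryAbelian 2 (cj y F) ∧ MinOff (E i j) (cj y F) ∧ cj y F ≤ O ∧
      cj y F ≤ centralizer (N i : Set G) := by
    intro y hy F hF
    have h1 : cj y F ≤ O ⊓ centralizer (N i : Set G) := by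
      have h2 := cj_mono y (le_inf hF.2.2.1 hF.2.2.2.1)
      rwa [cj_eq_of_mem_normalizer (h.YQ i hy)] at h2
    have h3 := Lever.minOff_cj hF.2.1 y
    rw [cj_eq_of_mem_normalizer (h.YiE hij hy)] at h3
    exact ⟨isElementaryAbelian_cj y hF.1, h3, h1.trans inf_le_left, h1.trans inf_le_right⟩
  have hYj : ∀ y ∈ Y j, ∀ F ∈ 𝓔, IsElementaryAbelian 2 (cj y F) ∧ MinOff (E i j) (cj y F) ∧ cj y F ≤ O ∧
      cj y F ≤ centralizer (N j : Set G) := by
    intro y hy F hF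
    have h1 : cj y F ≤ O ⊓ centralizer (N j : Set G) := by
      have h2 := cj_mono y (le_inf hF.2.2.1 hF.2.2.2.2)
      rwa [cj_eq_of_mem_normalizer (h.YQ j hy)] at h2
    have h3 := Lever.minOff_cj hF.2.1 y
    rw [cj_eq_of_mem_normalizer (h.EY i j hij hy)] at h3
    exact ⟨isElementaryAbelian_cj y hF.1, h3, h1.trans inf_le_left, h1.trans inf_le_right⟩
  let H : Subgroup G :=
    { carrier := {y | (∀ B ∈ 𝓔, cj y B ∈ 𝓔) ∧ ∀ B ∈ 𝓔, cj y⁻¹ B ∈ 𝓔}
      one_mem' := ⟨fun B hB => by rwa [cj_one], fun B hB => by rwa [inv_one, cj_one]⟩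
      mul_mem' := by
        rintro a b ⟨ha, ha'⟩ ⟨hb, hb'⟩
        refine ⟨fun B hB => ?_, fun B hB => ?_⟩
        · rw [← cj_cj]
          exact ha _ (hb B hB)
        · rw [mul_inv_rev, ← cj_cj]
          exact hb' _ (ha' B hB)
      inv_mem' := by
        rintro a ⟨ha, ha'⟩
        exact ⟨ha', by rwa [inv_inv]⟩ }
  have hD : D ≤ H := by
    have key : ∀ y ∈ D, ∀ B ∈ 𝓔, cj y B ∈ 𝓔 := by
      intro y hy B hB
      have h1 := hYi y (h.DY i hy) B hB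
      have h2 := hYj y (h.DY j hy) B hB
      exact ⟨h1.1, h1.2.1, h1.2.2.1, h1.2.2.2, h2.2.2.2⟩
    exact fun y hy => ⟨key y hy, key y⁻¹ (inv_mem hy)⟩
  have hLi : L i ≤ H := by
    have key : ∀ y ∈ L i, ∀ B ∈ 𝓔, cj y B ∈ 𝓔 := by
      intro y hy B hB
      have h1 := hYi y (h.LY i hy) B hB
      exact ⟨h1.1, h1.2.1, h1.2.2.1, h1.2.2.2, hcon i j hij B hB.1 hB.2.1 hB.2.2.1 hB.2.2.2.1 hB.2.2.2.2 y hy⟩
    exact fun y hy => ⟨key y hy, key y⁻¹ (inv_mem hy)⟩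
  have hLj : L j ≤ H := by
    have key : ∀ y ∈ L j, ∀ B ∈ 𝓔, cj y B ∈ 𝓔 := by
      intro y hy B hB
      have h1 := hYj y (h.LY j hy) B hB
      have h2 : MinOff (E j i) B := by
        rw [← h.Esymm i j hij]
        exact hB.2.1
      exact ⟨h1.1, h1.2.1, h1.2.2.1, hcon j i hij.symm B hB.1 h2 hB.2.2.1 hB.2.2.2.2 hB.2.2.2.1 y hy, h1.2.2.2⟩
    exact fun y hy => ⟨key y hy, key y⁻¹ (inv_mem hy)⟩
  have hY : Y i ⊔ Y j ≤ H := by
    rw [h.Yeq i, h.Yeq j]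
    exact sup_le (sup_le hD hLi) (sup_le hD hLj)
  -- `F` centralises `E`
  apply hF.mov
  have h1 : E i j ≤ centralizer (F : Set G) := by
    refine (gen i j hij).trans (iSup_le fun y => ?_)
    have h2 := ((hY y.2).2 F hFE).2.2.1.trans (h.OD.trans hDZ)
    have h3 := cj_mono (y : G) h2
    rw [cj_cj_inv, cj_centralizer] at h3
    exact Subgroup.le_centralizer_iff.1 h3
  exact Subgroup.le_centralizer_iff.1 h1

/-- **(s1)-(s3)** -/
theorem exists_out [Finite ι] (hDZ : D ≤ centralizer (ZJ : Set G))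
    (gen : ∀ i j, i ≠ j → E i j ≤ ⨆ y : (Y i ⊔ Y j : Subgroup G), cj (y : G) ZJ) :
    ∃ i j, i ≠ j ∧ ∃ F : Subgroup G, Out D O L Y N V (E i j) i j F := by
  obtain ⟨i, j, hij, F₀, he, hF₀, hFO, hFi, hFj, x, hx, hn⟩ := h.exists_F hDZ gen
  have h1 : cj x F₀ ≤ O ⊓ centralizer (N i : Set G) := by
    have h2 := cj_mono x (le_inf hFO hFi)
    rwa [cj_eq_of_mem_normalizer (h.YQ i (h.LY i hx))] at h2
  have h3 : MinOff (E i j) (cj x F₀) := by
    have h3 := Lever.minOff_cj hF₀ x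
    rwa [cj_eq_of_mem_normalizer (h.YiE hij (h.LY i hx))] at h3
  have hel := isElementaryAbelian_cj x he
  have hno := h.no j _ hel (h1.trans inf_le_left)
  have hN := h.NE i j hij
  have hE := le_cent (h.Eel i j hij)
  obtain ⟨r1, r2, r3⟩ := h3.relIndex_eq hN hn hno
  refine ⟨i, j, hij, cj x F₀, h1.trans inf_le_left, hel, h1.trans inf_le_right, hn, fun e he f hf => ?_,
    h3.le_sup hN hn hno, h3.inf_le hN hn hno, r1.trans r2.symm, r3, r2, F₀, hFO, hFi, hFj, x, hx, rfl⟩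
  have h4 : ⁅e, f⁆ ∈ ⁅E i j, cj x F₀⁆ := commutator_mem_commutator he hf
  rw [h3.commutator_eq hN hn hno hE] at h4
  have h5 : ⁅N j, cj x F₀⁆ ≤ N j := by
    rw [commutator_le]
    intro n hn x' hx'
    have h6 := (mem_normalizer_iff.1 (h.YN j (h.DY j (h.OD ((h1 hx').1)))) n⁻¹).1 (inv_mem hn)
    rw [commutatorElement_def]
    have e : n * x' * n⁻¹ * x'⁻¹ = n * (x' * n⁻¹ * x'⁻¹) := by group
    rw [e]
    exact mul_mem hn h6
  exact h5 h4

end SIn

/-- **(s4)**: `F ≤ O₂(C_{Y j}(V i))` -/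
theorem Out.low {D O : Subgroup G} {L Y N V : ι → Subgroup G} {E : Subgroup G} {i j : ι} {F Z : Subgroup G}
    (h : Out D O L Y N V E i j F) (hO : O = o2 D) (hDY : D ≤ Y j) (hZN : Z ≤ N j)
    (hYN : Y j ≤ normalizer (N j : Set G)) (hst : Y j ⊓ centralizer (Z : Set G) ≤ D)
    (hC : L i ≤ normalizer ((Y j ⊓ centralizer (V i : Set G) : Subgroup G) : Set G))
    (hZ : L i ≤ centralizer (Z : Set G)) (hVN : V i ≤ N i) : F ≤ o2 (Y j ⊓ centralizer (V i : Set G)) := by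
  obtain ⟨F₀, -, -, hFj, x, hx, rfl⟩ := h.ex
  exact Star.low hDY hZN hYN hst hC hZ hFj hx (h.FO.trans hO.le) (h.ci.trans (centralizer_le hVN))

end Cfsg.Agent.Omega.EK3.Star

end
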