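import Cfsg.Agent.Mrg.Omega.NO3S.EThree.Frame
import Cfsg.Agent.Mrg.Omega.NOne.LemmaT
import Cfsg.Agent.Omega.NoFF.Basic
import Cfsg.Agent.Mrg.Omega.EK3.Rank
import Cfsg.Agent.Involutions.BaerSuzuki

section


/-!
# THEOREM K3 (helper474, #22123), step (0): the local groups `C_T = C_G(z_l : l ∈ T)`

Frame `Bg S P B ZJ L W Z C 2`, `Z i = {1, z i}`.

* `ZJ_le` : `ZJ = ∏ Z i`;
* `o2_CT_le_B`, `o2_CT_le_cent`, `o2_CT_le_o2`, `o2_CT_le_of_le` : `O₂(C_T) ≤ B`, `O₂(C_T) ≤ C(ZJ)`, `O₂(C_T) ≤ O₂(C(ZJ))`,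
  `O₂(C_T) ≤ O₂(X)` for `C(ZJ) ≤ X ≤ C_T`;
* `char2_CT` (`T ≠ ∅`); `ET ZJ z T = ⟨ZJ^(C_T)⟩`: `ET_le_zc` : `ET ≤ Ω₁Z(O₂(C_T))`, `ET_sq`, `ET_comm`, `ET_le_o2`;
* `V_le_ET` : `⟨Z₀^Y⟩ ≤ ET` for `Z₀ ≤ ZJ`, `Y ≤ C_T`.
-/

set_option autoImplicit false
set_option linter.unusedSectionVars false

namespace Cfsg.Agent.Omega.EK3

open Subgroup Cfsg Cfsg.Agent.ZN.ChoiceBase
open Cfsg.Agent.ZN (zc zl o2)
open Cfsg.Agent.ZN.ChoiceSit (Syl)
open Cfsg.Agent.Omega.NO3S.EThree.Frame (Bg Fg)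
open scoped Pointwise

universe u

variable {G : Type u} [Group G] {S : Sylow 2 G} {P B ZJ : Subgroup G} {ι : Type} {L W Z C : ι → Subgroup G}
  {z : ι → G} {T : Set ι}

/-- `C_T = C_G(z_l : l ∈ T)` -/
def CT (z : ι → G) (T : Set ι) : Subgroup G := centralizer (z '' T)

theorem mem_CT {x : G} : x ∈ CT z T ↔ ∀ l ∈ T, x * z l = z l * x := by
  unfold CT
  rw [mem_centralizer_iff]
  constructor
  · exact fun h l hl => (h _ ⟨l, hl, rfl⟩).symm
  · rintro h _ ⟨l, hl, rfl⟩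
    exact (h l hl).symm

theorem CT_mono {T' : Set ι} (h : T ⊆ T') : CT z T' ≤ CT z T := centralizer_le (Set.image_mono h)

section frame

variable [Finite G]

/-- `ZJ = ∏ Z i` -/
theorem ZJ_le [Finite ι] (h : Bg S P B ZJ L W Z C 2) : ZJ ≤ ⨆ i, Z i := by
  classical
  have : Fintype ι := Fintype.ofFinite ι
  have key : ∀ s : Finset ι, ∀ v ∈ ZJ, ∃ w ∈ (⨆ i, Z i), w⁻¹ * v ∈ ZJ ∧ ∀ i ∈ s, w⁻¹ * v ∈ C i := by
    intro s
    induction s using Finset.induction_on with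
    | empty => exact fun v hv => ⟨1, one_mem _, by simpa using hv, fun i hi => by simp at hi⟩
    | insert j s hj ih =>
      intro v hv
      obtain ⟨w, hw, hwV, hwC⟩ := ih v hv
      obtain ⟨a, ha, c, hc, hcJ, e⟩ := h.fr.split_ZJ j hwV
      have e1 : (w * a)⁻¹ * v = a⁻¹ * (w⁻¹ * v) := by group
      have e2 : a⁻¹ * (w⁻¹ * v) = c := by rw [e]; group
      refine ⟨w * a, mul_mem hw ((le_iSup Z j) ha), by rw [e1, e2]; exact hcJ, fun i hi => ?_⟩
      rw [e1]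
      rcases Finset.mem_insert.1 hi with rfl | hi
      · rw [e2]
        exact hc
      · have hij : i ≠ j := fun e => hj (e ▸ hi)
        exact mul_mem (inv_mem (h.fr.WjC i j hij ((h.fr.blk j).ZV ha))) (hwC i hi)
  intro v hv
  obtain ⟨w, hw, hwV, hwC⟩ := key Finset.univ v hv
  have h1 := h.fr.C0 (w⁻¹ * v) (h.fr.ZJV hwV) fun i => hwC i (Finset.mem_univ i)
  have h2 : v = w := (inv_mul_eq_one.1 h1).symm
  rw [h2]
  exact hw

variable (h : Bg S P B ZJ L W Z C 2) (hz : ∀ i x, x ∈ Z i ↔ x = 1 ∨ x = z i)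
include h hz

theorem z_mem_Z (i : ι) : z i ∈ Z i := (hz i _).2 (Or.inr rfl)

theorem z_mem (i : ι) : z i ∈ ZJ := h.fr.Z_le i (z_mem_Z h hz i)

theorem z_ne (i : ι) : z i ≠ 1 := by
  intro e
  apply h.Z_ne i
  rw [eq_bot_iff]
  intro x hx
  rcases (hz i x).1 hx with e1 | e1
  · exact mem_bot.2 e1
  · exact mem_bot.2 (e1.trans e)

theorem z_sq (i : ι) : z i ^ 2 = 1 := h.fr.Vsq (h.fr.ZJV (z_mem h hz i))

/-- an element of `Z i` other than `1` is `z i` -/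
theorem eq_z {i : ι} {x : G} (hx : x ∈ Z i) (hx1 : x ≠ 1) : x = z i := ((hz i x).1 hx).resolve_left hx1

theorem mem_cent_ZJ [Finite ι] {x : G} (hx : ∀ i, x * z i = z i * x) : x ∈ centralizer (ZJ : Set G) := by
  have h1 : ZJ ≤ centralizer ({x} : Set G) := by
    refine (ZJ_le h).trans (iSup_le fun i y hy => ?_)
    rw [mem_centralizer_singleton_iff]
    rcases (hz i y).1 hy with rfl | rfl
    · simp
    · exact (hx i).symm
  rw [mem_centralizer_iff]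
  exact fun y hy => mem_centralizer_singleton_iff.1 (h1 hy)

theorem cent_le_CT : centralizer (ZJ : Set G) ≤ CT z T := by
  refine centralizer_le ?_
  rintro _ ⟨l, -, rfl⟩
  exact z_mem h hz l

theorem B_le_cent : B ≤ centralizer (ZJ : Set G) := by
  intro b hb
  rw [mem_centralizer_iff]
  exact fun v hv => (((h.fr.mem_ZJ v).1 hv).2 b hb).symm

/-- `L i ≤ C_T` for `i ∉ T` -/
theorem L_le_CT {i : ι} (hi : i ∉ T) : L i ≤ CT z T := by
  intro x hx
  rw [mem_CT]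
  intro l hl
  have hil : i ≠ l := fun e => hi (e ▸ hl)
  exact h.fr.LC i x hx (z l) (z_mem h hz l) (h.fr.WjC i l hil ((h.fr.blk l).ZV (z_mem_Z h hz l)))

theorem cj_Z {g : G} (hg : g ∈ normalizer (B : Set G)) (i : ι) : ∃ j, g * z i * g⁻¹ = z j := by
  obtain ⟨-, hp⟩ := h.nrm g hg
  obtain ⟨j, hj, -⟩ := hp i
  refine ⟨j, eq_z h hz ?_ (fun e => z_ne h hz i (conj_eq_one_iff.1 e))⟩
  rw [← hj]
  exact ⟨z i, z_mem_Z h hz i, rfl⟩

theorem mem_Z_of_mem_W {i : ι} {x : G} (hx : x ∈ W i) (hxJ : x ∈ ZJ) : x ∈ Z i :=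
  (h.fr.blk i).mem_Z_iff.2 ⟨hx, fun b hb => ((h.fr.mem_ZJ x).1 hxJ).2 b hb⟩

theorem z_inj {i j : ι} (e : z i = z j) : i = j := by
  by_contra hij
  have h1 : z i ∈ W i ⊓ C i := mem_inf.2 ⟨(h.fr.blk i).ZV (z_mem_Z h hz i), by
    rw [e]; exact h.fr.WjC i j hij ((h.fr.blk j).ZV (z_mem_Z h hz j))⟩
  rw [h.fr.dir i, mem_bot] at h1
  exact z_ne h hz i h1

/-- some `ρ ∈ L i` moves `z i` -/
theorem exists_rho (i : ι) : ∃ ρ ∈ L i, ρ * z i * ρ⁻¹ ∈ W i ∧ ρ * z i * ρ⁻¹ ∉ ZJ := by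
  have h1 := h.Z_cent_L i (z_mem_Z h hz i) (z_ne h hz i)
  rw [mem_centralizer_iff] at h1
  push Not at h1
  obtain ⟨ρ, hρ, hne⟩ := h1
  have hW : ρ * z i * ρ⁻¹ ∈ W i := (h.fr.blk i).nV ρ hρ _ ((h.fr.blk i).ZV (z_mem_Z h hz i))
  refine ⟨ρ, hρ, hW, fun hJ => hne ?_⟩
  have h2 := eq_z h hz (mem_Z_of_mem_W h hz hW hJ) (fun e => z_ne h hz i (conj_eq_one_iff.1 e))
  exact mul_inv_eq_iff_eq_mul.1 h2

variable (T)

/-- `O₂(C_T) ≤ N_G(B)` -/
theorem o2_CT_norm : o2 (CT z T) ≤ normalizer (B : Set G) := by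
  have hB : B ≤ normalizer (o2 (CT z T) : Set G) :=
    ((B_le_cent h hz).trans (cent_le_CT h hz)).trans (MinSimple.VModule.le_normalizer_o2 _)
  have h1 : IsPGroup 2 (B ⊔ o2 (CT z T) : Subgroup G) :=
    IsPGroup.to_sup_of_normal_right' h.bau_two (MinSimple.VModule.o2_isPGroup _) hB
  exact le_sup_right.trans (h.le_norm_B h1 le_sup_left)

/-- **`O₂(C_T)` centralises `ZJ`** -/
theorem o2_CT_le_cent [Finite ι] : o2 (CT z T) ≤ centralizer (ZJ : Set G) := by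
  intro t ht
  have hle : o2 (CT z T) ≤ CT z T := Cfsg.Agent.ZN.o2_le _
  have hN := o2_CT_norm T h hz
  have hCn : CT z T ≤ normalizer (o2 (CT z T) : Set G) := MinSimple.VModule.le_normalizer_o2 _
  refine mem_cent_ZJ h hz fun i => ?_
  by_cases hi : i ∈ T
  · exact mem_CT.1 (hle ht) i hi
  obtain ⟨j, hj⟩ := cj_Z h hz (hN ht) i
  by_cases hji : j = i
  · rw [hji] at hj
    exact mul_inv_eq_iff_eq_mul.1 hj
  exfalso
  obtain ⟨m, hm⟩ := cj_Z h hz (inv_mem (hN ht)) i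
  rw [inv_inv] at hm
  have hmi : i ≠ m := by
    rintro rfl
    apply hji
    refine z_inj h hz ?_
    rw [← hj]
    calc t * z i * t⁻¹ = t * (t⁻¹ * z i * t) * t⁻¹ := by rw [hm]
      _ = z i := by group
  obtain ⟨ρ, hρ, hρW, hρJ⟩ := exists_rho h hz i
  have hρC : ρ ∈ CT z T := L_le_CT h hz hi hρ
  have hg : t * (ρ * t⁻¹ * ρ⁻¹) ∈ o2 (CT z T) :=
    mul_mem ht ((mem_normalizer_iff.1 (hCn hρC) _).1 (inv_mem ht))
  have hgJ := h.norm_ZJ (hN hg)
  have hρm : ρ * z m = z m * ρ :=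
    h.fr.LC i ρ hρ (z m) (z_mem h hz m) (h.fr.WjC i m hmi ((h.fr.blk m).ZV (z_mem_Z h hz m)))
  have e : (t * (ρ * t⁻¹ * ρ⁻¹)) * (ρ * z i * ρ⁻¹) * (t * (ρ * t⁻¹ * ρ⁻¹))⁻¹ = z i := by
    calc (t * (ρ * t⁻¹ * ρ⁻¹)) * (ρ * z i * ρ⁻¹) * (t * (ρ * t⁻¹ * ρ⁻¹))⁻¹
        = t * (ρ * (t⁻¹ * z i * t) * ρ⁻¹) * t⁻¹ := by group
      _ = t * (ρ * z m * ρ⁻¹) * t⁻¹ := by rw [hm]
      _ = t * z m * t⁻¹ := by rw [hρm, mul_inv_cancel_right]
      _ = t * (t⁻¹ * z i * t) * t⁻¹ := by rw [hm]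
      _ = z i := by group
  apply hρJ
  refine (mem_normalizer_iff.1 hgJ _).2 ?_
  rw [e]
  exact z_mem h hz i

/-- **`O₂(C_T) ≤ B`** -/
theorem o2_CT_le_B [Finite ι] : o2 (CT z T) ≤ B := by
  have hB : B ≤ normalizer (o2 (CT z T) : Set G) :=
    ((B_le_cent h hz).trans (cent_le_CT h hz)).trans (MinSimple.VModule.le_normalizer_o2 _)
  have h1 : IsPGroup 2 (B ⊔ o2 (CT z T) : Subgroup G) :=
    IsPGroup.to_sup_of_normal_right' h.bau_two (MinSimple.VModule.o2_isPGroup _) hB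
  have h2 := h.syl_B.2.2 _ (sup_le h.syl_B.1 (o2_CT_le_cent T h hz)) h1 le_sup_left
  exact le_sup_right.trans h2.le

/-- `O₂(C_T) ≤ O₂(X)` for `C(ZJ) ≤ X ≤ C_T` -/
theorem o2_CT_le_of_le [Finite ι] {X : Subgroup G} (h1 : centralizer (ZJ : Set G) ≤ X) (h2 : X ≤ CT z T) :
    o2 (CT z T) ≤ o2 X :=
  MinSimple.Basic.o2_normal_le_o2 ((o2_CT_le_cent T h hz).trans h1) h2

theorem o2_CT_le_o2 [Finite ι] : o2 (CT z T) ≤ o2 (centralizer (ZJ : Set G)) :=
  o2_CT_le_of_le T h hz le_rfl (cent_le_CT h hz)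

variable {T}

/-- `C_T` has characteristic 2 -/
theorem char2_CT (hT : T.Nonempty) : CT z T ⊓ centralizer (o2 (CT z T) : Set G) ≤ o2 (CT z T) := by
  have e : CT z T = centralizer ((closure (z '' T) : Subgroup G) : Set G) := (centralizer_closure _).symm
  have hle : closure (z '' T) ≤ ZJ := by
    rw [closure_le]
    rintro _ ⟨l, -, rfl⟩
    exact z_mem h hz l
  rw [e]
  refine NOne.LemmaT.char2_centralizer h.hyp.ctx.char2
    (h.bau_two.to_le ((hle.trans h.fr.ZJV).trans h.fr.VB)) ?_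
  obtain ⟨l, hl⟩ := hT
  intro e1
  have h1 : z l ∈ closure (z '' T) := subset_closure ⟨l, hl, rfl⟩
  rw [e1, mem_bot] at h1
  exact z_ne h hz l h1

omit h hz in
/-- `E_T = ⟨ZJ^(C_T)⟩` -/
def ET (ZJ : Subgroup G) (z : ι → G) (T : Set ι) : Subgroup G := NoFF.Basic.V ZJ (CT z T)

theorem ZJ_le_zc [Finite ι] (hT : T.Nonempty) : ZJ ≤ zc (o2 (CT z T)) := by
  have h1 : ZJ ≤ centralizer (o2 (CT z T) : Set G) := le_centralizer_iff.1 (o2_CT_le_cent T h hz)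
  have h2 : ZJ ≤ CT z T := by
    intro x hx
    rw [mem_CT]
    exact fun l _ => h.fr.Vc (h.fr.ZJV hx) (h.fr.ZJV (z_mem h hz l))
  intro x hx
  exact mem_zc.2 ⟨char2_CT h hz hT ⟨h2 hx, h1 hx⟩, h.fr.Vsq (h.fr.ZJV hx), fun y hy =>
    mem_centralizer_iff.1 (h1 hx) y hy⟩

/-- **`E_T ≤ Ω₁Z(O₂(C_T))`** -/
theorem ET_le_zc [Finite ι] (hT : T.Nonempty) : ET ZJ z T ≤ zc (o2 (CT z T)) := by
  have hCn : CT z T ≤ normalizer (o2 (CT z T) : Set G) := MinSimple.VModule.le_normalizer_o2 _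
  refine NoFF.Basic.V_le fun p hp x hx => ?_
  rw [NoFF.Basic.mem_conj] at hx
  have h1 := ZJ_le_zc h hz hT hx
  rw [mem_zc] at h1 ⊢
  obtain ⟨h2, h3, h4⟩ := h1
  have e : x = p * (p⁻¹ * x * p) * p⁻¹ := by group
  refine ⟨?_, ?_, fun y hy => ?_⟩
  · rw [e]
    exact (mem_normalizer_iff.1 (hCn hp) _).1 h2
  · rw [e, conj_pow, h3, mul_one, mul_inv_cancel]
  · have h5 : p⁻¹ * y * p ∈ o2 (CT z T) := by
      have := (mem_normalizer_iff.1 (hCn (inv_mem hp)) y).1 hy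
      rwa [inv_inv] at this
    have h6 := h4 _ h5
    calc y * x = p * ((p⁻¹ * y * p) * (p⁻¹ * x * p)) * p⁻¹ := by group
      _ = p * ((p⁻¹ * x * p) * (p⁻¹ * y * p)) * p⁻¹ := by rw [h6]
      _ = x * y := by group

theorem ET_le_o2 [Finite ι] (hT : T.Nonempty) : ET ZJ z T ≤ o2 (CT z T) :=
  fun _ hx => (mem_zc.1 (ET_le_zc h hz hT hx)).1

/-- `E_T ≤ O₂(X)` for `C(ZJ) ≤ X ≤ C_T` -/
theorem ET_le_of_le [Finite ι] (hT : T.Nonempty) {X : Subgroup G} (h1 : centralizer (ZJ : Set G) ≤ X)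
    (h2 : X ≤ CT z T) : ET ZJ z T ≤ o2 X := (ET_le_o2 h hz hT).trans (o2_CT_le_of_le T h hz h1 h2)

/-- `E_T ≤ O₂(C(ZJ))` -/
theorem ET_le_O [Finite ι] (hT : T.Nonempty) : ET ZJ z T ≤ o2 (centralizer (ZJ : Set G)) :=
  (ET_le_o2 h hz hT).trans (o2_CT_le_o2 T h hz)

theorem ET_sq [Finite ι] (hT : T.Nonempty) {x : G} (hx : x ∈ ET ZJ z T) : x ^ 2 = 1 :=
  (mem_zc.1 (ET_le_zc h hz hT hx)).2.1

theorem ET_comm [Finite ι] (hT : T.Nonempty) {x y : G} (hx : x ∈ ET ZJ z T) (hy : y ∈ ET ZJ z T) :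
    x * y = y * x := ((mem_zc.1 (ET_le_zc h hz hT hx)).2.2 y (ET_le_o2 h hz hT hy)).symm

theorem ET_ab [Finite ι] (hT : T.Nonempty) : ET ZJ z T ≤ centralizer (ET ZJ z T : Set G) := by
  intro x hx
  rw [mem_centralizer_iff]
  exact fun y hy => ET_comm h hz hT hy hx

omit h hz in
theorem V_le_ET {Z₀ Y : Subgroup G} (h0 : Z₀ ≤ ZJ) (hY : Y ≤ CT z T) : NoFF.Basic.V Z₀ Y ≤ ET ZJ z T := by
  refine NoFF.Basic.V_le fun p hp => ?_
  exact (NoFF.Basic.conj_le_iff.2 h0).trans (NoFF.Basic.Z_le_V (hY hp))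

omit h hz in
theorem ZJ_le_ET : ZJ ≤ ET ZJ z T := by
  have := NoFF.Basic.Z_le_V (Z := ZJ) (one_mem (CT z T))
  rwa [map_one, one_smul] at this

omit h hz in
theorem CT_norm_ET : CT z T ≤ normalizer (ET ZJ z T : Set G) := by
  intro g hg
  have h1 := NoFF.Basic.conj_V_mul (Z := ZJ) (g := 1) hg
  rw [one_mul, map_one, one_smul] at h1
  rw [mem_normalizer_iff]
  intro x
  unfold ET
  conv_lhs => rw [← Subgroup.smul_mem_pointwise_smul_iff (a := MulAut.conj g), h1]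
  rfl

/-- `W i ≤ E_T` for `i ∉ T` -/
theorem W_le_ET {i : ι} (hi : i ∉ T) : W i ≤ ET ZJ z T := by
  intro v hv
  by_cases hv1 : v = 1
  · rw [hv1]; exact one_mem _
  obtain ⟨l, -, hlC, y, hy, e⟩ := h.tr i v hv hv1
  have hl : l ∈ CT z T := by
    rw [mem_CT]
    intro m hm
    have him : i ≠ m := fun e => hi (e ▸ hm)
    exact (mem_centralizer_iff.1 hlC _ (h.fr.WjC i m him ((h.fr.blk m).ZV (z_mem_Z h hz m)))).symm
  rw [← e]
  exact (mem_normalizer_iff.1 (CT_norm_ET hl) _).1 (ZJ_le_ET (h.fr.Z_le i hy))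

/-! ### two indices -/

omit h hz in
theorem CT_compl_le {i j : ι} : CT z {i}ᶜ ≤ CT z ({i, j} : Set ι)ᶜ :=
  CT_mono (Set.compl_subset_compl.2 (Set.singleton_subset_iff.2 (Or.inl rfl)))

omit h hz in
theorem CT_compl_le' {i j : ι} : CT z {j}ᶜ ≤ CT z ({i, j} : Set ι)ᶜ :=
  CT_mono (Set.compl_subset_compl.2 (Set.singleton_subset_iff.2 (Or.inr rfl)))

/-- `N_i ≤ O₂(Y_j)` (`i, j` arbitrary) if some index differs from `i` and `j` -/
theorem N_le_o2 [Finite ι] {i j : ι} (hT : (({i, j} : Set ι)ᶜ).Nonempty) :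
    NoFF.Basic.V (zpowers (z i)) (CT z {i}ᶜ) ≤ o2 (CT z {j}ᶜ) :=
  (V_le_ET (zpowers_le.2 (z_mem h hz i)) CT_compl_le).trans
    (ET_le_of_le h hz hT (cent_le_CT h hz) CT_compl_le')

end frame

end Cfsg.Agent.Omega.EK3

end

section


/-!
# EK3: the frame `Bg` gives the frame of STAR (helper520)

`Bg S P B ZJ L W Z C 2`, `Z i = {1, z i}`, `D = C(ZJ)`, `O = O₂(D)`, `Y i = CT z {i}ᶜ = C(z l : l ≠ i)`,
`N i = ⟨z_i ^ Y i⟩`, at least 3 indices.

* `EE_le_ET` : `⟨ZJ ^ ⟨Y i, Y j⟩⟩ ≤ E_ij = ⟨ZJ ^ C(z l : l ≠ i, j)⟩`;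
* `frE` : `StarE.Fr`, from `Y i ≤ ⟨D, L i⟩`, `O₂(Y i) = O ⊓ C(N i)`, `(NO)`, and nonlocality of `⟨D, L i : i⟩`;
* `hLC`, `hLZ`, `W_le_N` : the inputs of `StarE.Out.low`;
* `exists_out` : the four facts: `F ≤ O₂(D)`, `F ≤ O₂(Y j ⊓ C(W i))`, exactness on every `N j ≤ M ≤ E`.
-/

set_option autoImplicit false
set_option linter.unusedSectionVars false

namespace Cfsg.Agent.Omega.EK3.MainS

open Subgroup Cfsg Cfsg.Agent.ZN.ChoiceBase
open Cfsg.Agent.ZN (zc zl o2)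
open Cfsg.Agent.ZN.ChoiceSit (Syl)
open Cfsg.Agent.Omega.NO3S.EThree.Frame (Bg Fg)
open Cfsg.Agent.Omega.NO3S.EThree
open Cfsg.Agent.Omega.NO3S.EThree.ExactA (eab_mono eab_iff)
open Cfsg.Agent.Omega.NoFF.Basic (V V_le Z_le_V conj_le_iff)
open Cfsg.Agent.Omega.EK3.StarE (EE EE_le le_EE cj_le_EE)
open Cfsg.Agent.Omega.EK3.Rank (NoOn)
open scoped Pointwise

universe u

variable {G : Type u} [Group G] {S : Sylow 2 G} {P B ZJ : Subgroup G} {ι : Type} {L W Z C : ι → Subgroup G}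
  {z : ι → G}

/-- `Y i = C(z l : l ≠ i)` -/
abbrev YC (z : ι → G) (i : ι) : Subgroup G := CT z {i}ᶜ

/-- `N i = ⟨z_i ^ Y i⟩` -/
abbrev NC (z : ι → G) (i : ι) : Subgroup G := V (zpowers (z i)) (YC z i)

theorem V_eq_EE (Z₀ H : Subgroup G) : V Z₀ H = EE Z₀ H :=
  le_antisymm (V_le fun _ hy => cj_le_EE hy) (EE_le fun _ hy => Z_le_V hy)

theorem NC_eq (i : ι) : NC z i = EE (zpowers (z i)) (YC z i) := V_eq_EE _ _

theorem mem_YC {i : ι} {x : G} : x ∈ YC z i ↔ ∀ l, l ≠ i → x * z l = z l * x := by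
  rw [mem_CT]
  exact Iff.rfl

theorem sup_le_CT [Finite G] (i j : ι) : YC z i ⊔ YC z j ≤ CT z ({i, j} : Set ι)ᶜ := sup_le CT_compl_le CT_compl_le'

theorem EE_le_ET [Finite G] (i j : ι) : EE ZJ (YC z i ⊔ YC z j) ≤ ET ZJ z ({i, j} : Set ι)ᶜ := by
  rw [← V_eq_EE]
  exact V_le_ET le_rfl (sup_le_CT i j)

/-- a third index -/
theorem exists_third {k : ℕ} (hk : 3 ≤ k) (i j : Fin k) : (({i, j} : Set (Fin k))ᶜ).Nonempty := by
  classical
  by_contra hcon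
  rw [Set.not_nonempty_iff_eq_empty, Set.compl_empty_iff] at hcon
  have h1 : (Finset.univ : Finset (Fin k)) ⊆ {i, j} := fun x _ => by
    have : x ∈ ({i, j} : Set (Fin k)) := by rw [hcon]; trivial
    simpa using this
  have h2 := (Finset.card_le_card h1).trans Finset.card_le_two
  rw [Finset.card_univ, Fintype.card_fin] at h2
  omega

section frame

variable [Finite G] [Finite ι] (h : Bg S P B ZJ L W Z C 2) (hz : ∀ i x, x ∈ Z i ↔ x = 1 ∨ x = z i)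
include h hz

theorem z_le (i : ι) : zpowers (z i) ≤ ZJ := zpowers_le.2 (z_mem h hz i)

/-- `W i ≤ N i` -/
theorem W_le_N (i : ι) : W i ≤ NC z i := by
  intro v hv
  by_cases hv1 : v = 1
  · rw [hv1]; exact one_mem _
  obtain ⟨l, -, hlC, y, hy, e⟩ := h.tr i v hv hv1
  have hl : l ∈ YC z i := by
    rw [mem_YC]
    intro m hm
    exact (mem_centralizer_iff.1 hlC _ (h.fr.WjC i m (Ne.symm hm) ((h.fr.blk m).ZV (z_mem_Z h hz m)))).symm
  have hy' : y ∈ zpowers (z i) := by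
    rcases (hz i y).1 hy with rfl | rfl
    · exact one_mem _
    · exact mem_zpowers _
  rw [← e]
  have h1 : MulAut.conj l • zpowers (z i) ≤ NC z i := Z_le_V hl
  exact h1 (by rw [NoFF.Basic.mem_conj]; convert hy' using 1; group)

theorem YC_norm_W (i j : ι) (hij : i ≠ j) : L i ≤ centralizer ((zpowers (z j) : Subgroup G) : Set G) := by
  intro x hx
  rw [mem_centralizer_iff]
  intro y hy
  obtain ⟨n, rfl⟩ := mem_zpowers_iff.1 hy
  have h1 : Commute x (z j) :=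
    h.fr.LC i x hx (z j) (z_mem h hz j) (h.fr.WjC i j hij ((h.fr.blk j).ZV (z_mem_Z h hz j)))
  exact (h1.zpow_right n).eq.symm

/-- `L i` normalises `C_{Y j}(W i)` -/
theorem hLC {i j : ι} (hij : i ≠ j) :
    L i ≤ normalizer ((YC z j ⊓ centralizer (W i : Set G) : Subgroup G) : Set G) := by
  have e : (YC z j ⊓ centralizer (W i : Set G) : Subgroup G) =
      CT z ({i, j} : Set ι)ᶜ ⊓ centralizer (W i : Set G) := by
    apply le_antisymm
    · exact inf_le_inf_right _ CT_compl_le'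
    · refine le_inf ?_ inf_le_right
      intro x hx
      rw [mem_YC]
      intro l hl
      by_cases hli : l = i
      · subst hli
        exact ((mem_centralizer_iff.1 hx.2) _ ((h.fr.blk l).ZV (z_mem_Z h hz l))).symm
      · exact mem_CT.1 hx.1 l (by
          intro hm
          rcases hm with hm | hm
          · exact hli hm
          · exact hl hm)
  rw [e]
  have hLCT : L i ≤ CT z ({i, j} : Set ι)ᶜ := L_le_CT h hz (by simp)
  intro x hx
  have h1 : x ∈ normalizer ((CT z ({i, j} : Set ι)ᶜ : Subgroup G) : Set G) := le_normalizer (hLCT hx)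
  have h2 : x ∈ normalizer (W i : Set G) := (h.block i).LV hx
  rw [mem_normalizer_iff_cj, cj_inf, cj_centralizer, cj_eq_of_mem_normalizer h1, cj_eq_of_mem_normalizer h2]

variable (hT : ∀ i j : ι, (({i, j} : Set ι)ᶜ).Nonempty)
include hT

theorem NC_le_ET (i : ι) (j : ι) : NC z i ≤ ET ZJ z ({i, j} : Set ι)ᶜ :=
  V_le_ET (z_le h hz i) CT_compl_le

theorem NC_eab (i : ι) : IsElementaryAbelian 2 (NC z i) := by
  have h1 := NC_le_ET h hz hT i i
  rw [eab_iff]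
  refine ⟨(h1.trans (ET_ab h hz (hT i i))).trans (centralizer_le h1), fun x hx => ET_sq h hz (hT i i) (h1 hx)⟩

theorem NC_le_O (i : ι) : NC z i ≤ o2 (centralizer (ZJ : Set G)) :=
  (NC_le_ET h hz hT i i).trans (ET_le_O h hz (hT i i))

theorem NC_comm (i j : ι) : NC z i ≤ centralizer (NC z j : Set G) := by
  have h2 : NC z j ≤ ET ZJ z ({i, j} : Set ι)ᶜ := by
    have := NC_le_ET h hz hT j i
    rwa [Set.pair_comm] at this
  exact ((NC_le_ET h hz hT i j).trans (ET_ab h hz (hT i j))).trans (centralizer_le h2)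

/-- **the frame of STAR** -/
theorem frE (hgen : ∀ i, YC z i ≤ centralizer (ZJ : Set G) ⊔ L i)
    (hQ : ∀ i, o2 (YC z i) = o2 (centralizer (ZJ : Set G)) ⊓ centralizer (NC z i : Set G))
    (hno : ∀ i, NoOn (o2 (centralizer (ZJ : Set G))) (NC z i))
    (hnl : ∀ U : Subgroup G, U ≤ o2 (centralizer (ZJ : Set G)) → centralizer (ZJ : Set G) ≤ normalizer (U : Set G) →
      (∀ i, L i ≤ normalizer (U : Set G)) → U = ⊥) :
    StarE.Fr (o2 (centralizer (ZJ : Set G))) (centralizer (ZJ : Set G)) ZJ (YC z) (NC z) L where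
  OD := MinSimple.VModule.o2_le _
  DO := MinSimple.VModule.le_normalizer_o2 _
  OZ := MinSimple.VModule.o2_le _
  DY _ := cent_le_CT h hz
  LY i := L_le_CT h hz (by simp)
  YDL := hgen
  eab := NC_eab h hz hT
  NQ i j := le_inf (NC_le_O h hz hT i) (NC_comm h hz hT i j)
  YN i := by
    rw [NC_eq]
    exact StarE.norm_EE _ _
  YQ i := by
    rw [← hQ i]
    exact MinSimple.VModule.le_normalizer_o2 _
  no := hno
  nl := hnl
  Eeab i j _ := by
    have h1 := EE_le_ET (ZJ := ZJ) (z := z) i j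
    rw [eab_iff]
    exact ⟨(h1.trans (ET_ab h hz (hT i j))).trans (centralizer_le h1), fun x hx => ET_sq h hz (hT i j) (h1 hx)⟩
  EO i j _ := (EE_le_ET i j).trans (ET_le_O h hz (hT i j))
  NE i := by
    rw [NC_eq]
    exact EE_le fun y hy => (cj_mono y (z_le h hz i)).trans (cj_le_EE hy)

/-- **The output of STAR in the frame.** -/
theorem exists_out (hgen : ∀ i, YC z i ≤ centralizer (ZJ : Set G) ⊔ L i)
    (hQ : ∀ i, o2 (YC z i) = o2 (centralizer (ZJ : Set G)) ⊓ centralizer (NC z i : Set G))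
    (hno : ∀ i, NoOn (o2 (centralizer (ZJ : Set G))) (NC z i))
    (hnl : ∀ U : Subgroup G, U ≤ o2 (centralizer (ZJ : Set G)) → centralizer (ZJ : Set G) ≤ normalizer (U : Set G) →
      (∀ i, L i ≤ normalizer (U : Set G)) → U = ⊥)
    (hst : ∀ i, YC z i ⊓ centralizer ((zpowers (z i) : Subgroup G) : Set G) ≤ centralizer (ZJ : Set G))
    (hO : o2 (centralizer (ZJ : Set G)) ≠ ⊥) :
    ∃ i j, i ≠ j ∧ ∃ F : Subgroup G, IsElementaryAbelian 2 F ∧ F ≤ o2 (centralizer (ZJ : Set G)) ∧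
      F ≤ centralizer (NC z i : Set G) ∧ ¬ F ≤ centralizer (NC z j : Set G) ∧
      F ≤ o2 (YC z j ⊓ centralizer (W i : Set G)) ∧
      F ⊓ centralizer (NC z j : Set G) ≤ centralizer (EE ZJ (YC z i ⊔ YC z j) : Set G) ∧
      EE ZJ (YC z i ⊔ YC z j) ≤ NC z j ⊔ (EE ZJ (YC z i ⊔ YC z j) ⊓ centralizer (F : Set G)) ∧
      ∀ M : Subgroup G, NC z j ≤ M → M ≤ EE ZJ (YC z i ⊔ YC z j) →
        (centralizer (M : Set G)).relIndex F = (centralizer (F : Set G)).relIndex M := by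
  have hf := frE h hz hT hgen hQ hno hnl
  obtain ⟨i, j, F₁, F, x, o⟩ := hf.star hO
  refine ⟨i, j, o.ne, F, o.eab, o.leO, o.le_centi, o.mov, ?_, o.le_cent hf, o.le_sup hf, fun M h1 h2 => ?_⟩
  · exact o.low hf (MinSimple.VModule.o2_isPGroup _) (W_le_N h hz i) (hLC h hz o.ne)
      ((YC_norm_W h hz i j o.ne).trans (centralizer_le_normalizer _))
      (by rw [NC_eq]; exact le_EE _ _) (hst j)
  · obtain ⟨-, e1, e2⟩ := o.exact hf h1 h2
    rw [e1, e2]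

end frame

end Cfsg.Agent.Omega.EK3.MainS

end

section


/-!
# THEOREM S' (helper787, #23621): (E) with a 2-transitive `N_G(Z_J)`, abstract form

`ZJ = ⟨r_l : l ∈ ι⟩` elementary abelian, `D = C_G(ZJ)`, `B` Sylow in `D`, `O = O₂(D)`, `Y_j = C_G(r_l : l ≠ j)`,
`N_j = ⟨r_j^(Y_j)⟩`, `Q_j = O₂(Y_j)`.

* `Fr ZJ B r` : the frame (group `G` of characteristic 2 type, at least three indices);
* `Fr.main` : if moreover (QP) `Y_j = K D` for `K` normal in `Y_j`, `K ≰ D`, (NO) for `O` on `N_j`, and the group which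
  permutes the `r_l` is 2-transitive, then a nontrivial 2-group is normalised by all `Y_j`.
-/

set_option autoImplicit false
set_option linter.unusedSectionVars false

namespace Cfsg.Agent.Omega.ESym.Abs

open Subgroup Cfsg Cfsg.Agent.ZN.ChoiceBase
open Cfsg.Agent.ZN (zc zl o2 jj)
open Cfsg.Agent.Omega.EK3 (CT mem_CT CT_mono)
open Cfsg.Agent.Omega.EK3.Rank (NoOn)
open Cfsg.Agent.Omega.NO3S.EThree
open scoped Pointwise commutatorElement

universe u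

variable {G : Type u} [Group G] {ι : Type} {ZJ B : Subgroup G} {r : ι → G}

/-- `Y_j = C_G(r_l : l ≠ j)` -/
def Yj (r : ι → G) (j : ι) : Subgroup G := CT r ({j} : Set ι)ᶜ

/-- `N_j = ⟨r_j^(Y_j)⟩` -/
def Nj (r : ι → G) (j : ι) : Subgroup G := NoFF.Basic.V (zpowers (r j)) (Yj r j)

/-- The frame of THEOREM S'. -/
structure Fr (ZJ B : Subgroup G) (r : ι → G) : Prop where
  hG : IsCharacteristicTwoType G
  gen : ZJ = closure (Set.range r)
  ab : ∀ i j, r i * r j = r j * r i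
  sq : ∀ i, r i ^ 2 = 1
  ne : ∀ i, r i ≠ 1
  Bp : IsPGroup 2 B
  BD : B ≤ centralizer (ZJ : Set G)
  syl : ∀ R : Subgroup G, R ≤ centralizer (ZJ : Set G) → IsPGroup 2 R → B ≤ R → R ≤ B
  /-- an element of `N_G(B) ∩ O₂(C_G(r_l : l ≠ i, j))` centralises `r_i` (and `r_j`) -/
  perm : ∀ i j, ∀ t ∈ o2 (CT r ({i, j} : Set ι)ᶜ), t ∈ normalizer (B : Set G) → t * r i = r i * t
  three : ∀ i j : ι, ∃ l, l ≠ i ∧ l ≠ j

theorem mem_Yj {x : G} {j : ι} : x ∈ Yj r j ↔ ∀ l, l ≠ j → x * r l = r l * x := by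
  unfold Yj
  rw [mem_CT]
  simp only [Set.mem_compl_iff, Set.mem_singleton_iff]

theorem Y_norm_N (j : ι) : Yj r j ≤ normalizer (Nj r j : Set G) := by
  intro g hg
  have h1 := NoFF.Basic.conj_V_mul (Z := zpowers (r j)) (g := 1) hg
  rw [one_mul, map_one, one_smul] at h1
  rw [mem_normalizer_iff]
  intro x
  unfold Nj
  conv_lhs => rw [← Subgroup.smul_mem_pointwise_smul_iff (a := MulAut.conj g), h1]
  rfl

theorem norm_V {Z Y : Subgroup G} : Y ≤ normalizer (NoFF.Basic.V Z Y : Set G) := by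
  intro g hg
  have h1 := NoFF.Basic.conj_V_mul (Z := Z) (g := 1) hg
  rw [one_mul, map_one, one_smul] at h1
  rw [mem_normalizer_iff]
  intro x
  conv_lhs => rw [← Subgroup.smul_mem_pointwise_smul_iff (a := MulAut.conj g), h1]
  rfl

theorem le_V {Z Y : Subgroup G} : Z ≤ NoFF.Basic.V Z Y := by
  have := NoFF.Basic.Z_le_V (Z := Z) (one_mem Y)
  rwa [map_one, one_smul] at this

theorem r_mem_N (j : ι) : r j ∈ Nj r j := le_V (mem_zpowers _)

theorem Y_le_CT {i j : ι} : Yj r i ≤ CT r ({i, j} : Set ι)ᶜ :=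
  CT_mono (Set.compl_subset_compl.2 (Set.singleton_subset_iff.2 (Or.inl rfl)))

theorem Y_le_CT' {i j : ι} : Yj r j ≤ CT r ({i, j} : Set ι)ᶜ :=
  CT_mono (Set.compl_subset_compl.2 (Set.singleton_subset_iff.2 (Or.inr rfl)))

theorem mem_sup_of_norm {C T : Subgroup G} (h : T ≤ normalizer (C : Set G)) {x : G} (hx : x ∈ T ⊔ C) :
    ∃ t ∈ T, ∃ c ∈ C, x = t * c := by
  rw [← SetLike.mem_coe, coe_mul_of_left_le_normalizer_right T C h] at hx
  obtain ⟨t, ht, c, hc, e⟩ := Set.mem_mul.1 hx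
  exact ⟨t, ht, c, hc, e.symm⟩

namespace Fr

variable (h : Fr ZJ B r)
include h

theorem r_mem (i : ι) : r i ∈ ZJ := by
  rw [h.gen]
  exact subset_closure ⟨i, rfl⟩

theorem mem_cent {x : G} (hx : ∀ i, x * r i = r i * x) : x ∈ centralizer (ZJ : Set G) := by
  rw [h.gen, centralizer_closure, mem_centralizer_iff]
  rintro _ ⟨i, rfl⟩
  exact (hx i).symm

theorem cent {x : G} (hx : x ∈ centralizer (ZJ : Set G)) (i : ι) : x * r i = r i * x :=
  (mem_centralizer_iff.1 hx _ (h.r_mem i)).symm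

theorem D_le_CT (T : Set ι) : centralizer (ZJ : Set G) ≤ CT r T := by
  intro x hx
  rw [mem_CT]
  exact fun l _ => h.cent hx l

theorem D_le_Y (j : ι) : centralizer (ZJ : Set G) ≤ Yj r j := h.D_le_CT _

theorem Z_ab : ZJ ≤ centralizer (ZJ : Set G) := by
  conv_lhs => rw [h.gen]
  rw [closure_le]
  rintro _ ⟨i, rfl⟩
  exact h.mem_cent fun j => h.ab i j

theorem Z_comm {x y : G} (hx : x ∈ ZJ) (hy : y ∈ ZJ) : x * y = y * x :=
  mem_centralizer_iff.1 (h.Z_ab hy) x hx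

theorem Z_sq {x : G} (hx : x ∈ ZJ) : x ^ 2 = 1 := by
  rw [h.gen] at hx
  induction hx using closure_induction with
  | mem x hx => obtain ⟨i, rfl⟩ := hx; exact h.sq i
  | one => exact one_pow 2
  | mul x y hx hy hx2 hy2 =>
    rw [← h.gen] at hx hy
    have e : (x * y) ^ 2 = x ^ 2 * y ^ 2 := (show Commute x y from h.Z_comm hx hy).mul_pow 2
    rw [e, hx2, hy2, one_mul]
  | inv x _ hx2 => rw [inv_pow, hx2, inv_one]

section finite

variable [Finite G]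

/-- If every element of `O₂(X) ∩ N_G(B)` centralises `ZJ`, then `O₂(X) ≤ B` (`D ≤ X`). -/
theorem o2_le {X : Subgroup G} (hX : centralizer (ZJ : Set G) ≤ X)
    (hp : ∀ t ∈ o2 X, t ∈ normalizer (B : Set G) → t ∈ centralizer (ZJ : Set G)) : o2 X ≤ B := by
  have hB : B ≤ normalizer (o2 X : Set G) := (h.BD.trans hX).trans (MinSimple.VModule.le_normalizer_o2 _)
  have h1 : IsPGroup 2 (B ⊔ o2 X : Subgroup G) :=
    IsPGroup.to_sup_of_normal_right' h.Bp (MinSimple.VModule.o2_isPGroup _) hB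
  by_contra hcon
  -- `B < B O₂(X)`: an element of `O₂(X) ∩ N(B)` outside `B`
  obtain ⟨t, htX, htN, htB⟩ : ∃ t ∈ o2 X, t ∈ normalizer (B : Set G) ∧ t ∉ B := by
    have h2 : B < B ⊔ o2 X := lt_of_le_of_ne le_sup_left fun e => hcon (e ▸ le_sup_right)
    obtain ⟨y, hy, hyB, hyN⟩ := Involutions.BaerSuzuki.exists_mem_normalizer_of_lt h1 h2
    obtain ⟨b, hb, t, ht, e⟩ := mem_sup_of_norm hB hy
    refine ⟨t, ht, ?_, fun htB => hyB (by rw [e]; exact mul_mem hb htB)⟩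
    have e' : t = b⁻¹ * y := by rw [e]; group
    rw [e']
    exact mul_mem (inv_mem (le_normalizer hb)) hyN
  have h3 := hp t htX htN
  have h4 : IsPGroup 2 (B ⊔ zpowers t : Subgroup G) :=
    h1.to_le (sup_le le_sup_left ((zpowers_le.2 htX).trans le_sup_right))
  exact htB (h.syl _ (sup_le h.BD (zpowers_le.2 h3)) h4 le_sup_left (le_sup_right (a := B) (mem_zpowers t)))

theorem o2_X_le (i j : ι) : o2 (CT r ({i, j} : Set ι)ᶜ) ≤ B := by
  refine h.o2_le (h.D_le_CT _) fun t ht hN => h.mem_cent fun l => ?_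
  by_cases hl : l = i
  · rw [hl]; exact h.perm i j t ht hN
  by_cases hl' : l = j
  · rw [hl']
    have e : ({i, j} : Set ι) = {j, i} := Set.pair_comm i j
    rw [e] at ht
    exact h.perm j i t ht hN
  · have h1 : t ∈ CT r ({i, j} : Set ι)ᶜ := Cfsg.Agent.ZN.o2_le _ ht
    refine mem_CT.1 h1 l ?_
    simp [hl, hl']

theorem o2_Y_le (j : ι) : o2 (Yj r j) ≤ B := by
  have e : ({j, j} : Set ι) = {j} := by simp
  have h1 := h.o2_X_le j j
  rw [e] at h1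
  exact h1

/-- `CT r T` has characteristic 2 for `T ≠ ∅` -/
theorem char2_CT {T : Set ι} (hT : T.Nonempty) : CT r T ⊓ centralizer (o2 (CT r T) : Set G) ≤ o2 (CT r T) := by
  have e : CT r T = centralizer ((closure (r '' T) : Subgroup G) : Set G) := (centralizer_closure _).symm
  have hle : closure (r '' T) ≤ ZJ := by
    rw [closure_le]
    rintro _ ⟨l, -, rfl⟩
    exact h.r_mem l
  rw [e]
  refine NOne.LemmaT.char2_centralizer h.hG (fun x => ⟨1, ?_⟩) ?_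
  · have h2 := h.Z_sq (hle x.2)
    exact Subtype.ext (by simpa using h2)
  · obtain ⟨l, hl⟩ := hT
    intro e1
    have h1 : r l ∈ closure (r '' T) := subset_closure ⟨l, hl, rfl⟩
    rw [e1, mem_bot] at h1
    exact h.ne l h1

theorem nonempty (i j : ι) : (({i, j} : Set ι)ᶜ).Nonempty := by
  obtain ⟨l, h1, h2⟩ := h.three i j
  exact ⟨l, by simp [h1, h2]⟩

theorem Z_le_zc (i j : ι) : ZJ ≤ zc (o2 (CT r ({i, j} : Set ι)ᶜ)) := by
  have h1 : ZJ ≤ centralizer (o2 (CT r ({i, j} : Set ι)ᶜ) : Set G) :=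
    le_centralizer_iff.1 ((h.o2_X_le i j).trans h.BD)
  intro x hx
  exact mem_zc.2 ⟨h.char2_CT (h.nonempty i j) ⟨h.D_le_CT _ (h.Z_ab hx), h1 hx⟩, h.Z_sq hx, fun y hy =>
    mem_centralizer_iff.1 (h1 hx) y hy⟩

omit h in
/-- the conjugates of `Z ≤ Ω₁Z(Q)` under `Y ≤ N(Q)` are in `Ω₁Z(Q)` -/
theorem V_le_zc {Z Y Q : Subgroup G} (hZ : Z ≤ zc Q) (hY : Y ≤ normalizer (Q : Set G)) : NoFF.Basic.V Z Y ≤ zc Q := by
  refine NoFF.Basic.V_le fun p hp x hx => ?_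
  rw [NoFF.Basic.mem_conj] at hx
  have h1 := hZ hx
  rw [mem_zc] at h1 ⊢
  obtain ⟨h2, h3, h4⟩ := h1
  have e : x = p * (p⁻¹ * x * p) * p⁻¹ := by group
  refine ⟨?_, ?_, fun y hy => ?_⟩
  · rw [e]
    exact (mem_normalizer_iff.1 (hY hp) _).1 h2
  · rw [e, conj_pow, h3, mul_one, mul_inv_cancel]
  · have h5 : p⁻¹ * y * p ∈ Q := by
      have := (mem_normalizer_iff.1 (hY (inv_mem hp)) y).1 hy
      rwa [inv_inv] at this
    have h6 := h4 _ h5
    calc y * x = p * ((p⁻¹ * y * p) * (p⁻¹ * x * p)) * p⁻¹ := by group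
      _ = p * ((p⁻¹ * x * p) * (p⁻¹ * y * p)) * p⁻¹ := by rw [h6]
      _ = x * y := by group

/-- `E = ⟨ZJ^⟨Y_i, Y_j⟩⟩ ≤ Ω₁Z(O₂(X))` -/
theorem E_le_zc {i j : ι} {Y : Subgroup G} (hY : Y ≤ CT r ({i, j} : Set ι)ᶜ) :
    NoFF.Basic.V ZJ Y ≤ zc (o2 (CT r ({i, j} : Set ι)ᶜ)) :=
  V_le_zc (h.Z_le_zc i j) (hY.trans (MinSimple.VModule.le_normalizer_o2 _))

theorem E_le_o2 {i j : ι} {Y : Subgroup G} (hY : Y ≤ CT r ({i, j} : Set ι)ᶜ) :
    NoFF.Basic.V ZJ Y ≤ o2 (CT r ({i, j} : Set ι)ᶜ) := fun _ hx => (mem_zc.1 (h.E_le_zc hY hx)).1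

theorem o2_X_le_O (i j : ι) : o2 (CT r ({i, j} : Set ι)ᶜ) ≤ o2 (centralizer (ZJ : Set G)) :=
  MinSimple.Basic.o2_normal_le_o2 ((h.o2_X_le i j).trans h.BD) (h.D_le_CT _)

theorem E_el {i j : ι} {Y : Subgroup G} (hY : Y ≤ CT r ({i, j} : Set ι)ᶜ) :
    IsElementaryAbelian 2 (NoFF.Basic.V ZJ Y : Subgroup G) := by
  refine ⟨⟨⟨fun x y => Subtype.ext ?_⟩⟩, fun x hx => (mem_zc.1 (h.E_le_zc hY hx)).2.1⟩
  exact ((mem_zc.1 (h.E_le_zc hY x.2)).2.2 y (h.E_le_o2 hY y.2)).symm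

theorem N_le_E {i : ι} {Y : Subgroup G} (hY : Yj r i ≤ Y) : Nj r i ≤ NoFF.Basic.V ZJ Y := by
  refine NoFF.Basic.V_le fun p hp => ?_
  refine (NoFF.Basic.conj_le_iff.2 (zpowers_le.2 (h.r_mem i))).trans (NoFF.Basic.Z_le_V (hY hp))

theorem N_le_O (i : ι) : Nj r i ≤ o2 (centralizer (ZJ : Set G)) :=
  (h.N_le_E (Y_le_CT (j := i))).trans ((h.E_le_o2 le_rfl).trans (h.o2_X_le_O i i))

theorem N_el (i : ι) : IsElementaryAbelian 2 (Nj r i : Subgroup G) :=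
  ExactA.eab_mono (h.E_el (i := i) (j := i) le_rfl) (h.N_le_E (Y_le_CT (j := i)))

theorem o2_Y_le_O (j : ι) : o2 (Yj r j) ≤ o2 (centralizer (ZJ : Set G)) :=
  MinSimple.Basic.o2_normal_le_o2 ((h.o2_Y_le j).trans h.BD) (h.D_le_Y j)

theorem Z_le_zcY (j : ι) : ZJ ≤ zc (o2 (Yj r j)) := by
  have e : ({j, j} : Set ι) = {j} := by simp
  have h1 := h.Z_le_zc j j
  rw [e] at h1
  exact h1

theorem N_le_zcY (j : ι) : Nj r j ≤ zc (o2 (Yj r j)) :=
  V_le_zc ((zpowers_le.2 (h.r_mem j)).trans (h.Z_le_zcY j)) (MinSimple.VModule.le_normalizer_o2 _)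

/-- `C_{Y_j}(N_j) ≤ D` -/
theorem cent_N_le (j : ι) : Yj r j ⊓ centralizer (Nj r j : Set G) ≤ centralizer (ZJ : Set G) := by
  intro x hx
  refine h.mem_cent fun l => ?_
  by_cases hl : l = j
  · rw [hl]
    exact (mem_centralizer_iff.1 hx.2 _ (r_mem_N j)).symm
  · exact mem_Yj.1 hx.1 l hl

/-- **`Q_j = C_O(N_j)`** -/
theorem inf_eq (j : ι) : o2 (centralizer (ZJ : Set G)) ⊓ centralizer (Nj r j : Set G) = o2 (Yj r j) := by
  apply le_antisymm
  · -- `O ∩ C(N_j)` is normal in `C_{Y_j}(N_j)`, which is normal in `Y_j`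
    have hO : o2 (centralizer (ZJ : Set G)) ≤ Yj r j := (Cfsg.Agent.ZN.o2_le _).trans (h.D_le_Y j)
    have hCD : Yj r j ⊓ centralizer (Nj r j : Set G) ≤ centralizer (ZJ : Set G) := h.cent_N_le j
    have hCN : ∀ y ∈ Yj r j, cj y (Yj r j ⊓ centralizer (Nj r j : Set G)) = Yj r j ⊓ centralizer (Nj r j : Set G) := by
      intro y hy
      rw [cj_inf, cj_centralizer, cj_eq_of_mem_normalizer (Y_norm_N j hy), cj_eq_of_mem_normalizer (le_normalizer hy)]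
    have h1 : o2 (centralizer (ZJ : Set G)) ⊓ centralizer (Nj r j : Set G) ≤
        o2 (Yj r j ⊓ centralizer (Nj r j : Set G)) := by
      refine MinSimple.VModule.le_o2 (le_inf (inf_le_left.trans hO) inf_le_right)
        ((MinSimple.VModule.o2_isPGroup _).to_le inf_le_left) fun c hc => ?_
      rw [mem_normalizer_iff_cj, cj_inf, cj_centralizer, cj_eq_of_mem_normalizer (Y_norm_N j hc.1),
        cj_eq_of_mem_normalizer (MinSimple.VModule.le_normalizer_o2 _ (hCD hc))]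
    refine h1.trans (MinSimple.VModule.le_o2 ((Cfsg.Agent.ZN.o2_le _).trans inf_le_left)
      (MinSimple.VModule.o2_isPGroup _) fun y hy => ?_)
    rw [mem_normalizer_iff_cj, ← ZN.ChoiceSit.o2_cj, hCN y hy]
  · refine le_inf (h.o2_Y_le_O j) (le_centralizer_iff.1 ?_)
    intro x hx
    rw [mem_centralizer_iff]
    exact (mem_zc.1 (h.N_le_zcY j hx)).2.2

end finite

end Fr

/-! ### transport -/

/-- `g` permutes the `r_l` as `σ` -/
def Pm (r : ι → G) (g : G) (σ : Equiv.Perm ι) : Prop := ∀ l, g * r l * g⁻¹ = r (σ l)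

theorem Pm.inv {g : G} {σ : Equiv.Perm ι} (hg : Pm r g σ) : Pm r g⁻¹ σ.symm := by
  intro l
  have h1 := hg (σ.symm l)
  rw [Equiv.apply_symm_apply] at h1
  rw [← h1]
  group

theorem conj_mem_Y {g : G} {σ : Equiv.Perm ι} (hg : Pm r g σ) {j : ι} {x : G} (hx : x ∈ Yj r j) :
    g * x * g⁻¹ ∈ Yj r (σ j) := by
  rw [mem_Yj] at hx ⊢
  intro l hl
  have h1 := hx (σ.symm l) fun e => hl (by rw [← e, Equiv.apply_symm_apply])
  have h2 := hg (σ.symm l)
  rw [Equiv.apply_symm_apply] at h2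
  rw [← h2]
  calc g * x * g⁻¹ * (g * r (σ.symm l) * g⁻¹) = g * (x * r (σ.symm l)) * g⁻¹ := by group
    _ = g * (r (σ.symm l) * x) * g⁻¹ := by rw [h1]
    _ = g * r (σ.symm l) * g⁻¹ * (g * x * g⁻¹) := by group

theorem cj_Y {g : G} {σ : Equiv.Perm ι} (hg : Pm r g σ) (j : ι) : cj g (Yj r j) = Yj r (σ j) := by
  apply le_antisymm
  · intro x hx
    rw [mem_cj] at hx
    have := conj_mem_Y hg hx
    have e : g * (g⁻¹ * x * g) * g⁻¹ = x := by group
    rwa [e] at this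
  · intro x hx
    rw [mem_cj]
    have := conj_mem_Y hg.inv hx
    rwa [inv_inv, Equiv.symm_apply_apply] at this

theorem conj_mem_N {j : ι} {p : G} (hp : p ∈ Yj r j) : p * r j * p⁻¹ ∈ Nj r j :=
  (mem_normalizer_iff.1 (Y_norm_N j hp) _).1 (r_mem_N j)

theorem N_le {j : ι} {A : Subgroup G} (hA : ∀ p ∈ Yj r j, p * r j * p⁻¹ ∈ A) : Nj r j ≤ A := by
  refine NoFF.Basic.V_le fun p hp x hx => ?_
  rw [NoFF.Basic.mem_conj] at hx
  obtain ⟨n, hn⟩ := mem_zpowers_iff.1 hx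
  have e : x = (p * r j * p⁻¹) ^ n := by
    rw [conj_zpow, hn]
    group
  rw [e]
  exact zpow_mem (hA p hp) n

theorem cj_N {g : G} {σ : Equiv.Perm ι} (hg : Pm r g σ) (j : ι) : cj g (Nj r j) = Nj r (σ j) := by
  have key : ∀ {g : G} {σ : Equiv.Perm ι}, Pm r g σ → ∀ j, cj g (Nj r j) ≤ Nj r (σ j) := by
    intro g σ hg j
    rw [cj_le_iff]
    refine N_le fun p hp => ?_
    rw [mem_cj, inv_inv]
    have h1 := conj_mem_N (conj_mem_Y hg hp)
    rw [← hg j] at h1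
    have e : g * p * g⁻¹ * (g * r j * g⁻¹) * (g * p * g⁻¹)⁻¹ = g * (p * r j * p⁻¹) * g⁻¹ := by group
    rwa [e] at h1
  apply le_antisymm (key hg j)
  have h1 := key hg.inv (σ j)
  rw [Equiv.symm_apply_apply, cj_le_iff, inv_inv] at h1
  exact h1

theorem Fr.cj_Z (h : Fr ZJ B r) {g : G} {σ : Equiv.Perm ι} (hg : Pm r g σ) : cj g ZJ = ZJ := by
  have key : ∀ {g : G} {σ : Equiv.Perm ι}, Pm r g σ → cj g ZJ ≤ ZJ := by
    intro g σ hg
    rw [cj_le_iff]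
    conv_lhs => rw [h.gen]
    rw [closure_le]
    rintro _ ⟨l, rfl⟩
    rw [SetLike.mem_coe, mem_cj, inv_inv, hg l]
    exact h.r_mem _
  apply le_antisymm (key hg)
  have h1 := key hg.inv
  rwa [cj_le_iff, inv_inv] at h1

theorem Fr.cj_O (h : Fr ZJ B r) {g : G} {σ : Equiv.Perm ι} (hg : Pm r g σ) :
    cj g (o2 (centralizer (ZJ : Set G))) = o2 (centralizer (ZJ : Set G)) := by
  rw [← ZN.ChoiceSit.o2_cj, cj_centralizer, h.cj_Z hg]

/-! ### the lever -/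

/-- some `F ≤ O` moves `N_j`, `[E, F] ≤ N_j` for some `Y_j`-invariant `E ≥ N_i` -/
def Lv (ZJ : Subgroup G) (r : ι → G) (i j : ι) : Prop :=
  ∃ E F : Subgroup G, Yj r j ≤ normalizer (E : Set G) ∧ Nj r i ≤ E ∧ F ≤ o2 (centralizer (ZJ : Set G)) ∧
    ¬ F ≤ centralizer (Nj r j : Set G) ∧ ∀ e ∈ E, ∀ f ∈ F, ⁅e, f⁆ ∈ Nj r j

theorem Fr.lv_cj (h : Fr ZJ B r) {g : G} {σ : Equiv.Perm ι} (hg : Pm r g σ) {i j : ι} (hl : Lv ZJ r i j) :
    Lv ZJ r (σ i) (σ j) := by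
  obtain ⟨E, F, h1, h2, h3, h4, h5⟩ := hl
  refine ⟨cj g E, cj g F, ?_, ?_, ?_, ?_, ?_⟩
  · rw [← cj_Y hg, ← cj_normalizer]
    exact cj_mono g h1
  · rw [← cj_N hg]
    exact cj_mono g h2
  · rw [← h.cj_O hg]
    exact cj_mono g h3
  · intro hc
    rw [← cj_N hg, ← cj_centralizer] at hc
    have h6 := cj_mono g⁻¹ hc
    rw [cj_inv_cj, cj_inv_cj] at h6
    exact h4 h6
  · intro e he f hf
    rw [mem_cj] at he hf
    have h6 := h5 _ he _ hf
    rw [← cj_N hg, mem_cj]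
    have e1 : g⁻¹ * ⁅e, f⁆ * g = ⁅g⁻¹ * e * g, g⁻¹ * f * g⁆ := by
      simp only [commutatorElement_def]
      group
    rw [e1]
    exact h6

section fin

variable [Finite G]

theorem Fr.lever (h : Fr ZJ B r) (hno : ∀ j, NoOn (o2 (centralizer (ZJ : Set G))) (Nj r j)) {i j : ι} {A : Subgroup G}
    (hA : A ∈ AA (o2 (centralizer (ZJ : Set G)))) (hm : ¬ A ≤ centralizer (Nj r j : Set G)) :
    Lv ZJ r i j ∨ Lv ZJ r j i := by
  set O : Subgroup G := o2 (centralizer (ZJ : Set G)) with hOdef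
  set Y : Subgroup G := ⨆ b : Bool, Yj r (cond b i j) with hY
  set E : Subgroup G := NoFF.Basic.V ZJ Y with hE
  have hYi : ∀ b : Bool, Yj r (cond b i j) ≤ Y := fun b => le_iSup (fun b : Bool => Yj r (cond b i j)) b
  have hYX : Y ≤ CT r ({i, j} : Set ι)ᶜ := by
    refine iSup_le fun b => ?_
    cases b
    · exact Y_le_CT'
    · exact Y_le_CT
  have hEO : E ≤ O := (h.E_le_o2 hYX).trans (h.o2_X_le_O i j)
  have hEe : IsElementaryAbelian 2 E := h.E_el hYX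
  have hYE : Y ≤ normalizer (E : Set G) := norm_V
  have hOY : ∀ l, O ≤ Yj r l := fun l => (Cfsg.Agent.ZN.o2_le _).trans (h.D_le_Y l)
  have hNE : ∀ b : Bool, Nj r (cond b i j) ≤ E := fun b => h.N_le_E (hYi b)
  have hD : EK3.Lever.Dt O E ZJ (fun b : Bool => Yj r (cond b i j)) (fun b : Bool => Nj r (cond b i j)) := by
    refine ⟨(ExactA.eab_iff.1 hEe).1, fun b => hOY _, fun b => (hYi b).trans hYE, Cfsg.Agent.ZN.o2_le _, ?_, hNE,
      fun b => Y_norm_N _, fun b => ?_, fun b F hF hFO => hno _ F hF hFO⟩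
    · refine NoFF.Basic.V_le fun p hp => ?_
      refine le_trans ?_ (le_iSup (fun y : (⨆ b : Bool, Yj r (cond b i j) : Subgroup G) => cj (y : G) ZJ) ⟨p, hp⟩)
      intro x hx
      rw [NoFF.Basic.mem_conj] at hx
      exact mem_cj.2 hx
    · rw [h.inf_eq]
      exact MinSimple.VModule.le_normalizer_o2 _
  have hAO : A ≤ O := hA.2.1
  have hoff : Offd E A := EK3.Rank.offd_of_mem hEe hEO hA ((hAO.trans (hOY i)).trans ((hYi true).trans hYE))
    (hNE false) hm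
  obtain ⟨b, F, h1, h2, h3, h4⟩ := hD.lever hAO hA.1 hoff
  cases b
  · exact Or.inl ⟨E, F, (hYi false).trans hYE, hNE true, h1, h3, h4⟩
  · exact Or.inr ⟨E, F, (hYi true).trans hYE, hNE false, h1, h3, h4⟩

omit [Finite G] in
/-- the elements `k ∈ N(N)` with `[E, k] ≤ N` -/
def cen (E N : Subgroup G) : Subgroup G where
  carrier := {k | k ∈ normalizer (N : Set G) ∧ ∀ e ∈ E, ⁅e, k⁆ ∈ N}
  one_mem' := ⟨one_mem _, fun e _ => by rw [commutatorElement_one_right]; exact one_mem _⟩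
  mul_mem' := by
    rintro a b ⟨ha, ha'⟩ ⟨hb, hb'⟩
    refine ⟨mul_mem ha hb, fun e he => ?_⟩
    have e1 : ⁅e, a * b⁆ = ⁅e, a⁆ * (a * ⁅e, b⁆ * a⁻¹) := by
      simp only [commutatorElement_def]
      group
    rw [e1]
    exact mul_mem (ha' e he) ((mem_normalizer_iff.1 ha _).1 (hb' e he))
  inv_mem' := by
    rintro a ⟨ha, ha'⟩
    refine ⟨inv_mem ha, fun e he => ?_⟩
    have e1 : ⁅e, a⁻¹⁆ = a⁻¹ * ⁅e, a⁆⁻¹ * a⁻¹⁻¹ := by
      simp only [commutatorElement_def]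
      group
    rw [e1]
    exact (mem_normalizer_iff.1 (inv_mem ha) _).1 (inv_mem (ha' e he))

omit [Finite G] in
/-- **(3)** -/
theorem Fr.norm_sup (h : Fr ZJ B r) {i j : ι} (hl : Lv ZJ r i j)
    (hqp : ∀ K : Subgroup G, K ≤ Yj r j → Yj r j ≤ normalizer (K : Set G) → ¬ K ≤ centralizer (ZJ : Set G) →
      Yj r j ≤ K ⊔ centralizer (ZJ : Set G)) : Yj r j ≤ normalizer ((Nj r i ⊔ Nj r j : Subgroup G) : Set G) := by
  obtain ⟨E, F, h1, h2, h3, h4, h5⟩ := hl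
  have hFY : F ≤ Yj r j := (h3.trans (Cfsg.Agent.ZN.o2_le _)).trans (h.D_le_Y j)
  set K : Subgroup G := NoFF.Basic.V F (Yj r j) with hK
  have hKY : K ≤ Yj r j := NoFF.Basic.V_le fun p hp x hx => by
    rw [NoFF.Basic.mem_conj] at hx
    have e : x = p * (p⁻¹ * x * p) * p⁻¹ := by group
    rw [e]
    exact mul_mem (mul_mem hp (hFY hx)) (inv_mem hp)
  have hKN : Yj r j ≤ normalizer (K : Set G) := norm_V
  have hKc : K ≤ cen E (Nj r j) := NoFF.Basic.V_le fun p hp x hx => by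
    rw [NoFF.Basic.mem_conj] at hx
    refine ⟨Y_norm_N j ?_, fun e he => ?_⟩
    · have e : x = p * (p⁻¹ * x * p) * p⁻¹ := by group
      rw [e]
      exact mul_mem (mul_mem hp (hFY hx)) (inv_mem hp)
    · have he' : p⁻¹ * e * p ∈ E := by
        have := (mem_normalizer_iff.1 (h1 (inv_mem hp)) e).1 he
        rwa [inv_inv] at this
      have h6 := h5 _ he' _ hx
      have h7 := (mem_normalizer_iff.1 (Y_norm_N j hp) _).1 h6
      have e1 : p * ⁅p⁻¹ * e * p, p⁻¹ * x * p⁆ * p⁻¹ = ⁅e, x⁆ := by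
        simp only [commutatorElement_def]
        group
      rwa [e1] at h7
  have hKD : ¬ K ≤ centralizer (ZJ : Set G) := by
    intro hc
    apply h4
    have h6 : Nj r j ≤ centralizer (K : Set G) := by
      refine N_le fun p hp => ?_
      rw [mem_centralizer_iff]
      intro k hk
      have h7 : p⁻¹ * k * p ∈ K := by
        have := (mem_normalizer_iff.1 (hKN (inv_mem hp)) k).1 hk
        rwa [inv_inv] at this
      have h8 := h.cent (hc h7) j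
      calc k * (p * r j * p⁻¹) = p * ((p⁻¹ * k * p) * r j) * p⁻¹ := by group
        _ = p * (r j * (p⁻¹ * k * p)) * p⁻¹ := by rw [h8]
        _ = p * r j * p⁻¹ * k := by group
    exact (le_V (Z := F) (Y := Yj r j)).trans (le_centralizer_iff.1 h6)
  refine (hqp K hKY hKN hKD).trans (sup_le ?_ ?_)
  · intro k hk
    have key : ∀ k ∈ K, ∀ x ∈ (Nj r i ⊔ Nj r j : Subgroup G), k * x * k⁻¹ ∈ (Nj r i ⊔ Nj r j : Subgroup G) := by
      intro k hk x hx
      have h6 : (Nj r i ⊔ Nj r j : Subgroup G) ≤ cj k⁻¹ (Nj r i ⊔ Nj r j) := by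
        refine sup_le (fun n hn => ?_) fun n hn => ?_
        · rw [mem_cj, inv_inv]
          have h7 := (hKc hk).2 _ (h2 (inv_mem hn))
          have e : k * n * k⁻¹ = n * ⁅n⁻¹, k⁆ := by
            simp only [commutatorElement_def]
            group
          rw [e]
          exact mul_mem (mem_sup_left hn) (mem_sup_right h7)
        · rw [mem_cj, inv_inv]
          exact mem_sup_right ((mem_normalizer_iff.1 (hKc hk).1 n).1 hn)
      have h7 := h6 hx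
      rwa [mem_cj, inv_inv] at h7
    rw [mem_normalizer_iff]
    intro x
    refine ⟨key k hk x, fun hx => ?_⟩
    have h6 := key k⁻¹ (inv_mem hk) _ hx
    have e : k⁻¹ * (k * x * k⁻¹) * k⁻¹⁻¹ = x := by group
    rwa [e] at h6
  · refine (le_inf ((h.D_le_Y i).trans (Y_norm_N i)) ((h.D_le_Y j).trans (Y_norm_N j))).trans ?_
    exact normalizer_inf_normalizer_le_normalizer_sup _ _

/-- **THEOREM S'.** -/
theorem Fr.main (h : Fr ZJ B r) [Nonempty ι] (hno : ∀ j, NoOn (o2 (centralizer (ZJ : Set G))) (Nj r j))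
    (hqp : ∀ j, ∀ K : Subgroup G, K ≤ Yj r j → Yj r j ≤ normalizer (K : Set G) → ¬ K ≤ centralizer (ZJ : Set G) →
      Yj r j ≤ K ⊔ centralizer (ZJ : Set G))
    (htr : ∀ i j i' j' : ι, i ≠ j → i' ≠ j' → ∃ (g : G) (σ : Equiv.Perm ι), Pm r g σ ∧ σ i = i' ∧ σ j = j') :
    ∃ W : Subgroup G, W ≠ ⊥ ∧ IsPGroup 2 W ∧ ∀ j, Yj r j ≤ normalizer (W : Set G) := by
  set O : Subgroup G := o2 (centralizer (ZJ : Set G)) with hOdef
  by_cases hJ : ∀ i j, jj (O ⊓ centralizer (Nj r i : Set G)) = jj (O ⊓ centralizer (Nj r j : Set G))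
  · obtain ⟨i0⟩ := ‹Nonempty ι›
    refine ⟨jj (O ⊓ centralizer (Nj r i0 : Set G)), fun e => ?_, ?_, fun j => ?_⟩
    · obtain ⟨A, hA⟩ := AA_nonempty (O ⊓ centralizer (Nj r i0 : Set G))
      have h1 := EK3.Rank.le_of_mem_inf (h.N_el i0) (h.N_le_O i0) (hno i0) hA
      have h2 := (h1.trans (le_jj hA)) (r_mem_N i0)
      rw [e, mem_bot] at h2
      exact h.ne i0 h2
    · exact (MinSimple.VModule.o2_isPGroup _).to_le ((ZN.ChoiceBase.jj_le _).trans inf_le_left)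
    · rw [hJ i0 j]
      intro y hy
      rw [mem_normalizer_iff_cj, ← jj_cj, h.inf_eq, cj_eq_of_mem_normalizer (MinSimple.VModule.le_normalizer_o2 _ hy)]
  push Not at hJ
  obtain ⟨i, j, hne⟩ := hJ
  have hij : i ≠ j := fun e => hne (by rw [e])
  obtain ⟨g, σ, hg, hσ1, hσ2⟩ := htr i j j i hij hij.symm
  have hcard := EK3.Rank.card_jj_of_cj g (h.cj_O hg) ((cj_N hg i).trans (by rw [hσ1]))
  obtain ⟨A, -, hA, hm⟩ := EK3.Rank.exists_moving (h.N_el i) (h.N_le_O i) (hno i) (h.N_el j) (h.N_le_O j) (hno j)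
    hcard hne
  have hL : ∀ i' j' : ι, i' ≠ j' → Lv ZJ r i' j' := by
    intro i' j' hij'
    rcases h.lever hno (i := i) hA hm with h1 | h1
    · obtain ⟨g, σ, hg, hσ1, hσ2⟩ := htr i j i' j' hij hij'
      have := h.lv_cj hg h1
      rwa [hσ1, hσ2] at this
    · obtain ⟨g, σ, hg, hσ1, hσ2⟩ := htr j i i' j' hij.symm hij'
      have := h.lv_cj hg h1
      rwa [hσ1, hσ2] at this
  refine ⟨⨆ i, Nj r i, fun e => ?_, ?_, fun j y hy => ?_⟩
  · have h1 : r i ∈ ⨆ i, Nj r i := (le_iSup (Nj r) i) (r_mem_N i)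
    rw [e, mem_bot] at h1
    exact h.ne i h1
  · exact (MinSimple.VModule.o2_isPGroup (centralizer (ZJ : Set G))).to_le (iSup_le h.N_le_O)
  · apply mem_normalizer_of_cj_le
    rw [cj_le_iff]
    refine iSup_le fun l => ?_
    by_cases hl : l = j
    · rw [hl, ← cj_le_iff, cj_eq_of_mem_normalizer (Y_norm_N j hy)]
      exact le_iSup (Nj r) j
    · have h1 := h.norm_sup (hL l j hl) (hqp j) hy
      refine le_sup_left.trans (?_ : (Nj r l ⊔ Nj r j : Subgroup G) ≤ _)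
      rw [← cj_le_iff, cj_eq_of_mem_normalizer h1]
      exact sup_le (le_iSup (Nj r) l) (le_iSup (Nj r) j)

end fin

end Cfsg.Agent.Omega.ESym.Abs

end
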