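import Cfsg.Agent.Mrg.Omega.EK3.UFixX
import Cfsg.Agent.Mrg.Omega.EK3.Base
import Cfsg.Agent.Mrg.Omega.EK3.Rank
import Cfsg.Agent.Mrg.Omega.LemmaK
import Cfsg.Agent.Mrg.Omega.IITwo.Count

section


/-!
# EK3: STAR in the frame `EK3.Fr` (helper520)

* `Fr.YY_eq_YC`, `Fr.NN_eq_NC` : the groups of `EK3.Frame` and of `EK3.MainS` agree;
* **`Fr.exists_star`** : in `EK3.Fr` with `NLoc (D ⊔ ⨆ L i)` and `MLK` there are `i ≠ j` and an elementary abelian `F ≤ O₂(D)`,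
  `F ≤ C(N i)`, `F ≰ C(N j)`, `F ≤ O₂(YY z j ⊓ C(W i))`, exact on every `N j ≤ M ≤ E := ⟨ZJ^⟨YY z i, YY z j⟩⟩`,
  `C_F(N j) ≤ C(E)`, `E = N j C_E(F)`.
-/

set_option autoImplicit false
set_option linter.unusedSectionVars false

namespace Cfsg.Agent.Omega.EK3

open Subgroup Cfsg Cfsg.Agent.ZN.ChoiceBase
open Cfsg.Agent.ZN (zc zl o2)
open Cfsg.Agent.Omega.OM Cfsg.Agent.Omega.OM.Uni
open Cfsg.Agent.Omega.NO3S.EThree.Frame
open Cfsg.Agent.Omega.Node.MultiOf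
open Cfsg.Agent.Omega.EK3.StarE (EE)
open Cfsg.Agent.Omega.EK3.MainS (YC NC)

universe u

variable {G : Type u} [Group G]

theorem YY_eq_YC {k : ℕ} (z : Fin k → G) (j : Fin k) : YY z j = YC z j := by
  ext x
  rw [mem_YY, MainS.mem_YC]

theorem NN_eq_NC {k : ℕ} (z : Fin k → G) (j : Fin k) : NN z j = NC z j := by
  unfold NN
  rw [YY_eq_YC]

/-- the output of STAR in `EK3.Fr` -/
structure StarOut {k : ℕ} (ZJ : Subgroup G) (W : Fin k → Subgroup G) (z : Fin k → G) (i j : Fin k)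
    (F : Subgroup G) : Prop where
  ne : i ≠ j
  el : IsElementaryAbelian 2 F
  FO : F ≤ o2 (centralizer (ZJ : Set G))
  ci : F ≤ centralizer (NN z i : Set G)
  mv : ¬ F ≤ centralizer (NN z j : Set G)
  low : F ≤ o2 (YY z j ⊓ centralizer (W i : Set G))
  cent : F ⊓ centralizer (NN z j : Set G) ≤ centralizer (EE ZJ (YY z i ⊔ YY z j) : Set G)
  sup : EE ZJ (YY z i ⊔ YY z j) ≤ NN z j ⊔ (EE ZJ (YY z i ⊔ YY z j) ⊓ centralizer (F : Set G))
  ex : ∀ M : Subgroup G, NN z j ≤ M → M ≤ EE ZJ (YY z i ⊔ YY z j) →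
    (centralizer (M : Set G)).relIndex F = (centralizer (F : Set G)).relIndex M

/-- **STAR.** -/
theorem Fr.exists_star [Finite G] {S : Sylow 2 G} {P K B ZJ : Subgroup G} {k : ℕ} {L W Z C : Fin k → Subgroup G}
    {z : Fin k → G} (h : Fr S P K B ZJ L W Z C z) (hML : ML.Final.MLK.{u, u})
    (hn : NLoc (centralizer (ZJ : Set G) ⊔ ⨆ i, L i)) : ∃ i j F, StarOut ZJ W z i j F := by
  have hT := MainS.exists_third h.three
  have hgen : ∀ i, YC z i ≤ centralizer (ZJ : Set G) ⊔ L i := fun i => by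
    rw [← YY_eq_YC]; exact h.Y_le i
  have hQ : ∀ i, o2 (YC z i) = o2 (centralizer (ZJ : Set G)) ⊓ centralizer (NC z i : Set G) := fun i => by
    have := h.Q_eq i
    rwa [YY_eq_YC, NN_eq_NC] at this
  have hno : ∀ i, Rank.NoOn (o2 (centralizer (ZJ : Set G))) (NC z i) := fun i A hA hAO => by
    have := h.no hML (j := i) hAO (NO3S.EThree.ExactA.eab_iff.1 hA).2
    rwa [NN_eq_NC] at this
  have hnl : ∀ U : Subgroup G, U ≤ o2 (centralizer (ZJ : Set G)) →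
      centralizer (ZJ : Set G) ≤ normalizer (U : Set G) → (∀ i, L i ≤ normalizer (U : Set G)) → U = ⊥ :=
    fun U h1 h2 h3 => hn U ((MinSimple.VModule.o2_isPGroup _).to_le h1) (sup_le h2 (iSup_le h3))
  have hst : ∀ i, YC z i ⊓ centralizer ((zpowers (z i) : Subgroup G) : Set G) ≤ centralizer (ZJ : Set G) := fun i => by
    rw [← h.stab i, ← YY_eq_YC]
    exact inf_le_inf_left _ (centralizer_le (Set.singleton_subset_iff.2 (mem_zpowers _)))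
  have hO : o2 (centralizer (ZJ : Set G)) ≠ ⊥ := fun e => by
    have h0 := h.three
    have h1 := h.o2_le_O ⟨0, by omega⟩ (h.z_mem_o2 ⟨0, by omega⟩ ⟨0, by omega⟩)
    rw [e, mem_bot] at h1
    exact h.z_ne _ h1
  obtain ⟨i, j, h1, F, h2, h3, h4, h5, h6, h7, h8, h9⟩ :=
    MainS.exists_out h.bg h.hz hT hgen hQ hno hnl hst hO
  simp only [← YY_eq_YC, ← NN_eq_NC] at h4 h5 h6 h7 h8 h9
  exact ⟨i, j, F, h1, h2, h3, h4, h5, h6, h7, h8, h9⟩

end Cfsg.Agent.Omega.EK3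

end

section


/-!
# THEOREM K3 (helper474, #22123), step (0), in the terms of `StarE.Fr`

Frame `Bg S P B ZJ L W Z C 2`, `Z i = {1, z i}`, `Y j = C_T`, `T = {j}ᶜ` (`mem_Yc`), `N j = ⟨z_j^(Y_j)⟩`,
`hk : ∀ i j, ∃ l, l ≠ i ∧ l ≠ j`.

* `EE_le_ET`, `eab_EE`, `EE_le_O`, `EE_le_o2` : `E_ij = ⟨ZJ^⟨Y_i, Y_j⟩⟩` is elementary abelian, in `O = O₂(C(ZJ))` and in
  `O₂(Y_i)`;
* `N_le_EE`, `W_le_EE`, `eab_N`, `N_le` : `N i ≤ O ⊓ C(N j)`, `Y_norm_N`, `N_le_o2Y`.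
-/

set_option autoImplicit false
set_option linter.unusedSectionVars false

namespace Cfsg.Agent.Omega.EK3

open Subgroup Cfsg Cfsg.Agent.ZN.ChoiceBase
open Cfsg.Agent.ZN (zc zl o2)
open Cfsg.Agent.Omega.NO3S.EThree.Frame (Bg Fg)
open Cfsg.Agent.Omega.NO3S.EThree.ExactA (eab_mono eab_sup eab_iff)
open Cfsg.Agent.Omega.EK3.StarE (EE EE_le cj_le_EE EE_mono norm_EE)
open scoped Pointwise

universe u

variable {G : Type u} [Group G] {S : Sylow 2 G} {P B ZJ : Subgroup G} {ι : Type} {L W Z C : ι → Subgroup G}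
  {z : ι → G}

/-- `Y_j = C_G(z_l : l ≠ j)` -/
def Yc (z : ι → G) (j : ι) : Subgroup G := CT z {j}ᶜ

theorem mem_Yc {j : ι} {x : G} : x ∈ Yc z j ↔ ∀ l, l ≠ j → x * z l = z l * x := by
  unfold Yc
  rw [mem_CT]
  exact Iff.rfl

theorem eq_Yc {j : ι} {Y : Subgroup G} (hY : ∀ x, x ∈ Y ↔ ∀ l, l ≠ j → x * z l = z l * x) : Y = Yc z j := by
  ext x
  rw [hY, mem_Yc]

/-- `N_j = ⟨z_j^(Y_j)⟩` -/
def Nc (z : ι → G) (j : ι) : Subgroup G := NoFF.Basic.V (zpowers (z j)) (Yc z j)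

theorem Y_norm_V (Z₀ Y : Subgroup G) : Y ≤ normalizer (NoFF.Basic.V Z₀ Y : Set G) := by
  intro g hg
  have h1 := NoFF.Basic.conj_V_mul (Z := Z₀) (g := 1) hg
  rw [one_mul, map_one, one_smul] at h1
  rw [mem_normalizer_iff]
  intro x
  conv_lhs => rw [← Subgroup.smul_mem_pointwise_smul_iff (a := MulAut.conj g), h1]
  rfl

theorem Y_norm_N (j : ι) : Yc z j ≤ normalizer (Nc z j : Set G) := Y_norm_V _ _

theorem Yc_sup_le {i j : ι} : Yc z i ⊔ Yc z j ≤ CT z ({i, j} : Set ι)ᶜ :=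
  sup_le (CT_mono (Set.compl_subset_compl.2 (Set.singleton_subset_iff.2 (Or.inl rfl))))
    (CT_mono (Set.compl_subset_compl.2 (Set.singleton_subset_iff.2 (Or.inr rfl))))

theorem EE_le_ET {T : Set ι} {Y : Subgroup G} (hY : Y ≤ CT z T) : EE ZJ Y ≤ ET ZJ z T :=
  EE_le fun _ hy => NoFF.Basic.Z_le_V (Z := ZJ) (hY hy)

variable [Finite G] [Finite ι] (h : Bg S P B ZJ L W Z C 2) (hz : ∀ i x, x ∈ Z i ↔ x = 1 ∨ x = z i)
  (hk : ∀ i j : ι, ∃ l, l ≠ i ∧ l ≠ j)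
include h hz

theorem eab_ET {T : Set ι} (hT : T.Nonempty) : IsElementaryAbelian 2 (ET ZJ z T) :=
  eab_iff.2 ⟨ET_ab h hz hT, fun _ hx => ET_sq h hz hT hx⟩

include hk

omit h hz in
theorem compl_ne (i j : ι) : (({i, j} : Set ι)ᶜ).Nonempty := by
  obtain ⟨l, h1, h2⟩ := hk i j
  exact ⟨l, by simp [h1, h2]⟩

theorem eab_EE (i j : ι) : IsElementaryAbelian 2 (EE ZJ (Yc z i ⊔ Yc z j)) :=
  eab_mono (eab_ET h hz (compl_ne hk i j)) (EE_le_ET Yc_sup_le)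

theorem EE_le_O (i j : ι) : EE ZJ (Yc z i ⊔ Yc z j) ≤ o2 (centralizer (ZJ : Set G)) :=
  (EE_le_ET Yc_sup_le).trans (ET_le_O h hz (compl_ne hk i j))

theorem EE_le_o2 (i j : ι) : EE ZJ (Yc z i ⊔ Yc z j) ≤ o2 (Yc z i) :=
  (EE_le_ET Yc_sup_le).trans (ET_le_of_le h hz (compl_ne hk i j) (cent_le_CT h hz) CT_compl_le)

omit hk in
theorem N_le_EE (i : ι) : Nc z i ≤ EE ZJ (Yc z i) :=
  NoFF.Basic.V_le fun _ hy => (NoFF.Basic.conj_le_iff.2 (zpowers_le.2 (z_mem h hz i))).trans (cj_le_EE hy)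

omit hk in
theorem W_le_EE (i : ι) : W i ≤ EE ZJ (Yc z i) := by
  intro v hv
  by_cases hv1 : v = 1
  · rw [hv1]; exact one_mem _
  obtain ⟨l, -, hlC, y, hy, e⟩ := h.tr i v hv hv1
  have hl : l ∈ Yc z i := by
    rw [mem_Yc]
    intro m hm
    exact (mem_centralizer_iff.1 hlC _ (h.fr.WjC i m hm.symm ((h.fr.blk m).ZV (z_mem_Z h hz m)))).symm
  rw [← e]
  exact cj_le_EE hl ⟨y, h.fr.Z_le i hy, rfl⟩

/-- `W i ≤ N i` -/
theorem W_le_Nc (i : ι) : W i ≤ Nc z i := by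
  intro v hv
  by_cases hv1 : v = 1
  · rw [hv1]; exact one_mem _
  obtain ⟨l, -, hlC, y, hy, e⟩ := h.tr i v hv hv1
  have hl : l ∈ Yc z i := by
    rw [mem_Yc]
    intro m hm
    exact (mem_centralizer_iff.1 hlC _ (h.fr.WjC i m hm.symm ((h.fr.blk m).ZV (z_mem_Z h hz m)))).symm
  rw [← e]
  refine NoFF.Basic.Z_le_V (Z := zpowers (z i)) hl ⟨y, ?_, rfl⟩
  rcases (hz i y).1 hy with e1 | e1
  · rw [e1]; exact one_mem _
  · rw [e1]; exact mem_zpowers _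

theorem N_le_E (i j : ι) : Nc z i ≤ EE ZJ (Yc z i ⊔ Yc z j) := (N_le_EE h hz i).trans (EE_mono le_sup_left)

theorem N_le_E' (i j : ι) : Nc z j ≤ EE ZJ (Yc z i ⊔ Yc z j) := (N_le_EE h hz j).trans (EE_mono le_sup_right)

theorem eab_N (i : ι) : IsElementaryAbelian 2 (Nc z i) := eab_mono (eab_EE h hz hk i i) (N_le_E h hz hk i i)

theorem N_le_O (i : ι) : Nc z i ≤ o2 (centralizer (ZJ : Set G)) := (N_le_E h hz hk i i).trans (EE_le_O h hz hk i i)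

theorem N_comm (i j : ι) : Nc z i ≤ centralizer (Nc z j : Set G) := by
  intro x hx
  rw [mem_centralizer_iff]
  intro y hy
  exact mem_centralizer_iff.1 ((eab_iff.1 (eab_EE h hz hk i j)).1 (N_le_E h hz hk i j hx)) y
    (N_le_E' h hz hk i j hy)

/-- `N_i ≤ O ⊓ C(N_j)` -/
theorem N_le (i j : ι) : Nc z i ≤ o2 (centralizer (ZJ : Set G)) ⊓ centralizer (Nc z j : Set G) :=
  le_inf (N_le_O h hz hk i) (N_comm h hz hk i j)

/-- `N_i ≤ O₂(Y_j)` -/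
theorem N_le_o2Y (i j : ι) : Nc z i ≤ o2 (Yc z j) := by
  have h1 := (N_le_E' h hz hk j i).trans (EE_le_o2 h hz hk j i)
  exact h1

end Cfsg.Agent.Omega.EK3

end

section


/-!
# The universal frame over `B`, `q = 2` (for THEOREM U #24127)

No Sylow subgroup of `G`, no `P`: `ZJ = Ω₁(Z(B)) = ⟨z i⟩`, `B` a Sylow 2-subgroup of `C_G(ZJ)`, four-groups `W i ∋ z i`, an element
`ρ` which centralises the `z l`, `l ≠ i`, and moves `z i` in `W i`; every `B`-minimal `R` in a `C_G(z l)` which moves `ZJ`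
normalises one `W i` and centralises the `z l`, `l ≠ i` (UNI+).

* `Bx` : the frame (port of helper474's / helper388's `EK3/{Base,BaseE,Frame,Inst}`);
* `Bx.o2_CT_le_B`, `Bx.char2_CT`, `Bx.eab_ET`, `Bx.ET_le_O`, `Bx.ET_le_o2` : the groups `C_T = C_G(z_l : l ∈ T)`;
* `Bx.syl_Y`, `Bx.norm_Y`, `Bx.stab`, `Bx.parY`, `Bx.genY` (QP), `Bx.Q_eq`, `Bx.W_le_N`, `Bx.conj`.
-/

set_option autoImplicit false
set_option linter.unusedSectionVars false

namespace Cfsg.Agent.Omega.EDel.BxF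

open Subgroup Cfsg Cfsg.Agent.ZN.ChoiceBase
open Cfsg.Agent.ZN (zc zl o2)
open Cfsg.Agent.ZN.ChoiceSit (Syl o2_le_syl)
open Cfsg.Agent.Omega.NO3S.EThree.ExactA (eab_mono eab_sup eab_iff)
open Cfsg.Agent.Omega.EK3 (CT mem_CT CT_mono ET ZJ_le_ET CT_norm_ET V_le_ET CT_compl_le CT_compl_le' Yc mem_Yc Nc
  Y_norm_V Y_norm_N)
open Cfsg.Agent.MinSimple.MinParabolic (IsMinPar le_of_forall)
open Cfsg.Agent.MinSimple.VModule (zc_le normalizer_le_normalizer_zc le_normalizer_o2 o2_isPGroup le_o2 o2_le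
  le_centralizer_zc)
open scoped Pointwise commutatorElement

universe u

variable {G : Type u} [Group G]

/-- **The universal frame over `B`, `q = 2`.** -/
structure Bx [Finite G] (B J ZJ : Subgroup G) {ι : Type} (W : ι → Subgroup G) (z : ι → G) : Prop where
  c2 : IsCharacteristicTwoType G
  two : IsPGroup 2 B
  syl : Syl B (centralizer (ZJ : Set G))
  zcB : zc B = ZJ
  zJ : ∀ i, z i ∈ ZJ
  gen : ZJ ≤ closure (Set.range z)
  ne : ∀ i, z i ≠ 1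
  inj : Function.Injective z
  zW : ∀ i, z i ∈ W i
  WB : ∀ i, W i ≤ B
  cardW : ∀ i, Nat.card (W i) = 4
  sqW : ∀ i, ∀ x ∈ W i, x ^ 2 = 1
  WJ : ∀ i, ∀ x ∈ W i, x ∈ ZJ → x = 1 ∨ x = z i
  BW : ∀ i, ∀ b ∈ B, ∀ x ∈ W i, b * x * b⁻¹ * x⁻¹ = 1 ∨ b * x * b⁻¹ * x⁻¹ = z i
  rho : ∀ i, ∃ ρ : G, (∀ l, l ≠ i → ρ * z l = z l * ρ) ∧ ρ * z i * ρ⁻¹ ∈ W i ∧ ρ * z i * ρ⁻¹ ≠ z i
  perm : ∀ g ∈ normalizer (B : Set G), ∀ i, ∃ j, g * z i * g⁻¹ = z j
  nJ : ∀ T : Subgroup G, IsPGroup 2 T → J ≤ T → T ≤ B → normalizer (T : Set G) ≤ normalizer (ZJ : Set G)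
  par : ∀ R : Subgroup G, (∃ l, R ≤ centralizer ({z l} : Set G)) → IsMinPar B R → Syl B R →
    R ⊓ centralizer (o2 R : Set G) ≤ o2 R → ¬ J ≤ o2 R → ¬ R ≤ centralizer (ZJ : Set G) →
    ∃ i, R ≤ normalizer (W i : Set G) ∧ ∀ l, l ≠ i → R ≤ centralizer ({z l} : Set G)
  three : ∀ i j : ι, ∃ l, l ≠ i ∧ l ≠ j

namespace Bx

variable [Finite G] {B J ZJ : Subgroup G} {ι : Type} {W : ι → Subgroup G} {z : ι → G} {T : Set ι}
  (h : Bx B J ZJ W z)
include h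

theorem mem_J {x : G} (hx : x ∈ ZJ) : x ∈ B ∧ x ^ 2 = 1 ∧ ∀ b ∈ B, b * x = x * b := by
  rw [← h.zcB, mem_zc] at hx
  exact hx

theorem ZJB : ZJ ≤ B := fun _ hx => (h.mem_J hx).1

theorem sqJ {x : G} (hx : x ∈ ZJ) : x ^ 2 = 1 := (h.mem_J hx).2.1

theorem z_sq (i : ι) : z i ^ 2 = 1 := h.sqJ (h.zJ i)

theorem BD : B ≤ centralizer (ZJ : Set G) := h.syl.1

theorem zz (i j : ι) : z i * z j = z j * z i := ((h.mem_J (h.zJ j)).2.2 _ (h.ZJB (h.zJ i)))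

theorem JJ {x y : G} (hx : x ∈ ZJ) (hy : y ∈ ZJ) : x * y = y * x := (h.mem_J hy).2.2 _ (h.ZJB hx)

theorem mem_D {x : G} (hx : ∀ i, x * z i = z i * x) : x ∈ centralizer (ZJ : Set G) := by
  have h1 : ZJ ≤ centralizer ({x} : Set G) := by
    refine h.gen.trans ((closure_le _).2 ?_)
    rintro _ ⟨i, rfl⟩
    exact mem_centralizer_singleton_iff.2 (hx i).symm
  rw [mem_centralizer_iff]
  exact fun y hy => mem_centralizer_singleton_iff.1 (h1 hy)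

theorem D_comm {x : G} (hx : x ∈ centralizer (ZJ : Set G)) (i : ι) : x * z i = z i * x :=
  (mem_centralizer_iff.1 hx _ (h.zJ i)).symm

theorem D_le_CT (T : Set ι) : centralizer (ZJ : Set G) ≤ CT z T := fun _ hx => mem_CT.2 fun l _ => h.D_comm hx l

theorem B_le_CT (T : Set ι) : B ≤ CT z T := h.BD.trans (h.D_le_CT T)

theorem norm_ZJ : normalizer (B : Set G) ≤ normalizer (ZJ : Set G) := by
  rw [← h.zcB]
  exact normalizer_le_normalizer_zc B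

/-- some `ρ` moves `z i` out of `ZJ` -/
theorem exists_rho (i : ι) : ∃ ρ : G, (∀ l, l ≠ i → ρ * z l = z l * ρ) ∧ ρ * z i * ρ⁻¹ ∈ W i ∧ ρ * z i * ρ⁻¹ ∉ ZJ := by
  obtain ⟨ρ, h1, h2, h3⟩ := h.rho i
  refine ⟨ρ, h1, h2, fun h4 => ?_⟩
  rcases h.WJ i _ h2 h4 with e | e
  · exact h.ne i (conj_eq_one_iff.1 e)
  · exact h3 e

/-- a nontrivial element of a four-group -/
theorem eq_of_four' {W' : Subgroup G} (h4 : Nat.card W' = 4) (hsq : ∀ x ∈ W', x ^ 2 = 1) {a b x : G} (ha : a ∈ W')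
    (ha1 : a ≠ 1) (hb : b ∈ W') (hb1 : b ≠ 1) (hab : a ≠ b) (hx : x ∈ W') (hx1 : x ≠ 1) : x = a ∨ x = b ∨ x = a * b :=
  NO3S.eq_of_card_four h4 hsq ha ha1 hb hb1 hab hx hx1

/-- `B` induces the transvection with centre `z j` on `W j` -/
theorem swap {j : ι} {x : G} (hx : x ∈ W j) (hx1 : x ≠ 1) (hxz : x ≠ z j) : ∃ b ∈ B, b * x * b⁻¹ = z j * x := by
  by_contra hcon
  push Not at hcon
  have h1 : x ∈ ZJ := by
    rw [← h.zcB, mem_zc]
    refine ⟨h.WB j hx, h.sqW j x hx, fun b hb => ?_⟩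
    rcases h.BW j b hb x hx with e | e
    · exact mul_inv_eq_iff_eq_mul.1 (mul_inv_eq_one.1 e)
    · exact absurd (mul_inv_eq_iff_eq_mul.1 e) (hcon b hb)
  rcases h.WJ j x hx h1 with e | e
  · exact hx1 e
  · exact hxz e

/-- a 2-group over `B`, in which `N(B)` centralises `ZJ`, is `B` (normaliser growth) -/
theorem le_of_norm {R : Subgroup G} (hR : IsPGroup 2 R) (hBR : B ≤ R)
    (hn : R ⊓ normalizer (B : Set G) ≤ centralizer (ZJ : Set G)) : R ≤ B := by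
  by_contra hne
  obtain ⟨n, hnR, hnB, hnN⟩ := ThmC.exists_normalizer hR hBR hne
  have h1 := h.syl.2.2 (B ⊔ zpowers n)
    (sup_le h.BD (zpowers_le.2 (hn ⟨hnR, hnN⟩))) (hR.to_le (sup_le hBR (zpowers_le.2 hnR))) le_sup_left
  exact hnB (h1 ▸ (le_sup_right : zpowers n ≤ B ⊔ zpowers n) (mem_zpowers n))

/-! ### `O₂(C_T)` -/

variable (T)

/-- **an element of `O₂(C_T)` which normalises `B` centralises `ZJ`** -/
theorem o2_CT_norm : o2 (CT z T) ⊓ normalizer (B : Set G) ≤ centralizer (ZJ : Set G) := by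
  rintro t ⟨ht, htB⟩
  have hle : o2 (CT z T) ≤ CT z T := o2_le _
  have hCn : CT z T ≤ normalizer (o2 (CT z T) : Set G) := le_normalizer_o2 _
  refine h.mem_D fun i => ?_
  by_cases hi : i ∈ T
  · exact mem_CT.1 (hle ht) i hi
  obtain ⟨j, hj⟩ := h.perm t htB i
  by_cases hji : j = i
  · rw [hji] at hj
    exact mul_inv_eq_iff_eq_mul.1 hj
  exfalso
  obtain ⟨ρ, hρ, hρW, hρz⟩ := h.rho i
  have hρC : ρ ∈ CT z T := mem_CT.2 fun l hl => hρ l fun e => hi (e ▸ hl)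
  set v := ρ * z i * ρ⁻¹ with hv
  -- `N = ⟨z i ^ C_T⟩`
  set N : Subgroup G := closure {x | ∃ c ∈ CT z T, x = c * z i * c⁻¹} with hN
  have hzN : z i ∈ N := subset_closure ⟨1, one_mem _, by group⟩
  have hCN : CT z T ≤ normalizer (N : Set G) := by
    have key : ∀ c ∈ CT z T, N ≤ cj c⁻¹ N := by
      intro c hc
      rw [hN, closure_le]
      rintro _ ⟨d, hd, rfl⟩
      rw [← hN]
      change d * z i * d⁻¹ ∈ cj c⁻¹ N
      rw [mem_cj, inv_inv]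
      exact subset_closure ⟨c * d, mul_mem hc hd, by group⟩
    intro c hc
    rw [mem_normalizer_iff_cj]
    apply le_antisymm
    · have h1 := cj_mono c (key c hc)
      rwa [cj_cj_inv] at h1
    · have h1 := key c⁻¹ (inv_mem hc)
      rwa [inv_inv] at h1
  have hM : CT z T ≤ normalizer ((⁅N, o2 (CT z T)⁆ : Subgroup G) : Set G) := by
    intro c hc
    rw [mem_normalizer_iff_cj]
    change (⁅N, o2 (CT z T)⁆).map _ = _
    rw [map_commutator]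
    congr 1
    · exact mem_normalizer_iff_cj.1 (hCN hc)
    · exact mem_normalizer_iff_cj.1 (hCn hc)
  -- `z i z j ∈ [N, X]`
  have h1 : z i * (z j)⁻¹ ∈ ⁅N, o2 (CT z T)⁆ := by
    have h2 : ⁅z i, t⁆ ∈ ⁅N, o2 (CT z T)⁆ := commutator_mem_commutator hzN ht
    have e : ⁅z i, t⁆ = z i * (z j)⁻¹ := by
      have h3 : t * (z i)⁻¹ * t⁻¹ = (z j)⁻¹ := by rw [← hj]; group
      rw [commutatorElement_def, mul_assoc (z i), mul_assoc (z i), h3]
    rwa [e] at h2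
  have h2 : v * (z j)⁻¹ ∈ ⁅N, o2 (CT z T)⁆ := by
    have h3 := (mem_normalizer_iff.1 (hM hρC) _).1 h1
    have h4 : ρ * z j * ρ⁻¹ = z j := by rw [hρ j hji, mul_inv_cancel_right]
    have e : ρ * (z i * (z j)⁻¹) * ρ⁻¹ = v * (z j)⁻¹ := by
      calc ρ * (z i * (z j)⁻¹) * ρ⁻¹ = (ρ * z i * ρ⁻¹) * (ρ * z j * ρ⁻¹)⁻¹ := by group
        _ = v * (z j)⁻¹ := by rw [h4, ← hv]
    rwa [e] at h3
  have hv1 : v ≠ 1 := fun e => h.ne i (conj_eq_one_iff.1 e)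
  have h3 : z i * v ∈ ⁅N, o2 (CT z T)⁆ := by
    have h4 := mul_mem h1 (inv_mem h2)
    have h5 : v⁻¹ = v := inv_eq_of_mul_eq_one_left (by rw [← pow_two]; exact h.sqW i v hρW)
    have e : z i * (z j)⁻¹ * (v * (z j)⁻¹)⁻¹ = z i * v := by
      calc z i * (z j)⁻¹ * (v * (z j)⁻¹)⁻¹ = z i * v⁻¹ := by group
        _ = z i * v := by rw [h5]
    rwa [e] at h4
  obtain ⟨b, hb, hbe⟩ := h.swap hρW hv1 hρz
  have h4 : z i ∈ ⁅N, o2 (CT z T)⁆ := by
    have hc : b * ρ ∈ CT z T := mul_mem (h.B_le_CT T hb) hρC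
    refine (mem_normalizer_iff.1 (hM hc) _).2 ?_
    have e : b * ρ * z i * (b * ρ)⁻¹ = z i * v := by
      calc b * ρ * z i * (b * ρ)⁻¹ = b * v * b⁻¹ := by rw [hv]; group
        _ = z i * v := hbe
    rwa [e]
  have h5 : N ≤ ⁅N, o2 (CT z T)⁆ := by
    rw [hN, closure_le]
    rintro _ ⟨c, hc, rfl⟩
    rw [← hN]
    exact (mem_normalizer_iff.1 (hM hc) _).1 h4
  have h6 : ⁅N, o2 (CT z T)⁆ ≤ o2 (CT z T) := by
    rw [commutator_le]
    intro x hx y hy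
    have hxC : x ∈ normalizer (o2 (CT z T) : Set G) := by
      have : N ≤ normalizer (o2 (CT z T) : Set G) := by
        rw [hN, closure_le]
        rintro _ ⟨c, hc, rfl⟩
        have hzC : z i ∈ CT z T := mem_CT.2 fun l _ => h.zz i l
        exact hCn (mul_mem (mul_mem hc hzC) (inv_mem hc))
      exact this hx
    rw [commutatorElement_def]
    exact mul_mem ((mem_normalizer_iff.1 hxC _).1 hy) (inv_mem hy)
  have : Fact (Nat.Prime 2) := ⟨Nat.prime_two⟩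
  have h7 := LemmaK.eq_bot_of_le_commutator (o2_isPGroup (CT z T)) (h5.trans h6) h5
  have h8 : z i ∈ (⊥ : Subgroup G) := h7 ▸ hzN
  exact h.ne i (mem_bot.1 h8)

/-- **`O₂(C_T) ≤ B`** -/
theorem o2_CT_le_B : o2 (CT z T) ≤ B := by
  have hB : B ≤ normalizer (o2 (CT z T) : Set G) := (h.B_le_CT T).trans (le_normalizer_o2 _)
  have h1 : IsPGroup 2 (B ⊔ o2 (CT z T) : Subgroup G) :=
    IsPGroup.to_sup_of_normal_right' h.two (o2_isPGroup _) hB
  refine le_sup_right.trans (h.le_of_norm h1 le_sup_left ?_)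
  rintro x ⟨hx, hxN⟩
  obtain ⟨b, hb, y, hy, rfl⟩ : ∃ b ∈ B, ∃ y ∈ o2 (CT z T), b * y = x := by
    have h3 : x ∈ ((B ⊔ o2 (CT z T) : Subgroup G) : Set G) := hx
    rw [coe_mul_of_left_le_normalizer_right _ _ hB] at h3
    exact h3
  have hyN : y ∈ normalizer (B : Set G) := by
    have := mul_mem (inv_mem (Subgroup.le_normalizer hb)) hxN
    rwa [inv_mul_cancel_left] at this
  exact mul_mem (h.BD hb) (h.o2_CT_norm T ⟨hy, hyN⟩)

/-- **`O₂(C_T)` centralises `ZJ`** -/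
theorem o2_CT_le_cent : o2 (CT z T) ≤ centralizer (ZJ : Set G) := (h.o2_CT_le_B T).trans h.BD

/-- `O₂(C_T) ≤ O₂(X)` for `C(ZJ) ≤ X ≤ C_T` -/
theorem o2_CT_le_of_le {X : Subgroup G} (h1 : centralizer (ZJ : Set G) ≤ X) (h2 : X ≤ CT z T) :
    o2 (CT z T) ≤ o2 X :=
  MinSimple.Basic.o2_normal_le_o2 ((h.o2_CT_le_cent T).trans h1) h2

theorem o2_CT_le_o2 : o2 (CT z T) ≤ o2 (centralizer (ZJ : Set G)) :=
  h.o2_CT_le_of_le T le_rfl (h.D_le_CT T)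

variable {T}

/-- `C_T` has characteristic 2 -/
theorem char2_CT (hT : T.Nonempty) : CT z T ⊓ centralizer (o2 (CT z T) : Set G) ≤ o2 (CT z T) := by
  have e : CT z T = centralizer ((closure (z '' T) : Subgroup G) : Set G) := (centralizer_closure _).symm
  have hle : closure (z '' T) ≤ ZJ := by
    rw [closure_le]
    rintro _ ⟨l, -, rfl⟩
    exact h.zJ l
  rw [e]
  refine NOne.LemmaT.char2_centralizer h.c2 (h.two.to_le (hle.trans h.ZJB)) ?_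
  obtain ⟨l, hl⟩ := hT
  intro e1
  have h1 : z l ∈ closure (z '' T) := subset_closure ⟨l, hl, rfl⟩
  rw [e1, mem_bot] at h1
  exact h.ne l h1

theorem ZJ_le_zc (hT : T.Nonempty) : ZJ ≤ zc (o2 (CT z T)) := by
  have h1 : ZJ ≤ centralizer (o2 (CT z T) : Set G) := le_centralizer_iff.1 (h.o2_CT_le_cent T)
  intro x hx
  have h2 : x ∈ CT z T := mem_CT.2 fun l _ => h.JJ hx (h.zJ l)
  exact mem_zc.2 ⟨h.char2_CT hT ⟨h2, h1 hx⟩, h.sqJ hx, fun y hy => mem_centralizer_iff.1 (h1 hx) y hy⟩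

/-- **`E_T ≤ Ω₁Z(O₂(C_T))`** -/
theorem ET_le_zc (hT : T.Nonempty) : ET ZJ z T ≤ zc (o2 (CT z T)) := by
  have hCn : CT z T ≤ normalizer (zc (o2 (CT z T)) : Set G) :=
    (le_normalizer_o2 _).trans (normalizer_le_normalizer_zc _)
  refine NoFF.Basic.V_le fun p hp x hx => ?_
  rw [NoFF.Basic.mem_conj] at hx
  have h1 := (mem_normalizer_iff.1 (hCn hp) _).1 (h.ZJ_le_zc hT hx)
  have e : p * (p⁻¹ * x * p) * p⁻¹ = x := by group
  rwa [e] at h1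

theorem ET_le_o2 (hT : T.Nonempty) : ET ZJ z T ≤ o2 (CT z T) := (h.ET_le_zc hT).trans (zc_le _)

/-- `E_T ≤ O₂(X)` for `C(ZJ) ≤ X ≤ C_T` -/
theorem ET_le_of_le (hT : T.Nonempty) {X : Subgroup G} (h1 : centralizer (ZJ : Set G) ≤ X)
    (h2 : X ≤ CT z T) : ET ZJ z T ≤ o2 X := (h.ET_le_o2 hT).trans (h.o2_CT_le_of_le T h1 h2)

/-- `E_T ≤ O₂(C(ZJ))` -/
theorem ET_le_O (hT : T.Nonempty) : ET ZJ z T ≤ o2 (centralizer (ZJ : Set G)) :=
  (h.ET_le_o2 hT).trans (h.o2_CT_le_o2 T)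

theorem eab_ET (hT : T.Nonempty) : IsElementaryAbelian 2 (ET ZJ z T) := by
  rw [eab_iff]
  constructor
  · intro x hx
    rw [mem_centralizer_iff]
    intro y hy
    exact (mem_zc.1 (h.ET_le_zc hT hx)).2.2 y (h.ET_le_o2 hT hy)
  · exact fun x hx => (mem_zc.1 (h.ET_le_zc hT hx)).2.1

/-! ### `Y_j`, `N_j` -/

omit h in
theorem compl_one_ne (hk : ∀ i j : ι, ∃ l, l ≠ i ∧ l ≠ j) (j : ι) : (({j} : Set ι)ᶜ).Nonempty := by
  obtain ⟨l, h1, -⟩ := hk j j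
  exact ⟨l, h1⟩

omit h in
theorem compl_two_ne (hk : ∀ i j : ι, ∃ l, l ≠ i ∧ l ≠ j) (i j : ι) : (({i, j} : Set ι)ᶜ).Nonempty := by
  obtain ⟨l, h1, h2⟩ := hk i j
  exact ⟨l, by simp [h1, h2]⟩

theorem D_le (j : ι) : centralizer (ZJ : Set G) ≤ Yc z j := h.D_le_CT _

theorem B_le (j : ι) : B ≤ Yc z j := h.B_le_CT _

theorem mem_N (j : ι) : z j ∈ Nc z j := by
  have := NoFF.Basic.Z_le_V (Z := zpowers (z j)) (one_mem (Yc z j))
  rw [map_one, one_smul] at this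
  exact this (mem_zpowers _)

theorem stab (j : ι) : Yc z j ⊓ centralizer ({z j} : Set G) = centralizer (ZJ : Set G) := by
  apply le_antisymm
  · rintro x ⟨hx, hxj⟩
    refine h.mem_D fun i => ?_
    by_cases hi : i = j
    · subst hi
      exact mem_centralizer_singleton_iff.1 hxj
    · exact mem_Yc.1 hx i hi
  · exact le_inf (h.D_le j) fun x hx => mem_centralizer_singleton_iff.2 (h.D_comm hx j)

/-- an element of `N(B)` which centralises all `z l`, `l ≠ j`, is in `D` -/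
theorem norm_Y (j : ι) : Yc z j ⊓ normalizer (B : Set G) ≤ centralizer (ZJ : Set G) := by
  rintro g ⟨hg, hgB⟩
  rw [← h.stab j]
  refine ⟨hg, mem_centralizer_singleton_iff.2 ?_⟩
  obtain ⟨m, hm⟩ := h.perm g hgB j
  have hmj : m = j := by
    by_contra hne
    have h1 : g * z m * g⁻¹ = z m := by rw [mem_Yc.1 hg m hne]; group
    have h2 : z j = z m := mul_left_cancel (mul_right_cancel (hm.trans h1.symm))
    exact hne (h.inj h2).symm
  subst hmj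
  exact mul_inv_eq_iff_eq_mul.1 hm

/-- **`B` is Sylow in `Y_j`** -/
theorem syl_Y (j : ι) : Syl B (Yc z j) := by
  refine ⟨h.B_le j, h.two, fun R hR h2 hBR => le_antisymm (h.le_of_norm h2 hBR ?_) hBR⟩
  exact (inf_le_inf_right _ hR).trans (h.norm_Y j)

/-- Frattini in `N(ZJ)` -/
theorem frattini {g : G} (hg : g ∈ normalizer (ZJ : Set G)) :
    ∃ d ∈ centralizer (ZJ : Set G), ∃ n ∈ normalizer (B : Set G), g = d * n := by
  have hgD : cj g (centralizer (ZJ : Set G)) = centralizer (ZJ : Set G) := by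
    rw [cj_centralizer, cj_eq_of_mem_normalizer hg]
  have h1 : Syl (cj g B) (centralizer (ZJ : Set G)) := by
    refine ⟨by rw [← hgD]; exact cj_mono g h.syl.1, isPGroup_cj g h.two, fun R hR h2 hBR => ?_⟩
    have h3 : cj g⁻¹ R ≤ centralizer (ZJ : Set G) := by
      have := cj_mono g⁻¹ (hR.trans hgD.ge)
      rwa [cj_inv_cj] at this
    have h4 : B ≤ cj g⁻¹ R := by
      have := cj_mono g⁻¹ hBR
      rwa [cj_inv_cj] at this
    have h5 := h.syl.2.2 _ h3 (isPGroup_cj g⁻¹ h2) h4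
    rw [← h5, cj_cj_inv]
  obtain ⟨d, hd, e⟩ := ZN.ChoiceSit.syl_conj h.syl h1
  refine ⟨d, hd, d⁻¹ * g, ?_, by group⟩
  rw [mem_normalizer_iff_cj, ← cj_cj, ← e, cj_inv_cj]

end Bx

end Cfsg.Agent.Omega.EDel.BxF

end
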