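import Cfsg.Agent.Mrg.Omega.OM.Lev.Main
import Cfsg.Agent.Mrg.Omega.OM.FrSym
import Cfsg.Agent.Mrg.Omega.OM.Lev.SMin
import Cfsg.Agent.Mrg.Omega.TC.No
import Cfsg.Agent.Mrg.Omega.OM.Swap.Pair

section


/-!
# NO-3S, case (E), `k ≥ 3`, `q = 2`: `V_i^R ⊆ V_P` for `R` normalising `C_B(V_j)`, every stage (helper3)

The hypothesis `hV` of `UIn.uni` (`EK3/UFix.lean`) over `Mul` and `UniTwo`: stage `-1`: LEMMA FIX (#19750 (1)), stage
`n`: FIX-X (#22160).

* `exists_idx` : two frames over the same `B`, `Z_J` have the same modules `W i` (UNI+);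
* `hV_of` : `R ≤ C(Z i)` normalises `C_B(W j)`, `[C_B(W j), v ^ r] ≤ Z i` : `v ^ r ∈ V_P`;
* **`uni_of`** : (U) over `Mul` and `UniTwo`, every stage.
-/

set_option autoImplicit false
set_option linter.unusedSectionVars false

namespace Cfsg.Agent.Omega.EK3.UFix

open Subgroup Cfsg Cfsg.Agent.ZN.ChoiceBase
open Cfsg.Agent.ZN (jj zj bau zc zl o2)
open Cfsg.Agent.ZN.ChoiceSit (Syl exists_syl syl_conj)
open Cfsg.Agent.MinSimple.MinParabolic (IsMinPar)
open Cfsg.Agent.Omega.NO3S (HypJ HypN Hyp HypL)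
open Cfsg.Agent.Omega.NO3S.Level (lev lev_wc lev_isLev)
open Cfsg.Agent.Omega.NO3S.EThree.Frame
open Cfsg.Agent.Omega.OM Cfsg.Agent.Omega.OM.Uni
open Cfsg.Agent.Omega.OM.Lev.Uni (FrL)
open Cfsg.Agent.Omega.Node.MultiOf

universe u

variable {G : Type u} [Group G] [Finite G] {S : Sylow 2 G} {P K' B ZJ : Subgroup G} {k : ℕ}
  {L W Z C : Fin k → Subgroup G}

/-- the modules of a second frame over `(B, Z_J)` are the same -/
theorem exists_idx (h : Bg S P B ZJ L W Z C 2) (hu : UniTwo B ZJ L W) {L' W' Z' C' : Fin k → Subgroup G}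
    (h' : Bg S P B ZJ L' W' Z' C' 2) (i : Fin k) : ∃ m, W' m = W i ∧ Z' m = Z i := by
  have h1 : ∀ m, ∃ i, W' m = W i := fun m => by
    obtain ⟨i, e, -⟩ := hu (L' m) (W' m) ⟨⟨Z' m, 2, h'.fr.blk m⟩, h'.block m⟩
    exact ⟨i, e⟩
  choose f hf using h1
  have hinj : Function.Injective f := fun a b hab => h'.W_inj (by rw [hf a, hf b, hab])
  obtain ⟨m, hm⟩ := (Finite.injective_iff_surjective.1 hinj) i
  have e : W' m = W i := by rw [hf m, hm]
  refine ⟨m, e, ?_⟩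
  ext v
  rw [(h'.fr.blk m).toMd.mem_Z_iff, (h.fr.blk i).toMd.mem_Z_iff, e]

/-- **`V_i^R ⊆ V_P`**, every stage -/
theorem hV_of (h : Mul S P K' B ZJ L W Z C 2) (hk : 2 ≤ k) (hu : UniTwo B ZJ L W) {i j : Fin k} (_ : i ≠ j)
    {R : Subgroup G} (hRi : R ≤ centralizer (Z i : Set G))
    (hT0 : R ≤ normalizer ((B ⊓ centralizer (W j : Set G) : Subgroup G) : Set G)) :
    ∀ r ∈ R, ∀ v ∈ W i, (∀ x ∈ B ⊓ centralizer (W j : Set G),
      x * (r * v * r⁻¹) * x⁻¹ * (r * v * r⁻¹)⁻¹ ∈ Z i) → r * v * r⁻¹ ∈ zl (S : Subgroup G) P := by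
  intro r hr v hv hx
  have hbg := h.bg
  have hvV := hbg.fr.WV i hv
  have hQT : o2 P ≤ B ⊓ centralizer (W j : Set G) := fun x hx =>
    ⟨hbg.fr.QB hx, mem_centralizer_iff.2 fun w hw => (hbg.fr.cQ hx (hbg.fr.WV j hw)).symm⟩
  have hvT : v ∈ B ⊓ centralizer (W j : Set G) :=
    ⟨hbg.fr.VB hvV, mem_centralizer_iff.2 fun w hw => hbg.fr.Vc (hbg.fr.WV j hw) hvV⟩
  have hrT : r * v * r⁻¹ ∈ B ⊓ centralizer (W j : Set G) := (mem_normalizer_iff.1 (hT0 hr) v).1 hvT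
  have hrn : r ∈ normalizer (Z i : Set G) := centralizer_le_normalizer _ (hRi hr)
  have hQ : r * v * r⁻¹ ∈ o2 P := by
    refine (hbg.fr.mem_Q _ hrT.1).2 fun w hw => ?_
    have h1 := hbg.comm i hrn (one_mem (normalizer (Z i : Set G)))
    rw [cj_one] at h1
    exact (mem_centralizer_iff.1 (h1 ⟨v, hvV, rfl⟩) w hw).symm
  have h2 : (r * v * r⁻¹) ^ 2 = 1 := by
    rw [conj_pow, hbg.fr.Vsq hvV, mul_one, mul_inv_cancel]
  obtain ⟨F, _, _, _, hF, ⟨N⟩⟩ := h.nat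
  have hE : ∀ x ∈ o2 P, r * v * r⁻¹ * x * (r * v * r⁻¹)⁻¹ * x⁻¹ ∈ Z i := by
    intro x hx'
    have h3 := inv_mem (hx x (hQT hx'))
    have e : (x * (r * v * r⁻¹) * x⁻¹ * (r * v * r⁻¹)⁻¹)⁻¹ = r * v * r⁻¹ * x * (r * v * r⁻¹)⁻¹ * x⁻¹ := by group
    rwa [e] at h3
  cases h.stg with
  | neg hj =>
    have hJ : HypJ S P := ⟨h.hyp.toHypN, hj⟩
    obtain ⟨L', Z', A, hB, -⟩ := exists_bs hJ hk N.toNatK
    rw [hF] at hB
    have hl : Line S P L' _ Z' _ A 2 := ⟨hB.hyp, hB.fr, hB.two⟩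
    have hZJ : Z i ≤ zj (S : Subgroup G) := hbg.fr.Z_le i
    have hZ2 : Nat.card (Z i) = 2 := hbg.fr.cardZ i
    obtain ⟨z, hz, hz1⟩ : ∃ z ∈ Z i, z ≠ 1 := by
      by_contra hcon
      push Not at hcon
      exact hbg.Z_ne i ((eq_bot_iff_forall _).2 hcon)
    have h5 := mt (hB.fr.C0 z (hbg.fr.ZV i hz)) hz1
    push Not at h5
    obtain ⟨m, hm⟩ := h5
    refine hl.fix (i := m) hZJ ?_ hQ h2 hE
    rw [eq_bot_iff]
    rintro x ⟨hx1, hx2⟩
    rw [mem_bot]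
    by_contra hne
    exact hm (OM.UniPlus.eq_of_card_two hZ2 hx1 hz hne hz1 ▸ hx2)
  | lev n hall hn hn1 =>
    obtain ⟨M, L', Z', A, -, hfr, hbg', -⟩ := Lev.Main.bg_lev h.hyp.toHypN hn hn1 hk N rfl
    rw [hF] at hfr hbg'
    obtain ⟨m, -, hm⟩ := exists_idx hbg hu hbg' i
    have hlevQ := hn.trans hQT
    have hX : zc (lev (S : Subgroup G) n) ≤ lev (S : Subgroup G) n := MinSimple.VModule.zc_le _
    have hrl : r ∈ normalizer (lev (S : Subgroup G) n : Set G) := by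
      rw [mem_normalizer_iff_cj]
      refine (lev_wc n).eq r ?_
      refine (cj_mono r hlevQ).trans ?_
      rw [cj_eq_of_mem_normalizer (hT0 hr)]
      exact inf_le_left.trans hbg.BS
    have hrX : r ∈ normalizer (zc (lev (S : Subgroup G) n) : Set G) := NO3S.Level.normalizer_le_zc _ hrl
    refine FixXQ.fixX hfr (hX.trans (hn.trans hbg.fr.QB)) m ((mem_normalizer_iff.1 hrX v).1 (hfr.VX hvV)) ?_
    intro o ho
    rw [hm]
    exact hx o (hQT ho)

/-- **(U)**, every stage: `R` a minimal parabolic over `B` in `Y`, normalising `V_j`, moving `Z j`, fixes `V_i` modulo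
`Z^j`. -/
theorem UIn.uni_of {i j : Fin k} {Y : Subgroup G} (u : UIn S P B ZJ L W Z C i j Y) (h : Mul S P K' B ZJ L W Z C 2)
    (hk : 2 ≤ k) (hu : UniTwo B ZJ L W) {R : Subgroup G} (hmin : IsMinPar B R) (hRY : R ≤ Y)
    (hRW : R ≤ normalizer (W j : Set G)) (hmv : ¬ R ≤ centralizer (Z j : Set G)) :
    ∀ r ∈ R, ∀ v ∈ W i, r * v * r⁻¹ * v⁻¹ ∈ Zo Z j := by
  have hsylR : Syl B R := ⟨hmin.le, u.syl.2.1, fun Q hQ h2 hle => u.syl.2.2 Q (hQ.trans hRY) h2 hle⟩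
  have hT0 := norm_T0 hsylR hmin hRW (u.bg.fr.blk j).ZV
    (fun b hb => mem_centralizer_iff.2 fun z hz => ((u.bg.fr.blk j).cZ b hb z hz).symm) hmv
  exact fun r hr => (u.uni hmin hRY hRW hmv (hV_of h hk hu u.ij (hRY.trans (u.cen i u.ij)) hT0) hr).2

/-- `N_Y(B)` fixes `V_i` modulo `Z^j` -/
theorem UIn.nB_of {i j : Fin k} {Y : Subgroup G} (u : UIn S P B ZJ L W Z C i j Y) :
    ∀ g ∈ Y ⊓ normalizer (B : Set G), ∀ v ∈ W i, g * v * g⁻¹ * v⁻¹ ∈ Zo Z j :=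
  fun _ hg => (u.nB hg).2

/-- the stabiliser of `V_i Z^j / Z^j` (elementwise) normalises `V_i` -/
theorem UIn.G0_norm {i j : Fin k} {Y : Subgroup G} (u : UIn S P B ZJ L W Z C i j Y) :
    UIn.G0 Y (W i) (Zo Z j) u.cenZo ≤ normalizer (W i : Set G) := by
  have hZi := le_Zo_of (Z := Z) u.ij
  have hsyl : Syl B (UIn.G0 Y (W i) (Zo Z j) u.cenZo) :=
    ⟨u.B_G0, u.syl.2.1, fun Q hQ h2 hle => u.syl.2.2 Q (hQ.trans fun g hg => hg.1) h2 hle⟩
  -- `K = {g | [g, V_i] ≤ Z i}`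
  let K : Subgroup G :=
    { carrier := {g | g ∈ Y ∧ ∀ v ∈ W i, g * v * g⁻¹ * v⁻¹ ∈ Z i}
      one_mem' := ⟨one_mem _, fun v _ => by
        have e : 1 * v * 1⁻¹ * v⁻¹ = 1 := by group
        rw [e]; exact one_mem _⟩
      mul_mem' := by
        rintro a b ⟨ha, ha'⟩ ⟨hb, hb'⟩
        refine ⟨mul_mem ha hb, fun v hv => ?_⟩
        have h1 := mem_centralizer_iff.1 (u.cen i u.ij ha) _ (hb' v hv)
        have e : a * b * v * (a * b)⁻¹ * v⁻¹ = (a * (b * v * b⁻¹ * v⁻¹)) * a⁻¹ * (a * v * a⁻¹ * v⁻¹) := by group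
        rw [e, ← h1, mul_inv_cancel_right]
        exact mul_mem (hb' v hv) (ha' v hv)
      inv_mem' := by
        rintro a ⟨ha, ha'⟩
        refine ⟨inv_mem ha, fun v hv => ?_⟩
        have h1 := mem_centralizer_iff.1 (u.cen i u.ij (inv_mem ha)) _ (inv_mem (ha' v hv))
        have e : a⁻¹ * v * a⁻¹⁻¹ * v⁻¹ = a⁻¹ * (a * v * a⁻¹ * v⁻¹)⁻¹ * a := by group
        rw [e, ← h1, inv_mul_cancel_right]
        exact inv_mem (ha' v hv) }
  have hcen := u.cenZo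
  have key : UIn.G0 Y (W i) (Zo Z j) u.cenZo ≤ K := by
    refine le_of_sq hsyl (fun b hb => ⟨u.syl.1 hb, fun v hv => (u.bg.fr.blk i).com b hb v hv⟩) ?_ ?_
    · intro n hn k hk _
      refine ⟨mul_mem (mul_mem hn.1 hk.1) (inv_mem hn.1), fun v hv => ?_⟩
      have hf := (inv_mem hn : n⁻¹ ∈ UIn.G0 Y (W i) (Zo Z j) u.cenZo).2 v hv
      have hζ := hk.2 v hv
      set f := n⁻¹ * v * n⁻¹⁻¹ * v⁻¹ with hfe
      set ζ := k * v * k⁻¹ * v⁻¹ with hζe
      have h1 : f * k = k * f := mem_centralizer_iff.1 (hcen hk.1) f hf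
      have h2 : ζ * n = n * ζ := mem_centralizer_iff.1 (hcen hn.1) ζ (hZi hζ)
      have h3 : f * ζ = ζ * f := u.bg.fr.Vc (u.Zo_V hf) (u.Zo_V (hZi hζ))
      have e1 : n⁻¹ * v * n = f * v := by rw [hfe]; group
      have e2 : k * v * k⁻¹ = ζ * v := by rw [hζe]; group
      have e3 : n * k * n⁻¹ * v * (n * k * n⁻¹)⁻¹ * v⁻¹ = ζ := by
        calc n * k * n⁻¹ * v * (n * k * n⁻¹)⁻¹ * v⁻¹ = n * (k * (n⁻¹ * v * n) * k⁻¹) * n⁻¹ * v⁻¹ := by group
          _ = n * (k * (f * v) * k⁻¹) * n⁻¹ * v⁻¹ := by rw [e1]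
          _ = n * ((k * f) * v * k⁻¹) * n⁻¹ * v⁻¹ := by group
          _ = n * ((f * k) * v * k⁻¹) * n⁻¹ * v⁻¹ := by rw [h1]
          _ = n * (f * (k * v * k⁻¹)) * n⁻¹ * v⁻¹ := by group
          _ = n * (f * (ζ * v)) * n⁻¹ * v⁻¹ := by rw [e2]
          _ = n * ((f * ζ) * v) * n⁻¹ * v⁻¹ := by group
          _ = n * ((ζ * f) * v) * n⁻¹ * v⁻¹ := by rw [h3]
          _ = (n * ζ) * (f * v) * n⁻¹ * v⁻¹ := by group
          _ = (ζ * n) * (f * v) * n⁻¹ * v⁻¹ := by rw [h2]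
          _ = (ζ * n) * (n⁻¹ * v * n) * n⁻¹ * v⁻¹ := by rw [e1]
          _ = ζ := by group
      rw [e3]
      exact hζ
    · intro n hn
      refine ⟨mul_mem hn.1 hn.1, fun v hv => ?_⟩
      have hf := hn.2 v hv
      obtain ⟨f, hfe⟩ : ∃ f, f = n * v * n⁻¹ * v⁻¹ := ⟨_, rfl⟩
      rw [← hfe] at hf
      have h1 : f * n = n * f := mem_centralizer_iff.1 (hcen hn.1) f hf
      have e1 : n * v * n⁻¹ = f * v := by rw [hfe]; group
      have e3 : n * n * v * (n * n)⁻¹ * v⁻¹ = f ^ 2 := by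
        calc n * n * v * (n * n)⁻¹ * v⁻¹ = n * (n * v * n⁻¹) * n⁻¹ * v⁻¹ := by group
          _ = n * (f * v) * n⁻¹ * v⁻¹ := by rw [e1]
          _ = (n * f) * v * n⁻¹ * v⁻¹ := by group
          _ = (f * n) * v * n⁻¹ * v⁻¹ := by rw [h1]
          _ = f * (n * v * n⁻¹) * v⁻¹ := by group
          _ = f * (f * v) * v⁻¹ := by rw [e1]
          _ = f ^ 2 := by rw [pow_two]; group
      rw [e3, u.bg.fr.Vsq (u.Zo_V hf)]
      exact one_mem _
  intro g hg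
  have h1 := key hg
  rw [mem_normalizer_iff_cj]
  refine Subgroup.eq_of_le_of_card_ge ?_ (by rw [card_cj])
  rintro _ ⟨v, hv, rfl⟩
  have h2 := mul_mem ((u.bg.fr.blk i).ZV (h1.2 v hv)) hv
  rwa [inv_mul_cancel_right] at h2

end Cfsg.Agent.Omega.EK3.UFix

end

section


/-!
# (E), `k ≥ 3`, `q = 2` (THEOREM K3, helper474 #22123, #22296, #22451): the frame

`D = C_G(ZJ)`, `O = O₂(D)`, `YY z j = C_G(z_l : l ≠ j)`, `NN z j = ⟨z_j^{YY z j}⟩`.

* `Fr S P K B ZJ L W Z C z` : the frame `Bg` for `q = 2`, `k ≥ 3`, with UNI+ (`UniTwo`) and `BlkS K B B`;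
* `Fr.Y_le` : `YY z j ≤ D ⊔ L j`; `Fr.stab` : `C_{YY z j}(z_j) = D`; `Fr.syl` : `B` is Sylow in `YY z j`;
* `Fr.par` : a minimal parabolic over `B` in `YY z j` is in `D`, or normalises `W j` and is transitive on `W j - 1`;
* `Fr.char2`, `Fr.NN_le_zc`, `Fr.W_le_NN`, `Fr.Q_eq` : `O₂(YY z j) = O ⊓ C(NN z j)`;
-/

set_option autoImplicit false
set_option linter.unusedSectionVars false

namespace Cfsg.Agent.Omega.EK3

open Subgroup Cfsg Cfsg.Agent.ZN.ChoiceBase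
open Cfsg.Agent.ZN (jj zj bau zc zl o2)
open Cfsg.Agent.ZN.ChoiceSit (Syl exists_syl syl_conj o2_le_syl)
open Cfsg.Agent.Omega.OM Cfsg.Agent.Omega.OM.Uni
open Cfsg.Agent.Omega.NO3S.EThree.Frame
open Cfsg.Agent.Omega.Node.MultiOf
open Cfsg.Agent.Omega.NoFF.Basic (V_le Z_le_V mem_conj conj_le_iff)
open Cfsg.Agent.Omega.OM.KTwo (le_V le_normalizer_V)
open Cfsg.Agent.Omega.NOThreeL.Pair (conj_eq_of_mem)
open Cfsg.Agent.MinSimple.MinParabolic (IsMinPar)
open Cfsg.Agent.MinSimple.VModule (mem_zc zc_le normalizer_le_normalizer_zc le_normalizer_o2 o2_isPGroup le_o2 o2_le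
  le_centralizer_zc)
open scoped Pointwise

universe u

variable {G : Type u} [Group G]

/-- `Y_j = C_G(z_l : l ≠ j)` -/
def YY {k : ℕ} (z : Fin k → G) (j : Fin k) : Subgroup G := ⨅ l : {l : Fin k // l ≠ j}, centralizer ({z l} : Set G)

theorem mem_YY {k : ℕ} {z : Fin k → G} {j : Fin k} {x : G} : x ∈ YY z j ↔ ∀ l, l ≠ j → x * z l = z l * x := by
  unfold YY
  rw [mem_iInf]
  exact ⟨fun h l hl => mem_centralizer_singleton_iff.1 (h ⟨l, hl⟩), fun h l => mem_centralizer_singleton_iff.2 (h l l.2)⟩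

/-- `N_j = ⟨z_j^{Y_j}⟩` -/
def NN {k : ℕ} (z : Fin k → G) (j : Fin k) : Subgroup G := NoFF.Basic.V (zpowers (z j)) (YY z j)

theorem mem_NN {k : ℕ} (z : Fin k → G) (j : Fin k) : z j ∈ NN z j := le_V _ _ (mem_zpowers _)

theorem le_normalizer_NN {k : ℕ} (z : Fin k → G) (j : Fin k) : YY z j ≤ normalizer (NN z j : Set G) :=
  le_normalizer_V _ _

theorem NN_le {k : ℕ} {z : Fin k → G} {j : Fin k} {U : Subgroup G} (hz : z j ∈ U)
    (hU : YY z j ≤ normalizer (U : Set G)) : NN z j ≤ U :=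
  V_le fun g hg => by
    rw [← conj_eq_of_mem (hU hg)]
    exact conj_le_iff.2 (by rw [zpowers_le]; exact hz)

/-- UNI+ for the blocks whose module is in `V_P`. -/
def UniV [Finite G] (S : Sylow 2 G) (P B ZJ : Subgroup G) {k : ℕ} (L W : Fin k → Subgroup G) : Prop :=
  ∀ L' V' : Subgroup G, FBl B L' V' → V' ≤ zl (S : Subgroup G) P →
    ∃ i, V' = W i ∧ L' ≤ L i ⊔ centralizer ((W i ⊔ ZJ : Subgroup G) : Set G)

theorem _root_.Cfsg.Agent.Omega.Node.MultiOf.UniTwo.toV [Finite G] {S : Sylow 2 G} {P B ZJ : Subgroup G} {k : ℕ}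
    {L W : Fin k → Subgroup G} (h : UniTwo B ZJ L W) : UniV S P B ZJ L W := fun L' V' hb _ => h L' V' hb

/-- **The frame of THEOREM K3.** -/
structure Fr [Finite G] (S : Sylow 2 G) (P K B ZJ : Subgroup G) {k : ℕ} (L W Z C : Fin k → Subgroup G)
    (z : Fin k → G) : Prop where
  bg : Bg S P B ZJ L W Z C 2
  lb : LevD.LB S K B ZJ
  hz : ∀ i x, x ∈ Z i ↔ x = 1 ∨ x = z i
  /-- the blocks in `C_G(z l : l ≠ j)` with module in `V_P` -/
  uni : ∀ (j : Fin k) (L' V' : Subgroup G), FBl B L' V' → V' ≤ zl (S : Subgroup G) P → L' ≤ YY z j →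
    V' = W j ∧ L' ≤ L j ⊔ centralizer (ZJ : Set G)
  blk : ∀ (j : Fin k) (R : Subgroup G), R ≤ YY z j → IsMinPar B R → Syl B R →
    R ⊓ centralizer (o2 R : Set G) ≤ o2 R → ¬ K ≤ o2 R → ¬ R ≤ centralizer (zc B : Set G) →
    ∃ L' V' : Subgroup G, FBl B L' V' ∧ V' ≤ zl (S : Subgroup G) P ∧ L' ≤ R ∧ R ≤ L' ⊔ B
  three : 3 ≤ k

/-- a block in `C_G(z l : l ≠ j)` with module `W i`: `i = j` -/
theorem uni_aux [Finite G] {S : Sylow 2 G} {P B ZJ : Subgroup G} {k : ℕ} {L W Z C : Fin k → Subgroup G}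
    {z : Fin k → G} (h : Bg S P B ZJ L W Z C 2) (hz : ∀ i x, x ∈ Z i ↔ x = 1 ∨ x = z i) {i j : Fin k}
    {L' : Subgroup G} (hb : FBl B L' (W i)) (hL : L' ≤ YY z j)
    (hle : L' ≤ L i ⊔ centralizer ((W i ⊔ ZJ : Subgroup G) : Set G)) :
    W i = W j ∧ L' ≤ L j ⊔ centralizer (ZJ : Set G) := by
  have hij : i = j := by
    by_contra hne
    obtain ⟨⟨Z', q', hF⟩, -⟩ := hb
    obtain ⟨l, hl, hmv, -⟩ := hF.exists_mv
    apply hmv
    have hZ' : Z' = Z i := by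
      ext x
      rw [hF.toMd.mem_Z_iff, (h.fr.blk i).toMd.mem_Z_iff]
    rw [hZ']
    refine Subgroup.eq_of_le_of_card_ge ?_ (card_cj _ _).ge
    rintro _ ⟨x, hx, rfl⟩
    rcases (hz i x).1 hx with rfl | rfl
    · simp
    · change l * z i * l⁻¹ ∈ Z i
      rw [mem_YY.1 (hL hl) i hne, mul_inv_cancel_right]
      exact hx
  subst hij
  refine ⟨rfl, hle.trans (sup_le_sup_left (centralizer_le ?_) _)⟩
  exact_mod_cast (le_sup_right : ZJ ≤ W i ⊔ ZJ)

/-- **the frame, weakest hypotheses**: UNI+ for the blocks with module in `V_P`, block generation in `C_G(z l : l ≠ j)` -/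
theorem exists_fr_V [Finite G] {S : Sylow 2 G} {P K B ZJ : Subgroup G} {k : ℕ} {L W Z C : Fin k → Subgroup G}
    (h : Bg S P B ZJ L W Z C 2) (hl : LevD.LB S K B ZJ) (hk : 3 ≤ k) (hu : UniV S P B ZJ L W)
    (hb : ∀ (j : Fin k) (R : Subgroup G), (∀ l, l ≠ j → R ≤ centralizer (Z l : Set G)) → IsMinPar B R → Syl B R →
      R ⊓ centralizer (o2 R : Set G) ≤ o2 R → ¬ K ≤ o2 R → ¬ R ≤ centralizer (zc B : Set G) →
      ∃ L' V' : Subgroup G, FBl B L' V' ∧ V' ≤ zl (S : Subgroup G) P ∧ L' ≤ R ∧ R ≤ L' ⊔ B) :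
    ∃ z : Fin k → G, Fr S P K B ZJ L W Z C z := by
  have h1 : ∀ i, ∃ v, v ≠ 1 ∧ ∀ x, x ∈ Z i ↔ x = 1 ∨ x = v := fun i => TC.OfBg.exists_gen (h.fr.cardZ i)
  choose z _ hz using h1
  refine ⟨z, h, hl, hz, ?_, fun j R hR => hb j R fun l hlj => ?_, hk⟩
  · intro j L' V' hF hV hL
    obtain ⟨i, rfl, hle⟩ := hu L' V' hF hV
    exact uni_aux h hz hF hL hle
  · intro r hr
    rw [mem_centralizer_iff]
    intro x hx
    rcases (hz l x).1 hx with rfl | rfl
    · simp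
    · exact (mem_YY.1 (hR hr) l hlj).symm

/-- the frame from `Bg`, `UniTwo`, `BlkS` -/
theorem exists_fr_bg [Finite G] {S : Sylow 2 G} {P K B ZJ : Subgroup G} {k : ℕ} {L W Z C : Fin k → Subgroup G}
    (h : Bg S P B ZJ L W Z C 2) (hl : LevD.LB S K B ZJ) (hk : 3 ≤ k) (hu : UniTwo B ZJ L W)
    (hb : TC.OfMul.BlkS K B B) : ∃ z : Fin k → G, Fr S P K B ZJ L W Z C z := by
  refine exists_fr_V h hl hk hu.toV fun _ R _ h1 h2 h3 h4 h5 => ?_
  obtain ⟨L', V', hF, h6, h7⟩ := hb R h1 h2 h3 h4 h5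
  obtain ⟨i, rfl, -⟩ := hu L' V' hF
  exact ⟨L', W i, hF, h.fr.WV i, h6, h7⟩

/-- the frame from `Mul` -/
theorem exists_fr [Finite G] {S : Sylow 2 G} {P K B ZJ : Subgroup G} {k : ℕ} {L W Z C : Fin k → Subgroup G}
    (h : Mul S P K B ZJ L W Z C 2) (hk : 3 ≤ k) (hu : UniTwo B ZJ L W) (hb : TC.OfMul.BlkS K B B) :
    ∃ z : Fin k → G, Fr S P K B ZJ L W Z C z := exists_fr_bg h.bg h.lb hk hu hb

namespace Fr

variable [Finite G] {S : Sylow 2 G} {P K B ZJ : Subgroup G} {k : ℕ} {L W Z C : Fin k → Subgroup G}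
    {z : Fin k → G} (h : Fr S P K B ZJ L W Z C z)

include h

theorem mem_Z (i : Fin k) : z i ∈ Z i := (h.hz i _).2 (Or.inr rfl)

theorem z_ne (i : Fin k) : z i ≠ 1 := by
  intro e
  apply h.bg.Z_ne i
  rw [eq_bot_iff]
  intro x hx
  rcases (h.hz i x).1 hx with h1 | h1
  · exact h1
  · rw [mem_bot, h1, e]

theorem z_sq (i : Fin k) : z i ^ 2 = 1 := h.bg.fr.Vsq (h.bg.fr.ZV i (h.mem_Z i))

theorem mem_ZJ (i : Fin k) : z i ∈ ZJ := h.bg.fr.Z_le i (h.mem_Z i)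

theorem mem_W (i : Fin k) : z i ∈ W i := (h.bg.fr.blk i).ZV (h.mem_Z i)

theorem zpowers_eq (i : Fin k) : zpowers (z i) = Z i := by
  apply le_antisymm
  · rw [zpowers_le]; exact h.mem_Z i
  · intro x hx
    rcases (h.hz i x).1 hx with rfl | rfl
    · exact one_mem _
    · exact mem_zpowers _

theorem zz (i j : Fin k) : z i * z j = z j * z i :=
  h.bg.fr.Vc (h.bg.fr.ZJV (h.mem_ZJ i)) (h.bg.fr.ZJV (h.mem_ZJ j))

theorem inj {i j : Fin k} (e : z i = z j) : i = j := by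
  apply h.bg.Z_inj
  ext x
  rw [h.hz, h.hz, e]

theorem D_le_C (i : Fin k) : centralizer (ZJ : Set G) ≤ centralizer ({z i} : Set G) :=
  centralizer_le (Set.singleton_subset_iff.2 (h.mem_ZJ i))

/-- `D ≤ Y_j` -/
theorem D_le (j : Fin k) : centralizer (ZJ : Set G) ≤ YY z j := fun _ hx =>
  mem_YY.2 fun l _ => mem_centralizer_singleton_iff.1 (h.D_le_C l hx)

/-- `ZJ` is generated by the `Z i` -/
theorem ZJ_le : ZJ ≤ ⨆ i, Z i := by
  classical
  have key : ∀ s : Finset (Fin k), ∀ x ∈ ZJ, ∃ w ∈ (⨆ i, Z i), w ∈ ZJ ∧ ∀ i ∈ s, w⁻¹ * x ∈ C i := by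
    intro s
    induction s using Finset.induction_on with
    | empty => exact fun x _ => ⟨1, one_mem _, one_mem _, fun i hi => by simp at hi⟩
    | insert j s hj ih =>
      intro x hx
      obtain ⟨w, hw, hwJ, hwC⟩ := ih x hx
      obtain ⟨a, ha, c, hc, hcJ, e⟩ := h.bg.fr.split_ZJ j (mul_mem (inv_mem hwJ) hx)
      refine ⟨w * a, mul_mem hw ((le_iSup Z j) ha), mul_mem hwJ (h.bg.fr.Z_le j ha), fun i hi => ?_⟩
      have e1 : (w * a)⁻¹ * x = a⁻¹ * (w⁻¹ * x) := by group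
      rw [e1]
      rcases Finset.mem_insert.1 hi with rfl | hi
      · rw [e]
        have : a⁻¹ * (a * c) = c := by group
        rw [this]
        exact hc
      · have hij : i ≠ j := fun e => hj (e ▸ hi)
        exact mul_mem (inv_mem (h.bg.fr.WjC i j hij ((h.bg.fr.blk j).ZV ha))) (hwC i hi)
  intro x hx
  obtain ⟨w, hw, hwJ, hwC⟩ := key Finset.univ x hx
  have h1 := h.bg.fr.C0 (w⁻¹ * x) (mul_mem (inv_mem (h.bg.fr.ZJV hwJ)) (h.bg.fr.ZJV hx)) fun i =>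
    hwC i (Finset.mem_univ i)
  have h2 : x = w := (inv_mul_eq_one.1 h1).symm
  rw [h2]
  exact hw

/-- an element which centralises all `z i` is in `D` -/
theorem mem_D {x : G} (hx : ∀ i, x * z i = z i * x) : x ∈ centralizer (ZJ : Set G) := by
  have h1 : (⨆ i, Z i) ≤ centralizer ({x} : Set G) := iSup_le fun i y hy => by
    rw [mem_centralizer_singleton_iff]
    rcases (h.hz i y).1 hy with rfl | rfl
    · simp
    · exact (hx i).symm
  rw [mem_centralizer_iff]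
  intro y hy
  exact mem_centralizer_singleton_iff.1 (h1 (h.ZJ_le hy))

/-- **`C_{Y_j}(z_j) = D`** -/
theorem stab (j : Fin k) : YY z j ⊓ centralizer ({z j} : Set G) = centralizer (ZJ : Set G) := by
  apply le_antisymm
  · rintro x ⟨h1, h2⟩
    refine h.mem_D fun i => ?_
    by_cases hij : i = j
    · rw [hij]; exact mem_centralizer_singleton_iff.1 h2
    · exact mem_YY.1 h1 i hij
  · exact le_inf (h.D_le j) (h.D_le_C j)

/-- `L_j ≤ Y_j` -/
theorem L_le (j : Fin k) : L j ≤ YY z j := fun l hl =>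
  mem_YY.2 fun i hi => h.bg.fr.LC j l hl (z i) (h.mem_ZJ i) (h.bg.fr.WjC j i hi.symm (h.mem_W i))

theorem B_le_D : B ≤ centralizer (ZJ : Set G) := h.lb.Bc

theorem B_le (j : Fin k) : B ≤ YY z j := h.B_le_D.trans (h.D_le j)

theorem sylD : Syl B (centralizer (ZJ : Set G)) := h.lb.syl

/-- an element of `N(B)` in `Y_j` is in `D` -/
theorem norm_B (j : Fin k) : YY z j ⊓ normalizer (B : Set G) ≤ centralizer (ZJ : Set G) := by
  rintro g ⟨hg, hgB⟩
  rw [← h.stab j]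
  refine ⟨hg, ?_⟩
  obtain ⟨m, hm, -⟩ := (h.bg.nrm g hgB).2 j
  have hmj : m = j := by
    by_contra hne
    have h1 : g * z m * g⁻¹ = z m := by rw [mem_YY.1 hg m hne]; group
    have h2 : cj g (Z m) = Z m := by
      refine Subgroup.eq_of_le_of_card_ge ?_ (card_cj _ _).ge
      rintro _ ⟨x, hx, rfl⟩
      rcases (h.hz m x).1 hx with rfl | rfl
      · simp
      · change g * z m * g⁻¹ ∈ Z m
        rw [h1]; exact h.mem_Z m
    have h3 : cj g (Z j) = cj g (Z m) := by rw [hm, h2]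
    have h4 : Z j = Z m := by
      have := congrArg (cj g⁻¹) h3
      rwa [cj_inv_cj, cj_inv_cj] at this
    exact hne (h.bg.Z_inj h4).symm
  subst hmj
  have h5 : g * z m * g⁻¹ ∈ Z m := by
    have : g * z m * g⁻¹ ∈ cj g (Z m) := ⟨z m, h.mem_Z m, rfl⟩
    rwa [hm] at this
  rcases (h.hz m _).1 h5 with h6 | h6
  · exact absurd (conj_eq_one_iff.1 h6) (h.z_ne m)
  · exact mem_centralizer_singleton_iff.2 (mul_inv_eq_iff_eq_mul.1 h6)

/-- **`B` is Sylow in `Y_j`** -/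
theorem syl (j : Fin k) : Syl B (YY z j) := by
  refine ⟨h.B_le j, h.bg.bau_two, fun R hR h2 hBR => ?_⟩
  have h3 : R ≤ centralizer (ZJ : Set G) := fun r hr => h.norm_B j ⟨hR hr, h.bg.le_norm_B h2 hBR hr⟩
  exact h.sylD.2.2 R h3 h2 hBR

theorem YY_eq (j : Fin k) : YY z j = centralizer ((⨆ l : {l : Fin k // l ≠ j}, Z l : Subgroup G) : Set G) := by
  ext x
  rw [mem_YY]
  constructor
  · intro hx
    have h1 : (⨆ l : {l : Fin k // l ≠ j}, Z l) ≤ centralizer ({x} : Set G) := iSup_le fun i y hy => by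
      rw [mem_centralizer_singleton_iff]
      rcases (h.hz i y).1 hy with rfl | rfl
      · simp
      · exact (hx i i.2).symm
    rw [mem_centralizer_iff]
    intro y hy
    exact mem_centralizer_singleton_iff.1 (h1 hy)
  · intro hx l hl
    have h1 : z l ∈ (⨆ l : {l : Fin k // l ≠ j}, Z l) :=
      (le_iSup (fun l : {l : Fin k // l ≠ j} => Z l) ⟨l, hl⟩) (h.mem_Z l)
    exact (mem_centralizer_iff.1 hx _ h1).symm

/-- `Y_j` has characteristic 2 -/
theorem char2 (j : Fin k) : YY z j ⊓ centralizer (o2 (YY z j) : Set G) ≤ o2 (YY z j) := by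
  obtain ⟨i, hi⟩ := h.bg.two j
  rw [h.YY_eq j]
  refine Swap.char2_cent h.bg.hyp.ctx.char2 ?_ ?_
  · refine h.bg.bau_two.to_le (iSup_le fun l => ?_)
    exact (h.bg.fr.Z_le l).trans h.lb.ZB
  · intro e
    apply h.bg.Z_ne i
    rw [eq_bot_iff, ← e]
    exact le_iSup (fun l : {l : Fin k // l ≠ j} => Z l) ⟨i, hi⟩

/-- `O₂(Y_j) ≤ O₂(R)` and `R` has characteristic 2, `B ≤ R ≤ Y_j` -/
theorem o2_le_o2 {j : Fin k} {R : Subgroup G} (hB : B ≤ R) (hR : R ≤ YY z j) : o2 (YY z j) ≤ o2 R :=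
  le_o2 ((o2_le_syl (h.syl j)).trans hB) (o2_isPGroup _) (hR.trans (le_normalizer_o2 _))

theorem char2_of {j : Fin k} {R : Subgroup G} (hB : B ≤ R) (hR : R ≤ YY z j) :
    R ⊓ centralizer (o2 R : Set G) ≤ o2 R := by
  rintro x ⟨hx, hxc⟩
  exact h.o2_le_o2 hB hR (h.char2 j ⟨hR hx, centralizer_le (by exact_mod_cast h.o2_le_o2 hB hR) hxc⟩)

theorem syl_of {j : Fin k} {R : Subgroup G} (hB : B ≤ R) (hR : R ≤ YY z j) : Syl B R :=
  ⟨hB, h.bg.bau_two, fun T hT h2 hBT => (h.syl j).2.2 T (hT.trans hR) h2 hBT⟩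

/-- the blocks over `B` in `Y_j` -/
theorem blk_of {j : Fin k} {L' V' : Subgroup G} (hb : FBl B L' V') (hV : V' ≤ zl (S : Subgroup G) P)
    (hL : L' ≤ YY z j) : V' = W j ∧ L' ≤ L j ⊔ centralizer (ZJ : Set G) := h.uni j L' V' hb hV hL

theorem L_norm_W (j : Fin k) : L j ≤ normalizer (W j : Set G) := fun l hl => by
  rw [mem_normalizer_iff_cj]
  refine Subgroup.eq_of_le_of_card_ge ?_ (by rw [card_cj])
  rintro _ ⟨w, hw, rfl⟩
  exact (h.bg.fr.blk j).nV l hl w hw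

/-- a member of `𝒫(Y_j, B)` which is not in `D` is generated by `B` and a block over `B` with module `W j` -/
theorem par_blk {j : Fin k} {R : Subgroup G} (hR : IsMinPar B R) (hRY : R ≤ YY z j)
    (hD : ¬ R ≤ centralizer (ZJ : Set G)) : ∃ L', FBl B L' (W j) ∧ L' ≤ R ∧ R ≤ L' ⊔ B := by
  have hK : ¬ K ≤ o2 R := by
    intro hK
    apply hD
    have h1 : R ≤ normalizer (ZJ : Set G) := (le_normalizer_o2 R).trans (h.lb.nrm _ (o2_isPGroup R) hK)
    intro r hr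
    obtain ⟨d, hd, n, hn, rfl⟩ := h.lb.exists_frattini (h1 hr)
    have h2 : n ∈ YY z j := by
      have := mul_mem (inv_mem (h.D_le j hd)) (hRY hr)
      rwa [inv_mul_cancel_left] at this
    exact mul_mem hd (h.norm_B j ⟨h2, hn⟩)
  have hZ : ¬ R ≤ centralizer (zc B : Set G) := by rw [h.bg.fr.zcB]; exact hD
  obtain ⟨L', V', hb, hV, h1, h2⟩ := h.blk j R hRY hR (h.syl_of hR.le hRY) (h.char2_of hR.le hRY) hK hZ
  obtain ⟨rfl, -⟩ := h.blk_of hb hV (h1.trans hRY)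
  exact ⟨L', hb, h1, h2⟩

/-- **`Y_j = ⟨D, L_j⟩`** -/
theorem Y_le (j : Fin k) : YY z j ≤ centralizer (ZJ : Set G) ⊔ L j := by
  refine MinSimple.MinParabolic.le_of_forall (h.B_le j) ((h.norm_B j).trans le_sup_left) fun R hR hRY => ?_
  by_cases hD : R ≤ centralizer (ZJ : Set G)
  · exact hD.trans le_sup_left
  obtain ⟨L', hb, h1, h2⟩ := h.par_blk hR hRY hD
  refine h2.trans (sup_le ?_ (h.B_le_D.trans le_sup_left))
  rw [sup_comm]
  exact (h.blk_of hb (h.bg.fr.WV j) (h1.trans hRY)).2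

theorem Y_eq (j : Fin k) : YY z j = centralizer (ZJ : Set G) ⊔ L j :=
  le_antisymm (h.Y_le j) (sup_le (h.D_le j) (h.L_le j))

end Fr

end Cfsg.Agent.Omega.EK3

end

section


/-!
# (E), `k ≥ 3`, `q = 2`: the literals over `EK3.Fr`

* `Fr.NN_le_zc`, `Fr.NN_comm`, `Fr.NN_sq`, `Fr.W_le_NN`, `Fr.Q_eq` : `O₂(YY z j) = O₂(D) ⊓ C(NN z j)`;
* `Fr.swap`, `Fr.trans_of`, `Fr.tr`, `Fr.par` : the minimal parabolics of `YY z j` over `B`;
* `Fr.stab_le`, `Fr.no` : (NO) for `YY z j` on `NN z j`;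
* `Fr.kgroup`, `Fr.conj`, `Fr.nonloc_Y`, `nonloc_of`.
-/

set_option autoImplicit false
set_option linter.unusedSectionVars false

namespace Cfsg.Agent.Omega.EK3

open Subgroup Cfsg Cfsg.Agent.ZN.ChoiceBase
open Cfsg.Agent.ZN (jj zj bau zc zl o2)
open Cfsg.Agent.ZN.ChoiceSit (Syl exists_syl syl_conj o2_le_syl)
open Cfsg.Agent.Omega.OM Cfsg.Agent.Omega.OM.Uni
open Cfsg.Agent.Omega.NO3S.EThree.Frame
open Cfsg.Agent.Omega.Node.MultiOf
open Cfsg.Agent.Omega.NoFF.Basic (V_le Z_le_V mem_conj conj_le_iff)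
open Cfsg.Agent.Omega.OM.KTwo (le_V le_normalizer_V)
open Cfsg.Agent.Omega.NOThreeL.Pair (conj_eq_of_mem)
open Cfsg.Agent.MinSimple.MinParabolic (IsMinPar)
open Cfsg.Agent.MinSimple.VModule (zc_le normalizer_le_normalizer_zc le_normalizer_o2 o2_isPGroup le_o2 o2_le
  le_centralizer_zc)
open scoped Pointwise

universe u

variable {G : Type u} [Group G]

namespace Fr

variable [Finite G] {S : Sylow 2 G} {P K B ZJ : Subgroup G} {k : ℕ} {L W Z C : Fin k → Subgroup G}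
    {z : Fin k → G} (h : Fr S P K B ZJ L W Z C z)

include h

/-! ### `N_j ≤ Z(Q_j)` -/

theorem z_mem_YY (i j : Fin k) : z i ∈ YY z j := mem_YY.2 fun l _ => h.zz i l

theorem o2_le_B (j : Fin k) : o2 (YY z j) ≤ B := o2_le_syl (h.syl j)

theorem z_mem_o2 (i j : Fin k) : z i ∈ o2 (YY z j) := by
  refine h.char2 j ⟨h.z_mem_YY i j, mem_centralizer_iff.2 fun x hx => ?_⟩
  exact mem_centralizer_singleton_iff.1 (h.D_le_C i (h.B_le_D (h.o2_le_B j hx)))

theorem z_mem_zc (i j : Fin k) : z i ∈ zc (o2 (YY z j)) :=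
  mem_zc.2 ⟨h.z_mem_o2 i j, h.z_sq i, fun _ hx =>
    mem_centralizer_singleton_iff.1 (h.D_le_C i (h.B_le_D (h.o2_le_B j hx)))⟩

theorem Y_le_zc (j : Fin k) : YY z j ≤ normalizer (zc (o2 (YY z j)) : Set G) :=
  (le_normalizer_o2 _).trans (normalizer_le_normalizer_zc _)

theorem NN_le_zc (j : Fin k) : NN z j ≤ zc (o2 (YY z j)) := NN_le (h.z_mem_zc j j) (h.Y_le_zc j)

theorem NN_le_o2 (j : Fin k) : NN z j ≤ o2 (YY z j) := (h.NN_le_zc j).trans (zc_le _)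

theorem NN_le_B (j : Fin k) : NN z j ≤ B := (h.NN_le_o2 j).trans (h.o2_le_B j)

theorem NN_le_Y (i j : Fin k) : NN z i ≤ YY z j := (h.NN_le_B i).trans (h.B_le j)

theorem NN_le_cent (j : Fin k) : NN z j ≤ centralizer (o2 (YY z j) : Set G) := fun x hx =>
  mem_centralizer_iff.2 fun y hy => (mem_zc.1 (h.NN_le_zc j hx)).2.2 y hy

theorem o2_le_cent (j : Fin k) : o2 (YY z j) ≤ centralizer (NN z j : Set G) := by
  rw [le_centralizer_iff]
  exact h.NN_le_cent j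

theorem NN_sq (j : Fin k) {x : G} (hx : x ∈ NN z j) : x ^ 2 = 1 := (mem_zc.1 (h.NN_le_zc j hx)).2.1

theorem NN_comm (j : Fin k) : NN z j ≤ centralizer (NN z j : Set G) := (h.NN_le_o2 j).trans (h.o2_le_cent j)

/-! ### `Q_j = C_O(N_j)` -/

/-- `O₂(Y_j) ≤ O₂(D)` -/
theorem o2_le_O (j : Fin k) : o2 (YY z j) ≤ o2 (centralizer (ZJ : Set G)) :=
  le_o2 ((h.o2_le_B j).trans h.B_le_D) (o2_isPGroup _) ((h.D_le j).trans (le_normalizer_o2 _))

theorem O_le_B : o2 (centralizer (ZJ : Set G)) ≤ B := o2_le_syl h.sylD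

theorem O_le_Y (j : Fin k) : o2 (centralizer (ZJ : Set G)) ≤ YY z j := h.O_le_B.trans (h.B_le j)

/-- `C_{Y_j}(N_j) ≤ D` -/
theorem cent_le (j : Fin k) : YY z j ⊓ centralizer (NN z j : Set G) ≤ centralizer (ZJ : Set G) := by
  rw [← h.stab j]
  exact le_inf inf_le_left (inf_le_right.trans (centralizer_le (Set.singleton_subset_iff.2 (mem_NN z j))))

theorem Y_norm_cent (j : Fin k) :
    YY z j ≤ normalizer ((YY z j ⊓ centralizer (NN z j : Set G) : Subgroup G) : Set G) := by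
  intro g hg
  rw [mem_normalizer_iff_cj, cj_inf, cj_centralizer, cj_eq_of_mem_normalizer (le_normalizer_NN z j hg),
    cj_eq_of_mem_normalizer (Subgroup.le_normalizer hg)]

/-- **`O₂(Y_j) = C_O(N_j)`** -/
theorem Q_eq (j : Fin k) : o2 (YY z j) = o2 (centralizer (ZJ : Set G)) ⊓ centralizer (NN z j : Set G) := by
  apply le_antisymm
  · exact le_inf (h.o2_le_O j) (h.o2_le_cent j)
  · set X := YY z j ⊓ centralizer (NN z j : Set G) with hX
    have h1 : o2 (centralizer (ZJ : Set G)) ⊓ centralizer (NN z j : Set G) ≤ o2 X := by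
      refine le_o2 (le_inf (inf_le_left.trans (h.O_le_Y j)) inf_le_right) ((o2_isPGroup _).to_le inf_le_left) ?_
      intro x hx
      have hxD : x ∈ normalizer (o2 (centralizer (ZJ : Set G)) : Set G) := le_normalizer_o2 _ (h.cent_le j hx)
      have hxN : x ∈ normalizer (NN z j : Set G) := le_normalizer_NN z j hx.1
      rw [mem_normalizer_iff_cj, cj_inf, cj_centralizer, cj_eq_of_mem_normalizer hxD,
        cj_eq_of_mem_normalizer hxN]
    refine h1.trans (le_o2 ((o2_le _).trans inf_le_left) (o2_isPGroup _) ?_)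
    refine (h.Y_norm_cent j).trans ?_
    exact normalizer_le_of_cj (F := o2) (fun g T => Cfsg.Agent.ZN.ChoiceSit.o2_cj g T) X

/-! ### the four-group `W j` -/

theorem card_W (j : Fin k) : Nat.card (W j) = 4 := by rw [(h.bg.fr.blk j).card, h.bg.fr.cardZ j]

theorem W_sq (j : Fin k) {x : G} (hx : x ∈ W j) : x ^ 2 = 1 := h.bg.fr.Vsq (h.bg.fr.WV j hx)

theorem W_le_B (j : Fin k) : W j ≤ B := (h.bg.fr.WV j).trans h.bg.fr.VB

theorem B_norm_W (j : Fin k) : B ≤ normalizer (W j : Set G) := (h.bg.fr.blk j).BL.trans (h.L_norm_W j)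

/-- `B` induces the transvection with axis `z j` on `W j` -/
theorem swap {j : Fin k} {x : G} (hx : x ∈ W j) (hx1 : x ≠ 1) (hxz : x ≠ z j) :
    ∃ b ∈ B, b ∈ centralizer (C j : Set G) ∧ b * x * b⁻¹ = z j * x := by
  obtain ⟨b, hb, hbc, e⟩ := h.bg.root j x hx (fun hc => ((h.hz j x).1 hc).elim hx1 hxz) (z j) (h.mem_Z j)
  exact ⟨b, hb, hbc, mul_inv_eq_iff_eq_mul.1 e⟩

theorem eq_of_W {j : Fin k} {a b x : G} (ha : a ∈ W j) (ha1 : a ≠ 1) (hb : b ∈ W j) (hb1 : b ≠ 1) (hab : a ≠ b)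
    (hx : x ∈ W j) (hx1 : x ≠ 1) : x = a ∨ x = b ∨ x = a * b :=
  NO3S.eq_of_card_four (h.card_W j) (fun _ h1 => h.W_sq j h1) ha ha1 hb hb1 hab hx hx1

/-- a subgroup over `B` which normalises `W j` and moves `z j` is transitive on `W j - 1` -/
theorem trans_of {j : Fin k} {R : Subgroup G} (hB : B ≤ R) (hN : R ≤ normalizer (W j : Set G))
    (hm : ¬ R ≤ centralizer ({z j} : Set G)) {x : G} (hx : x ∈ W j) (hx1 : x ≠ 1) :
    ∃ r ∈ R, r * z j * r⁻¹ = x := by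
  by_cases hxz : x = z j
  · exact ⟨1, one_mem _, by rw [hxz]; group⟩
  obtain ⟨r, hr, hrz⟩ : ∃ r ∈ R, r * z j * r⁻¹ ≠ z j := by
    by_contra hcon
    push Not at hcon
    exact hm fun r hr => mem_centralizer_singleton_iff.2 (mul_inv_eq_iff_eq_mul.1 (hcon r hr))
  have h1 : r * z j * r⁻¹ ∈ W j := (mem_normalizer_iff.1 (hN hr) _).1 (h.mem_W j)
  have h2 : r * z j * r⁻¹ ≠ 1 := fun e => h.z_ne j (conj_eq_one_iff.1 e)
  by_cases hrx : r * z j * r⁻¹ = x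
  · exact ⟨r, hr, hrx⟩
  obtain ⟨b, hb, -, hbe⟩ := h.swap h1 h2 hrz
  refine ⟨b * r, mul_mem (hB hb) hr, ?_⟩
  have e : b * r * z j * (b * r)⁻¹ = b * (r * z j * r⁻¹) * b⁻¹ := by group
  rw [e, hbe]
  rcases h.eq_of_W (h.mem_W j) (h.z_ne j) h1 h2 (Ne.symm hrz) hx hx1 with h3 | h3 | h3
  · exact absurd h3 hxz
  · exact absurd h3.symm hrx
  · exact h3.symm

/-- an element of `Y_j ∩ P` centralising all `W i`, `i ≠ j`, maps `z j` to `x ∈ W j - 1` -/
theorem tr {j : Fin k} {x : G} (hx : x ∈ W j) (hx1 : x ≠ 1) :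
    ∃ l ∈ YY z j, l ∈ P ∧ (∀ i, i ≠ j → l ∈ centralizer (W i : Set G)) ∧ l * z j * l⁻¹ = x := by
  obtain ⟨l, hl, hlc, y, hy, e⟩ := h.bg.tr j x hx hx1
  have hW : ∀ i, i ≠ j → l ∈ centralizer (W i : Set G) := fun i hi =>
    centralizer_le (h.bg.fr.WjC j i hi.symm) hlc
  refine ⟨l, mem_YY.2 fun i hi => (mem_centralizer_iff.1 (hW i hi) _ (h.mem_W i)).symm, hl, hW, ?_⟩
  rcases (h.hz j y).1 hy with rfl | rfl
  · exact absurd (by rw [← e]; group) hx1
  · exact e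

/-- **`V_j ≤ N_j`** -/
theorem W_le_NN (j : Fin k) : W j ≤ NN z j := by
  intro x hx
  by_cases hx1 : x = 1
  · rw [hx1]; exact one_mem _
  obtain ⟨l, hl, -, -, e⟩ := h.tr hx hx1
  rw [← e]
  exact (mem_normalizer_iff.1 (le_normalizer_NN z j hl) _).1 (mem_NN z j)

theorem cent_zc : centralizer (zc B : Set G) = centralizer (ZJ : Set G) := by rw [h.bg.fr.zcB]

/-- **the minimal parabolics of `Y_j` over `B`** -/
theorem par {j : Fin k} {R : Subgroup G} (hR : IsMinPar B R) (hRY : R ≤ YY z j) :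
    R ≤ centralizer (ZJ : Set G) ∨ (R ≤ normalizer (W j : Set G) ∧ ¬ R ≤ centralizer ({z j} : Set G) ∧
      ∀ x ∈ W j, x ≠ 1 → ∃ r ∈ R, r * z j * r⁻¹ = x) := by
  by_cases hD : R ≤ centralizer (ZJ : Set G)
  · exact Or.inl hD
  right
  obtain ⟨L', hb, h1, h2⟩ := h.par_blk hR hRY hD
  have hN : R ≤ normalizer (W j : Set G) := by
    refine h2.trans (sup_le (fun l hl => ?_) (h.B_norm_W j))
    obtain ⟨⟨Z', q', hF⟩, -⟩ := hb
    rw [mem_normalizer_iff_cj]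
    refine Subgroup.eq_of_le_of_card_ge ?_ (by rw [card_cj])
    rintro _ ⟨w, hw, rfl⟩
    exact hF.nV l hl w hw
  have hm : ¬ R ≤ centralizer ({z j} : Set G) := fun hc => hD (by
    rw [← h.stab j]; exact le_inf hRY hc)
  exact ⟨hN, hm, fun x hx hx1 => h.trans_of hR.le hN hm hx hx1⟩

/-! ### (NO) -/

/-- `C_{Y_j}(z_j N)` for a submodule `U` of `N_j`, `z j ∉ U` : the stabiliser of the coset `z j U` is in `D` -/
theorem stab_le {j : Fin k} {U : Subgroup G} (hY : YY z j ≤ normalizer (U : Set G)) (hv : z j ∉ U) :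
    ∀ g ∈ YY z j, g * z j * g⁻¹ * (z j)⁻¹ ∈ U → g ∈ centralizer (ZJ : Set G) := by
  let K' : Subgroup G :=
    { carrier := {g | g ∈ YY z j ∧ g * z j * g⁻¹ * (z j)⁻¹ ∈ U}
      one_mem' := ⟨one_mem _, by simp⟩
      mul_mem' := by
        rintro a b ⟨ha, ha'⟩ ⟨hb, hb'⟩
        refine ⟨mul_mem ha hb, ?_⟩
        have e : a * b * z j * (a * b)⁻¹ * (z j)⁻¹ =
            (a * (b * z j * b⁻¹ * (z j)⁻¹) * a⁻¹) * (a * z j * a⁻¹ * (z j)⁻¹) := by group
        rw [e]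
        exact mul_mem ((mem_normalizer_iff.1 (hY ha) _).1 hb') ha'
      inv_mem' := by
        rintro a ⟨ha, ha'⟩
        refine ⟨inv_mem ha, ?_⟩
        have e : a⁻¹ * z j * a⁻¹⁻¹ * (z j)⁻¹ = a⁻¹ * (a * z j * a⁻¹ * (z j)⁻¹)⁻¹ * a⁻¹⁻¹ := by group
        rw [e]
        exact (mem_normalizer_iff.1 (hY (inv_mem ha)) _).1 (inv_mem ha') }
  have hBK : B ≤ K' := fun t ht => ⟨h.B_le j ht, by
    rw [mem_centralizer_singleton_iff.1 (h.D_le_C j (h.B_le_D ht)), mul_inv_cancel_right, mul_inv_cancel]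
    exact one_mem _⟩
  have hKY : K' ≤ YY z j := fun k hk => hk.1
  suffices hs : K' ≤ centralizer (ZJ : Set G) from fun g hg hgY => hs ⟨hg, hgY⟩
  refine Cfsg.Agent.MinSimple.MinParabolic.le_of_forall hBK ((inf_le_inf_right _ hKY).trans (h.norm_B j)) ?_
  intro R hR hRK
  rcases h.par hR (hRK.trans hKY) with hm | ⟨-, -, ht⟩
  · exact hm
  exfalso
  have key : ∀ y ∈ W j, y ≠ 1 → y * (z j)⁻¹ ∈ U := by
    intro y hy hy1
    obtain ⟨r, hr, hry⟩ := ht y hy hy1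
    have h1 := (hRK hr).2
    rwa [hry] at h1
  obtain ⟨x, hx, hx1, hxz⟩ : ∃ x ∈ W j, x ≠ 1 ∧ x ≠ z j := by
    by_contra hcon
    push Not at hcon
    have h1 : W j ≤ Z j := fun x hx => (h.hz j x).2 (by
      by_cases hx1 : x = 1
      · exact Or.inl hx1
      · exact Or.inr (hcon x hx hx1))
    have h2 := Nat.card_le_card_of_injective _ (Subgroup.inclusion_injective h1)
    rw [h.card_W j, h.bg.fr.cardZ j] at h2
    omega
  have h1 := key x hx hx1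
  have hzz : z j * z j = 1 := by rw [← pow_two]; exact h.z_sq j
  have hxz1 : x * z j ≠ 1 := by
    intro e
    apply hxz
    have := eq_inv_of_mul_eq_one_left e
    rw [this, inv_eq_of_mul_eq_one_left hzz]
  have h2 := key (x * z j) (mul_mem hx (h.mem_W j)) hxz1
  rw [mul_inv_cancel_right] at h2
  apply hv
  have h3 := mul_mem (inv_mem h1) h2
  have e : (x * (z j)⁻¹)⁻¹ * x = z j := by group
  rwa [e] at h3

/-- `Y_j` is a K-group -/
theorem kgroup (j : Fin k) : IsKGroup (YY z j) := by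
  have hG := h.bg.hyp.ctx
  obtain ⟨l, hl⟩ := h.bg.two j
  refine hG.kproper _ fun e => ?_
  have hs := hG.simple
  have h1 : z l ∈ center G := by
    rw [mem_center_iff]
    intro g
    have : g ∈ YY z j := by rw [e]; exact mem_top g
    exact mem_YY.1 this l hl
  rcases hs.eq_bot_or_eq_top_of_normal (center G) inferInstance with h2 | h2
  · rw [h2, mem_bot] at h1
    exact h.z_ne l h1
  · apply hG.nonComm
    refine ⟨⟨fun a b => ?_⟩⟩
    have : a ∈ center G := by rw [h2]; exact mem_top a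
    exact (mem_center_iff.mp this b).symm

/-- **(NO)** : `|A : C_A(N_j)| ≤ |N_j : C_{N_j}(A)|` for `A ≤ O₂(D)` elementary abelian -/
theorem no (hML : ML.Final.MLK.{u, u}) {j : Fin k} {A : Subgroup G}
    (hA : A ≤ o2 (centralizer (ZJ : Set G))) (hA2 : ∀ a ∈ A, a ^ 2 = 1) :
    (centralizer (NN z j : Set G)).relIndex A ≤ (centralizer (A : Set G)).relIndex (NN z j) := by
  have hN1 : ∀ g : G, g ∈ normalizer ((⊥ : Subgroup G) : Set G) := fun g => by
    rw [mem_normalizer_iff]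
    intro x
    rw [mem_bot, mem_bot, conj_eq_one_iff]
  have hb : ∀ x y : G, x * y * x⁻¹ * y⁻¹ ∈ (⊥ : Subgroup G) ↔ x * y = y * x := fun x y => by
    rw [mem_bot, mul_inv_eq_one, mul_inv_eq_iff_eq_mul]
  have hmain : (A ⊓ centralizer (NN z j : Set G)).relIndex A ≤
      (NN z j ⊓ centralizer (A : Set G)).relIndex (NN z j) := by
    refine hML.grp (C := YY z j) (W := NN z j) (Y := ⊥) (T := B) (Q := o2 (centralizer (ZJ : Set G))) (A := A)
      (w := z j) (h.kgroup j) ?_ (KA := A ⊓ centralizer (NN z j : Set G))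
      (CW := NN z j ⊓ centralizer (A : Set G)) ?_ ?_
    · refine ⟨le_normalizer_NN z j, fun g _ => hN1 g, bot_le, fun g _ => hN1 g, ?_, mem_NN z j, ?_, h.B_le j,
        h.bg.bau_two, Cfsg.Agent.ZN.ChoiceSit.syl_not_dvd (h.syl j), ?_, h.O_le_Y j, o2_isPGroup _, ?_, ?_, hA, ?_⟩
      · intro x hx
        rw [mem_bot, ← pow_two]
        exact h.NN_sq j hx
      · exact fun U hU _ hYU => NN_le hU hYU
      · exact fun t ht => (hb _ _).2 (mem_centralizer_singleton_iff.1 (h.D_le_C j (h.B_le_D ht)))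
      · exact fun t ht => (hb _ _).2 (mem_centralizer_singleton_iff.1 (h.D_le_C j (o2_le _ ht)))
      · intro g hg hgz q hq
        have h1 : g ∈ centralizer (ZJ : Set G) := by
          rw [← h.stab j]
          exact ⟨hg, mem_centralizer_singleton_iff.2 ((hb _ _).1 hgz)⟩
        exact (mem_normalizer_iff.1 (le_normalizer_o2 _ h1) q).1 hq
      · intro a ha x _
        have h1 : a * a = 1 := by rw [← pow_two]; exact hA2 a ha
        have e : a * (a * x * a⁻¹) * a⁻¹ * x⁻¹ = (a * a) * x * (a * a)⁻¹ * x⁻¹ := by group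
        rw [e, h1, mem_bot]
        simp
    · intro a
      refine and_congr_right fun _ => ?_
      exact ⟨fun h1 x hx => (hb _ _).2 (mem_centralizer_iff.1 h1 x hx).symm,
        fun h1 => mem_centralizer_iff.2 fun x hx => ((hb _ _).1 (h1 x hx)).symm⟩
    · intro x
      refine and_congr_right fun _ => ?_
      exact ⟨fun h1 a ha => (hb _ _).2 (mem_centralizer_iff.1 h1 a ha),
        fun h1 => mem_centralizer_iff.2 fun a ha => (hb _ _).1 (h1 a ha)⟩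
  rwa [inf_relIndex_left, inf_relIndex_left] at hmain

/-! ### `N_G(B)`, nonlocal -/

/-- `N_G(B)` permutes the `z i` -/
theorem conj_z {g : G} (hg : g ∈ normalizer (B : Set G)) (i : Fin k) : ∃ j, g * z i * g⁻¹ = z j := by
  obtain ⟨j, hj, -⟩ := (h.bg.nrm g hg).2 i
  refine ⟨j, ?_⟩
  have h1 : g * z i * g⁻¹ ∈ Z j := by
    have : g * z i * g⁻¹ ∈ cj g (Z i) := ⟨z i, h.mem_Z i, rfl⟩
    rwa [hj] at this
  exact ((h.hz j _).1 h1).resolve_left fun e => h.z_ne i (conj_eq_one_iff.1 e)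

/-- **`N_G(B)` permutes the `z i`, the `YY z i`, the `NN z i`** -/
theorem conj {g : G} (hg : g ∈ normalizer (B : Set G)) : ∃ σ : Equiv.Perm (Fin k), ∀ i,
    g * z i * g⁻¹ = z (σ i) ∧ cj g (YY z i) = YY z (σ i) ∧ cj g (NN z i) = NN z (σ i) := by
  choose f hf using h.conj_z hg
  have hinj : Function.Injective f := by
    intro i j e
    apply h.inj
    have h1 := hf i
    rw [e, ← hf j] at h1
    exact mul_left_cancel (mul_right_cancel h1)
  let σ : Equiv.Perm (Fin k) := Equiv.ofBijective f (Finite.injective_iff_bijective.1 hinj)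
  have hσ : ∀ i, g * z i * g⁻¹ = z (σ i) := hf
  have hY : ∀ i, cj g (YY z i) = YY z (σ i) := by
    intro i
    ext x
    rw [mem_cj, mem_YY, mem_YY]
    constructor
    · intro h1 l hl
      obtain ⟨m, rfl⟩ := σ.surjective l
      have h2 := h1 m fun e => hl (by rw [e])
      rw [← hσ m]
      calc x * (g * z m * g⁻¹) = g * ((g⁻¹ * x * g) * z m) * g⁻¹ := by group
        _ = g * (z m * (g⁻¹ * x * g)) * g⁻¹ := by rw [h2]
        _ = g * z m * g⁻¹ * x := by group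
    · intro h1 l hl
      have h2 := h1 (σ l) fun e => hl (σ.injective e)
      rw [← hσ l] at h2
      calc g⁻¹ * x * g * z l = g⁻¹ * (x * (g * z l * g⁻¹)) * g := by group
        _ = g⁻¹ * (g * z l * g⁻¹ * x) * g := by rw [h2]
        _ = z l * (g⁻¹ * x * g) := by group
  refine ⟨σ, fun i => ⟨hσ i, hY i, ?_⟩⟩
  have key : ∀ {g : G} {i j : Fin k}, g * z i * g⁻¹ = z j → cj g (YY z i) = YY z j → NN z j ≤ cj g (NN z i) := by
    intro g i j h1 h2
    refine NN_le (by rw [← h1]; exact ⟨z i, mem_NN z i, rfl⟩) fun y hy => ?_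
    rw [← h2, mem_cj] at hy
    have h3 := mem_normalizer_iff_cj.1 (le_normalizer_NN z i hy)
    rw [mem_normalizer_iff_cj]
    have h4 : cj y (cj g (NN z i)) = cj g (cj (g⁻¹ * y * g) (NN z i)) := by
      rw [cj_cj, cj_cj]
      congr 1
      group
    rw [h4, h3]
  apply le_antisymm
  · have h1 : g⁻¹ * z (σ i) * g⁻¹⁻¹ = z i := by rw [← hσ i]; group
    have h2 : cj g⁻¹ (YY z (σ i)) = YY z i := by rw [← hY i, cj_inv_cj]
    have h3 := cj_mono g (key h1 h2)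
    rwa [cj_cj, mul_inv_cancel, cj_one] at h3
  · exact key (hσ i) (hY i)

/-- the `Y_j` normalise no nontrivial 2-group -/
theorem nonloc_Y (hn : NLoc (centralizer (ZJ : Set G) ⊔ ⨆ i, L i)) : NLoc (⨆ i, YY z i) := by
  refine hn.mono (sup_le ?_ (iSup_le fun i => (h.L_le i).trans (le_iSup (fun i => YY z i) i)))
  exact (h.D_le ⟨0, by have := h.three; omega⟩).trans (le_iSup (fun i => YY z i) _)

end Fr

/-- **`D` and the `L i` normalise no nontrivial 2-group** -/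
theorem nonloc_of {B ZJ : Subgroup G} {k : ℕ} {L W : Fin k → Subgroup G} (hu : UniTwo B ZJ L W)
    (hn : NLoc (KZ B ZJ)) : NLoc (centralizer (ZJ : Set G) ⊔ ⨆ i, L i) := by
  refine hn.mono (sup_le le_sup_left (iSup_le ?_))
  rintro ⟨⟨L', V'⟩, hb⟩
  obtain ⟨i, -, hle⟩ := hu L' V' hb
  refine hle.trans (sup_le (le_sup_of_le_right (le_iSup L i)) (le_sup_of_le_left (centralizer_le ?_)))
  exact_mod_cast (le_sup_right : ZJ ≤ W i ⊔ ZJ)

end Cfsg.Agent.Omega.EK3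

end
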