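import Cfsg.Agent.Mrg.Omega.EK3.FrStar
import Cfsg.Agent.Mrg.Omega.EK3.UFixG
import Cfsg.Agent.Mrg.Omega.KL.QuoT
import Cfsg.Agent.Mrg.Omega.EK3.UFixX
import Cfsg.Agent.Mrg.Omega.OM.Lev.Main
import Cfsg.Agent.Mrg.Omega.OM.Uni

section


/-!
# (E), `k ≥ 3`, `q = 2` (THEOREM K3, helper474 #22123, #22451, #23133): the end over `EK3.Fr` (helper520)

* `HU B W Z z` : the property (U): `[R, W i] ≤ Zᶜ = ⟨Z l : l ≠ j⟩` for the minimal parabolics `R` over `B` in `YY z j` which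
  move `z j`, and for `N(B)`;
* `Fr.eq_Yc`, `Fr.eq_Nc` : the groups of `BaseE`;
* `Fr.gInT` : the input of THEOREM KL, from the output `F` of STAR;
* **`Fr.false`** : `Fr`, `NLoc (D ⊔ ⨆ L i)`, `HU` : contradiction, from THEOREM ML and THEOREM KL.
-/

set_option autoImplicit false
set_option linter.unusedSectionVars false

namespace Cfsg.Agent.Omega.EK3

open Subgroup Cfsg Cfsg.Agent.ZN.ChoiceBase
open Cfsg.Agent.ZN (zc zl o2)
open Cfsg.Agent.Omega.OM Cfsg.Agent.Omega.OM.Uni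
open Cfsg.Agent.Omega.NO3S.EThree.Frame
open Cfsg.Agent.Omega.Node.MultiOf
open Cfsg.Agent.MinSimple.MinParabolic (IsMinPar)
open Cfsg.Agent.Omega.EK3.StarE (EE EE_mono le_EE norm_EE)
open Cfsg.Agent.Omega.EK3.Two (Zs Nn)

universe u

variable {G : Type u} [Group G]

/-- **(U)** -/
def HU (B : Subgroup G) {k : ℕ} (W Z : Fin k → Subgroup G) (z : Fin k → G) : Prop :=
  ∀ i j, i ≠ j →
    (∀ R : Subgroup G, IsMinPar B R → R ≤ YY z j → R ≤ normalizer (W j : Set G) →
      ¬ R ≤ centralizer (Z j : Set G) → ∀ r ∈ R, ∀ v ∈ W i, r * v * r⁻¹ * v⁻¹ ∈ Zs Z j) ∧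
      ∀ g ∈ YY z j ⊓ normalizer (B : Set G), ∀ v ∈ W i, g * v * g⁻¹ * v⁻¹ ∈ Zs Z j

namespace Fr

variable [Finite G] {S : Sylow 2 G} {P K B ZJ : Subgroup G} {k : ℕ} {L W Z C : Fin k → Subgroup G}
    {z : Fin k → G} (h : Fr S P K B ZJ L W Z C z)

theorem eq_Yc (z : Fin k → G) (j : Fin k) : YY z j = Yc z j := EK3.eq_Yc fun _ => mem_YY

theorem eq_Nc (z : Fin k → G) (j : Fin k) : NN z j = Nc z j := by
  unfold NN Nc
  rw [eq_Yc]

include h

/-- some `p ∈ W i - Z i` -/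
theorem exists_p (i : Fin k) : ∃ p ∈ W i, p ∉ Z i := by
  by_contra hcon
  push Not at hcon
  have h1 : Nat.card (W i) ≤ Nat.card (Z i) := Nat.card_le_card_of_injective _ (inclusion_injective hcon)
  rw [h.card_W, h.bg.fr.cardZ] at h1
  omega

/-- **The input of THEOREM KL.** -/
theorem gInT (hU : HU B W Z z) {i j : Fin k} {F : Subgroup G} (o : StarOut ZJ W z i j F) {p : G} (hp : p ∈ W i)
    (hpZ : p ∉ Z i) :
    KL.PlugGT.GInT B (YY z j) (Nn W Z (YY z j) (NN z j) i j) (Zs Z j) (W j ⊔ Zs Z j)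
      (YY z j ⊓ normalizer (W i : Set G)) F (z j) p := by
  have hk : ∀ i j : Fin k, ∃ l, l ≠ i ∧ l ≠ j := fun i j => by
    obtain ⟨l, hl⟩ := MainS.exists_third h.three i j
    rw [Set.mem_compl_iff, Set.mem_insert_iff, Set.mem_singleton_iff, not_or] at hl
    exact ⟨l, hl.1, hl.2⟩
  have hNE : NN z j ≤ EE ZJ (YY z i ⊔ YY z j) := by
    rw [eq_Nc, eq_Yc, eq_Yc]
    exact N_le_E' h.bg h.hz hk i j
  have hWE : W i ≤ EE ZJ (YY z i ⊔ YY z j) := by
    rw [eq_Yc, eq_Yc]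
    exact (W_le_EE h.bg h.hz i).trans (EE_mono le_sup_left)
  have hE : IsElementaryAbelian 2 (EE ZJ (YY z i ⊔ YY z j)) := by
    rw [eq_Yc, eq_Yc]
    exact eab_EE h.bg h.hz hk i j
  have t := Two.gT h.bg h.hz o.ne (fun _ => mem_YY) (h.syl j) (h.stab j)
    (fun R hR hRY hm => by
      rcases h.par hR hRY with h1 | h1
      · obtain ⟨r, hr, hne⟩ := hm
        exact absurd (mem_centralizer_singleton_iff.1 (h.D_le_C j (h1 hr))) hne
      · exact h1.1)
    (fun R hR hRY hm => by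
      obtain ⟨r, hr, hne⟩ := hm
      have hD : ¬ R ≤ centralizer (ZJ : Set G) := fun h1 =>
        hne (mem_centralizer_singleton_iff.1 (h.D_le_C j (h1 hr)))
      refine (hU i j o.ne).1 R hR hRY ((h.par hR hRY).resolve_left hD).1 fun h1 => hne ?_
      exact (mem_centralizer_iff.1 (h1 hr) _ (h.mem_Z j)).symm)
    (fun g hg hgB => (hU i j o.ne).2 g ⟨hg, hgB⟩) hE (le_sup_right.trans (norm_EE ZJ _)) hWE hNE (le_EE _ _)
    (mem_NN z j) (le_normalizer_NN z j) (h.W_le_NN j) (fun U h1 h2 => NN_le h1 h2) o.el o.FO o.low o.mv o.cent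
    (o.ex _ hNE le_rfl).ge (h.kgroup j) hp hpZ
  exact ⟨t.TC, t.two, t.syl, t.sq, t.CN, t.ZN, t.CZ, t.xN, t.pN, t.gen, t.cA, t.stx, t.sty, t.SyC, t.x1, t.p1, t.xp,
    t.ZW, t.WN, t.xW, t.cW, t.nx, t.ny, t.uni, t.el, t.Ax, t.Ay, t.mv, t.ex, t.KC⟩

/-- **(E), `k ≥ 3`, `q = 2`, over `Fr`.** -/
theorem false (hML : ML.Final.MLK.{u, u}) (hKL : KL.Quo.NoInp.{u, u})
    (hn : NLoc (centralizer (ZJ : Set G) ⊔ ⨆ i, L i)) (hU : HU B W Z z) : False := by
  obtain ⟨i, j, F, o⟩ := h.exists_star hML hn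
  obtain ⟨p, hp, hpZ⟩ := h.exists_p i
  exact (h.gInT hU o hp hpZ).false hML hKL

end Fr

end Cfsg.Agent.Omega.EK3

end

section


/-!
# (E), `k ≥ 3`, `q = 2`: the end over `Mul` (helper520)

* `Fr.uIn` : the frame of `EK3.UFix` from `EK3.Fr`;
* `hU_of` : (U) from `Mul` and `UniTwo`;
* **`efrK_of`** : `OfMul.EFrK K` from THEOREM ML and THEOREM KL; **`eOf_three_of`** : `EOf K (3 ≤ k ∧ q = 2)`.
-/

set_option autoImplicit false
set_option linter.unusedSectionVars false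

namespace Cfsg.Agent.Omega.EK3

open Subgroup Cfsg Cfsg.Agent.ZN.ChoiceBase
open Cfsg.Agent.ZN (zc zl o2)
open Cfsg.Agent.Omega.OM Cfsg.Agent.Omega.OM.Uni
open Cfsg.Agent.Omega.NO3S.EThree.Frame
open Cfsg.Agent.Omega.Node.MultiOf
open Cfsg.Agent.Omega.Frame (Cls)
open Cfsg.Agent.MinSimple.MinParabolic (IsMinPar)

universe u

theorem Fr.uIn {G : Type u} [Group G] [Finite G] {S : Sylow 2 G} {P K B ZJ : Subgroup G} {k : ℕ}
    {L W Z C : Fin k → Subgroup G} {z : Fin k → G} (h : Fr S P K B ZJ L W Z C z) {i j : Fin k} (hij : i ≠ j) :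
    UFix.UIn S P B ZJ L W Z C i j (YY z j) where
  bg := h.bg
  ij := hij
  cen := fun l hl => by
    intro y hy
    rw [mem_centralizer_iff]
    intro x hx
    rcases (h.hz l x).1 hx with rfl | rfl
    · simp
    · exact (mem_YY.1 hy l hl).symm
  PY := fun x hx => mem_YY.2 fun l hl =>
    (mem_centralizer_iff.1 hx.2 _ (h.bg.fr.WjC j l hl.symm (h.mem_W l))).symm
  syl := h.syl j

theorem hU_of {G : Type u} [Group G] [Finite G] {S : Sylow 2 G} {P K B ZJ : Subgroup G} {k : ℕ}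
    {L W Z C : Fin k → Subgroup G} {z : Fin k → G} (h : Fr S P K B ZJ L W Z C z) (hM : Mul S P K B ZJ L W Z C 2)
    (hu : UniTwo B ZJ L W) : HU B W Z z := fun i j hij =>
  ⟨fun R hR hRY hRW hmv =>
    (h.uIn hij).uni_of hM (by have := h.three; omega) hu hR hRY hRW hmv, (h.uIn hij).nB_of⟩

/-- **(E), `k ≥ 3`, `q = 2`, over `Mul`, UNI+ and block generation.** -/
theorem efrK_of (hML : ML.Final.MLK.{u, u}) (hKL : KL.Quo.NoInp.{u, u}) (K : Cls.{u}) : OfMul.EFrK K := by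
  intro G _ _ _ S P K' B ZJ k L W Z C hk hM hn hu hb
  obtain ⟨z, h⟩ := exists_fr hM hk hu hb
  exact (h.false hML hKL (nonloc_of hu hn) (hU_of h hM hu)).elim

/-- **(E), `k ≥ 3`, `q = 2`.** -/
theorem eOf_three_of (hML : ML.Final.MLK.{u, u}) (hKL : KL.Quo.NoInp.{u, u}) {K : Cls.{u}}
    (hL : OfMul.UniLevK K) : EOf K fun k q => 3 ≤ k ∧ q = 2 :=
  OfMul.eOf_three hL (efrK_of hML hKL K)

end Cfsg.Agent.Omega.EK3

end

section


/-!
# (E), `k ≥ 3`, `q = 2`: the end over the general frame `MulG` (`HypL` and the case (L) of GammaFF)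

* `hU_G` : (U) from `MulG` and `UniV`;
* **`false_G`** : the end with the weakest hypotheses (UNI+ for blocks with module in `V_P`);
* **`eEndK_of`** : `MulC.EEndK K` from THEOREM ML and THEOREM KL; `efrK_of_G` : `OfMul.EFrK K`;
  `eC_three_of` : the case (L).
-/

set_option autoImplicit false
set_option linter.unusedSectionVars false

namespace Cfsg.Agent.Omega.EK3

open Subgroup Cfsg Cfsg.Agent.ZN.ChoiceBase
open Cfsg.Agent.Omega.OM Cfsg.Agent.Omega.OM.Uni
open Cfsg.Agent.Omega.NO3S.EThree.Frame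
open Cfsg.Agent.Omega.Node.MultiOf Cfsg.Agent.Omega.Node.MulG
open Cfsg.Agent.Omega.Node
open Cfsg.Agent.Omega.Frame (Cls)
open Cfsg.Agent.ZN (zc zl o2)
open Cfsg.Agent.ZN.ChoiceSit (Syl)
open Cfsg.Agent.MinSimple.MinParabolic (IsMinPar)

universe u

theorem hU_G {G : Type u} [Group G] [Finite G] {S : Sylow 2 G} {P K B ZJ : Subgroup G} {k : ℕ}
    {L W Z C : Fin k → Subgroup G} {z : Fin k → G} (h : Fr S P K B ZJ L W Z C z) (hM : MulG S P K B ZJ L W Z C 2)
    (hu : UniV S P B ZJ L W) : HU B W Z z := fun i j hij =>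
  ⟨fun R hR hRY hRW hmv =>
    (UFix.UIn.of_fr h hij).uni_of_G hM (by have := h.three; omega) hu hR hRY hRW hmv,
    (UFix.UIn.of_fr h hij).nB_of⟩

/-- **(E), `k ≥ 3`, `q = 2`, over `MulG`, the weakest form**: UNI+ only for the blocks with module in `V_P`, block
generation only for the minimal parabolics `R` over `B` in `C_G(Z l : l ≠ j)`, `⟨C_G(Z_J), L_1, .., L_k⟩` nonlocal. -/
theorem false_G {G : Type u} [Group G] [Finite G] {S : Sylow 2 G} {P K B ZJ : Subgroup G} {k : ℕ}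
    {L W Z C : Fin k → Subgroup G} (hML : ML.Final.MLK.{u, u}) (hKL : KL.Quo.NoInp.{u, u})
    (hM : MulG S P K B ZJ L W Z C 2) (hk : 3 ≤ k) (hu : UniV S P B ZJ L W)
    (hb : ∀ (j : Fin k) (R : Subgroup G), (∀ l, l ≠ j → R ≤ centralizer (Z l : Set G)) → IsMinPar B R → Syl B R →
      R ⊓ centralizer (o2 R : Set G) ≤ o2 R → ¬ K ≤ o2 R → ¬ R ≤ centralizer (zc B : Set G) →
      ∃ L' V' : Subgroup G, FBl B L' V' ∧ V' ≤ zl (S : Subgroup G) P ∧ L' ≤ R ∧ R ≤ L' ⊔ B)
    (hn : NLoc (centralizer (ZJ : Set G) ⊔ ⨆ i, L i)) : False := by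
  obtain ⟨z, h⟩ := exists_fr_V hM.bg hM.lb hk hu hb
  exact h.false hML hKL hn (hU_G h hM hu)

/-- **(E), `k ≥ 3`, `q = 2`, over `MulG`, UNI+ and block generation.** -/
theorem eEndK_of (hML : ML.Final.MLK.{u, u}) (hKL : KL.Quo.NoInp.{u, u}) (K : Cls.{u}) : MulC.EEndK K := by
  intro G _ _ _ S P K' B ZJ k L W Z C hk hM hn hu hb
  obtain ⟨z, h⟩ := exists_fr_G hM hk hu hb
  exact (h.false hML hKL (nonloc_of hu hn) (hU_G h hM hu.toV)).elim

theorem efrK_of_G (hML : ML.Final.MLK.{u, u}) (hKL : KL.Quo.NoInp.{u, u}) (K : Cls.{u}) : OfMul.EFrK K :=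
  MulC.eFrK_of_end (eEndK_of hML hKL K)

/-- **the case (L), `k ≥ 3`, `q = 2`** -/
theorem eC_three_of (hML : ML.Final.MLK.{u, u}) (hKL : KL.Quo.NoInp.{u, u}) {K : Cls.{u}} (hU : MulC.UniC K) :
    MulC.EC K fun k q => 3 ≤ k ∧ q = 2 :=
  MulC.eC_three hU (eEndK_of hML hKL K)

end Cfsg.Agent.Omega.EK3

end

section


/-!
# LINE INEQUALITY (bb OMEGA #22703 (0''))

`W` abelian, generated by subgroups `V i`, each a module with one full root group (`Uni.Md`) for a group `B i ≥ A`.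
Then `|A : C_A(W)| ≤ |W : C_W(A)|`.
-/

set_option autoImplicit false

namespace Cfsg.Agent.Omega.EK3

open Subgroup Cfsg Cfsg.Agent.ZN.ChoiceBase
open Cfsg.Agent.Omega.SQ1.Bau (card_sup_comm elem_comm)
open Cfsg.Agent.Omega.OM.Uni (Md)

universe u

variable {G : Type u} [Group G] [Finite G]

/-- **LINE INEQUALITY**: `|A| |C_W(A)| ≤ |W| |C_A(W)|`. -/
theorem line_ineq {ι : Sort*} {B V Z : ι → Subgroup G} {q : ℕ} (hM : ∀ i, Md (B i) (V i) (Z i) q) {W : Subgroup G}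
    (hVW : ∀ i, V i ≤ W) (hW : W ≤ ⨆ i, V i) (hWc : ∀ x ∈ W, ∀ y ∈ W, x * y = y * x) {A : Subgroup G}
    (hA : ∀ i, A ≤ B i) :
    Nat.card A * Nat.card ↥(W ⊓ centralizer (A : Set G)) ≤ Nat.card W * Nat.card ↥(A ⊓ centralizer (W : Set G)) := by
  induction hn : Nat.card A using Nat.strong_induction_on generalizing A with
  | _ n ih =>
    subst hn
    by_cases hcase : ∀ i, ∀ a ∈ A, ∀ v ∈ V i, a * v = v * a
    · have h1 : A ≤ centralizer (W : Set G) := by
        have h2 : W ≤ centralizer (A : Set G) := hW.trans (iSup_le fun i v hv =>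
          mem_centralizer_iff.2 fun a ha => hcase i a ha v hv)
        exact fun a ha => mem_centralizer_iff.2 fun w hw => (mem_centralizer_iff.1 (h2 hw) a ha).symm
      rw [inf_eq_left.2 h1, mul_comm (Nat.card W)]
      exact Nat.mul_le_mul_left _ (Subgroup.card_le_of_le inf_le_left)
    · push Not at hcase
      obtain ⟨i, a₀, ha₀, v₀, hv₀, hne⟩ := hcase
      set A₁ := A ⊓ centralizer (V i : Set G) with hA₁
      set X := W ⊓ centralizer (A : Set G) with hX
      have hlt : Nat.card A₁ < Nat.card A := by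
        rcases lt_or_eq_of_le (Subgroup.card_le_of_le (inf_le_left : A₁ ≤ A)) with h1 | h1
        · exact h1
        · exfalso
          have h2 : A₁ = A := Subgroup.eq_of_le_of_card_ge inf_le_left h1.ge
          rw [← h2] at ha₀
          exact hne (mem_centralizer_iff.1 ha₀.2 v₀ hv₀).symm
      have h1 := ih _ hlt (A := A₁) (fun j => inf_le_left.trans (hA j)) rfl
      have h2 : A₁ ⊓ centralizer (W : Set G) ≤ A ⊓ centralizer (W : Set G) := inf_le_inf_right _ inf_le_left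
      have h3 : Nat.card A ≤ q * Nat.card A₁ := (hM i).card_le (hA i)
      -- `|V X| ≥ q |X|`
      have h4 := card_sup_comm (A := V i) (B := X) fun x hx y hy => hWc x (hVW i hx) y (mem_inf.1 hy).1
      have h5 : V i ⊓ X ≤ Z i := by
        intro x hx
        have hx' := mem_inf.1 hx
        exact (hM i).mem_Z (hA i ha₀) (fun h => hne (h v₀ hv₀)) hx'.1
          (mem_centralizer_iff.1 (mem_inf.1 hx'.2).2 a₀ ha₀)
      have h6 : q * Nat.card X ≤ Nat.card ↥(V i ⊔ X) := by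
        have hp : 0 < Nat.card (Z i) := Nat.card_pos
        refine Nat.le_of_mul_le_mul_right ?_ hp
        calc q * Nat.card X * Nat.card (Z i) = Nat.card (V i) * Nat.card X := by rw [(hM i).card]; ring
          _ = Nat.card ↥(V i ⊔ X) * Nat.card ↥(V i ⊓ X) := h4.symm
          _ ≤ Nat.card ↥(V i ⊔ X) * Nat.card (Z i) := Nat.mul_le_mul_left _ (Subgroup.card_le_of_le h5)
      have h7 : V i ⊔ X ≤ W ⊓ centralizer (A₁ : Set G) := by
        refine sup_le (le_inf (hVW i) fun v hv => mem_centralizer_iff.2 fun a ha => ?_)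
          (inf_le_inf_left _ (centralizer_le inf_le_left))
        exact (mem_centralizer_iff.1 (mem_inf.1 ha).2 v hv).symm
      calc Nat.card A * Nat.card X ≤ (q * Nat.card A₁) * Nat.card X := Nat.mul_le_mul_right _ h3
        _ = Nat.card A₁ * (q * Nat.card X) := by ring
        _ ≤ Nat.card A₁ * Nat.card ↥(W ⊓ centralizer (A₁ : Set G)) :=
          Nat.mul_le_mul_left _ (h6.trans (Subgroup.card_le_of_le h7))
        _ ≤ Nat.card W * Nat.card ↥(A₁ ⊓ centralizer (W : Set G)) := h1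
        _ ≤ _ := Nat.mul_le_mul_left _ (Subgroup.card_le_of_le h2)

omit [Finite G] in
theorem card_mul_relIdx {H K : Subgroup G} (h : H ≤ K) : Nat.card H * H.relIndex K = Nat.card K := by
  rw [← Nat.card_congr (Subgroup.subgroupOfEquivOfLe h).toEquiv, relIndex, Subgroup.card_mul_index]

/-- LINE INEQUALITY, in terms of indices. -/
theorem line_relIndex {ι : Sort*} {B V Z : ι → Subgroup G} {q : ℕ} (hM : ∀ i, Md (B i) (V i) (Z i) q)
    {W : Subgroup G} (hVW : ∀ i, V i ≤ W) (hW : W ≤ ⨆ i, V i) (hWc : ∀ x ∈ W, ∀ y ∈ W, x * y = y * x)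
    {A : Subgroup G} (hA : ∀ i, A ≤ B i) :
    (centralizer (W : Set G)).relIndex A ≤ (centralizer (A : Set G)).relIndex W := by
  have h1 := line_ineq hM hVW hW hWc hA
  have h2 : Nat.card ↥(A ⊓ centralizer (W : Set G)) * (centralizer (W : Set G)).relIndex A = Nat.card A := by
    rw [inf_comm, ← Subgroup.inf_relIndex_right (centralizer (W : Set G)) A]
    exact card_mul_relIdx inf_le_right
  have h3 : Nat.card ↥(W ⊓ centralizer (A : Set G)) * (centralizer (A : Set G)).relIndex W = Nat.card W := by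
    rw [inf_comm, ← Subgroup.inf_relIndex_right (centralizer (A : Set G)) W]
    exact card_mul_relIdx inf_le_right
  rw [← h2, ← h3] at h1
  have hp : 0 < Nat.card ↥(A ⊓ centralizer (W : Set G)) * Nat.card ↥(W ⊓ centralizer (A : Set G)) :=
    Nat.mul_pos Nat.card_pos Nat.card_pos
  refine Nat.le_of_mul_le_mul_left ?_ hp
  calc _ = Nat.card ↥(A ⊓ centralizer (W : Set G)) * (centralizer (W : Set G)).relIndex A *
        Nat.card ↥(W ⊓ centralizer (A : Set G)) := by ring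
    _ ≤ _ := h1
    _ = _ := by ring

end Cfsg.Agent.Omega.EK3

end
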